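import Mathlib

/-!
Elements of the mapping cone of a morphism of complexes of modules.
-/

namespace Groth.Agent.CechX

universe u

open CategoryTheory CategoryTheory.Limits CochainComplex CochainComplex.HomComplex

variable {R : Type u} [CommRing R] {K L : CochainComplex (ModuleCat.{u} R) ℤ} (φ : K ⟶ L)

/-- First component of an element of the cone. -/
noncomputable def c1 (p q : ℤ) (h : p + 1 = q) : ↑((mappingCone φ).X p) →ₗ[R] ↑(K.X q) :=
  ((mappingCone.fst φ).1.v p q h).hom

/-- Second component of an element of the cone. -/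
noncomputable def c2 (p : ℤ) : ↑((mappingCone φ).X p) →ₗ[R] ↑(L.X p) :=
  ((mappingCone.snd φ).v p p (add_zero p)).hom

/-- An element of the cone from its components. -/
noncomputable def cmk (p q : ℤ) (h : p + 1 = q) (x : K.X q) (y : L.X p) : (mappingCone φ).X p :=
  (mappingCone.inl φ).v q p (by lia) x + (mappingCone.inr φ).f p y

variable {φ}

theorem c1_cmk {p q : ℤ} (h : p + 1 = q) (x : K.X q) (y : L.X p) : c1 φ p q h (cmk φ p q h x y) = x := by
  rw [cmk, map_add]
  refine (congrArg₂ (· + ·) (congrArg (fun f => f.hom x) (mappingCone.inl_v_fst_v φ q p h))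
    (congrArg (fun f => f.hom y) (mappingCone.inr_f_fst_v φ p q h))).trans ?_
  exact add_zero x

theorem c2_cmk {p q : ℤ} (h : p + 1 = q) (x : K.X q) (y : L.X p) : c2 φ p (cmk φ p q h x y) = y := by
  rw [cmk, map_add]
  refine (congrArg₂ (· + ·) (congrArg (fun f => f.hom x) (mappingCone.inl_v_snd_v φ q p (by lia)))
    (congrArg (fun f => f.hom y) (mappingCone.inr_f_snd_v φ p))).trans ?_
  exact zero_add y

theorem cmk_c {p q : ℤ} (h : p + 1 = q) (z : (mappingCone φ).X p) :
    cmk φ p q h (c1 φ p q h z) (c2 φ p z) = z :=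
  congrArg (fun f => f.hom z) (mappingCone.id_X φ p q h)

theorem cone_ext {p q : ℤ} (h : p + 1 = q) {z w : (mappingCone φ).X p}
    (h₁ : c1 φ p q h z = c1 φ p q h w) (h₂ : c2 φ p z = c2 φ p w) : z = w := by
  rw [← cmk_c h z, ← cmk_c h w, h₁, h₂]

theorem c1_d {p q r : ℤ} (hpq : p + 1 = q) (hqr : q + 1 = r) (z : (mappingCone φ).X p) :
    c1 φ q r hqr ((mappingCone φ).d p q z) = -K.d q r (c1 φ p q hpq z) :=
  (congrArg (fun f => f.hom z) (mappingCone.d_fst_v φ p q r hpq hqr)).trans (by simp; rfl)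

theorem c2_d {p q : ℤ} (hpq : p + 1 = q) (z : (mappingCone φ).X p) :
    c2 φ q ((mappingCone φ).d p q z) = φ.f q (c1 φ p q hpq z) + L.d p q (c2 φ p z) :=
  congrArg (fun f => f.hom z) (mappingCone.d_snd_v φ p q hpq)

section Map

variable {K' L' : CochainComplex (ModuleCat.{u} R) ℤ} {φ' : K' ⟶ L'} (a : K ⟶ K') (b : L ⟶ L')
  (w : φ ≫ b = a ≫ φ')

theorem map_apply {p q : ℤ} (h : p + 1 = q) (z : (mappingCone φ).X p) :
    (mappingCone.map φ φ' a b w).f p z = cmk φ' p q h (a.f q (c1 φ p q h z)) (b.f p (c2 φ p z)) := by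
  have e : (mappingCone.map φ φ' a b w).f p = (mappingCone.fst φ).1.v p q h ≫ a.f q ≫
      (mappingCone.inl φ').v q p (by lia) + (mappingCone.snd φ).v p p (add_zero p) ≫ b.f p ≫
        (mappingCone.inr φ').f p := by
    rw [mappingCone.map, mappingCone.desc_f _ _ _ _ p q h]
    simp
  rw [e]
  rfl

theorem c1_map {p q : ℤ} (h : p + 1 = q) (z : (mappingCone φ).X p) :
    c1 φ' p q h ((mappingCone.map φ φ' a b w).f p z) = a.f q (c1 φ p q h z) := by
  rw [map_apply a b w h, c1_cmk]

theorem c2_map (p : ℤ) (z : (mappingCone φ).X p) :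
    c2 φ' p ((mappingCone.map φ φ' a b w).f p z) = b.f p (c2 φ p z) := by
  rw [map_apply a b w (rfl : p + 1 = p + 1), c2_cmk]

end Map

end Groth.Agent.CechX
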