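import Mathlib

/-!
Elementwise homology of `ℤ`-indexed cochain complexes of modules.
-/

namespace Groth.Agent.CechX

universe u

open CategoryTheory CategoryTheory.Limits

variable {R : Type u} [CommRing R] {K L M : CochainComplex (ModuleCat.{u} R) ℤ}

theorem exists_cycle (K : CochainComplex (ModuleCat.{u} R) ℤ) (p : ℤ) (x : K.X p)
    (hx : K.d p (p + 1) x = 0) : ∃ z : K.cycles p, K.iCycles p z = x := by
  let k : ModuleCat.of R R ⟶ K.X p := ModuleCat.ofHom (LinearMap.toSpanSingleton R (K.X p) x)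
  have hk : k ≫ K.d p (p + 1) = 0 := by
    refine ModuleCat.hom_ext (LinearMap.ext_ring ?_)
    show K.d p (p + 1) ((1 : R) • x) = 0
    rw [one_smul, hx]
  refine ⟨K.liftCycles k (p + 1) (by simp) hk (1 : R), ?_⟩
  refine (congrArg (fun φ => φ.hom (1 : R)) (K.liftCycles_i k (p + 1) (by simp) hk)).trans ?_
  exact one_smul R x

theorem iCycles_injective (K : CochainComplex (ModuleCat.{u} R) ℤ) (p : ℤ) :
    Function.Injective (K.iCycles p).hom :=
  (ModuleCat.mono_iff_injective _).1 inferInstance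

/-- The cocycle given by an element. -/
noncomputable def cyc (K : CochainComplex (ModuleCat.{u} R) ℤ) (p : ℤ) :
    LinearMap.ker (K.d p (p + 1)).hom →ₗ[R] ↑(K.cycles p) where
  toFun x := (exists_cycle K p x.1 x.2).choose
  map_add' x y := iCycles_injective K p (by
    rw [map_add, (exists_cycle K p x.1 x.2).choose_spec, (exists_cycle K p y.1 y.2).choose_spec,
      (exists_cycle K p (x + y).1 (x + y).2).choose_spec]
    rfl)
  map_smul' r x := iCycles_injective K p (by
    rw [map_smul, (exists_cycle K p x.1 x.2).choose_spec,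
      (exists_cycle K p (r • x).1 (r • x).2).choose_spec]
    rfl)

theorem iCycles_cyc (p : ℤ) (x : LinearMap.ker (K.d p (p + 1)).hom) : K.iCycles p (cyc K p x) = x.1 :=
  (exists_cycle K p x.1 x.2).choose_spec

theorem cyc_surjective (p : ℤ) : Function.Surjective (cyc K p) := fun z =>
  ⟨⟨K.iCycles p z, congrArg (fun φ : K.cycles p ⟶ K.X (p + 1) => φ.hom z) (K.iCycles_d p (p + 1))⟩,
    iCycles_injective K p (iCycles_cyc p _)⟩

/-- The cohomology class of a cocycle. -/
noncomputable def hcls (K : CochainComplex (ModuleCat.{u} R) ℤ) (p : ℤ) :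
    LinearMap.ker (K.d p (p + 1)).hom →ₗ[R] ↑(K.homology p) :=
  (K.homologyπ p).hom.comp (cyc K p)

theorem hcls_surjective (p : ℤ) : Function.Surjective (hcls K p) :=
  ((ModuleCat.epi_iff_surjective (K.homologyπ p)).1 inferInstance).comp (cyc_surjective p)

theorem hcls_eq_zero_iff (p q : ℤ) (hqp : q + 1 = p) (x : LinearMap.ker (K.d p (p + 1)).hom) :
    hcls K p x = 0 ↔ ∃ y, K.d q p y = x.1 := by
  have hprev : (ComplexShape.up ℤ).prev p = q := by subst hqp; simp
  have hex := ShortComplex.exact_of_g_is_cokernel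
    (ShortComplex.mk (K.toCycles q p) (K.homologyπ p) (K.toCycles_comp_homologyπ q p))
    (K.homologyIsCokernel q p hprev)
  rw [ShortComplex.moduleCat_exact_iff] at hex
  constructor
  · intro h
    obtain ⟨y, hy⟩ := hex (cyc K p x) h
    exact ⟨y, ((congrArg (fun φ => φ.hom y) (K.toCycles_i q p)).symm.trans
      (congrArg (K.iCycles p).hom hy)).trans (iCycles_cyc p x)⟩
  · rintro ⟨y, hy⟩
    have h : K.toCycles q p y = cyc K p x := iCycles_injective K p
      ((congrArg (fun φ => φ.hom y) (K.toCycles_i q p)).trans (hy.trans (iCycles_cyc p x).symm))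
    show K.homologyπ p (cyc K p x) = 0
    rw [← h]
    exact congrArg (fun φ => φ.hom y) (K.toCycles_comp_homologyπ q p)

/-- A morphism of complexes on cocycles. -/
theorem map_mem_ker (f : K ⟶ L) (p : ℤ) {x : K.X p} (hx : K.d p (p + 1) x = 0) :
    L.d p (p + 1) (f.f p x) = 0 := by
  rw [← ConcreteCategory.comp_apply, f.comm, ConcreteCategory.comp_apply, hx, map_zero]

theorem map_hcls (f : K ⟶ L) (p : ℤ) (x : LinearMap.ker (K.d p (p + 1)).hom) :
    HomologicalComplex.homologyMap f p (hcls K p x) =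
      hcls L p ⟨f.f p x.1, map_mem_ker f p x.2⟩ := by
  refine (congrArg (fun φ => φ.hom (cyc K p x)) (HomologicalComplex.homologyπ_naturality f p)).trans ?_
  show L.homologyπ p (HomologicalComplex.cyclesMap f p (cyc K p x)) = L.homologyπ p (cyc L p _)
  refine congrArg _ (iCycles_injective L p ?_)
  refine (congrArg (fun φ => φ.hom (cyc K p x)) (HomologicalComplex.cyclesMap_i f p)).trans ?_
  exact (congrArg (f.f p).hom (iCycles_cyc p x)).trans (iCycles_cyc (K := L) p ⟨f.f p x.1, map_mem_ker f p x.2⟩).symm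

theorem isZero_homology_iff (p q : ℤ) (hqp : q + 1 = p) :
    IsZero (K.homology p) ↔ ∀ x, K.d p (p + 1) x = 0 → ∃ y, K.d q p y = x := by
  constructor
  · intro h x hx
    exact (hcls_eq_zero_iff p q hqp ⟨x, hx⟩).1 ((ModuleCat.subsingleton_of_isZero h).elim _ _)
  · intro h
    have : Subsingleton (K.homology p) := subsingleton_of_forall_eq 0 fun c => by
      obtain ⟨x, rfl⟩ := hcls_surjective p c
      exact (hcls_eq_zero_iff p q hqp x).2 (h x.1 x.2)
    exact ModuleCat.isZero_of_subsingleton _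

/-- A quasi-isomorphism, elementwise. -/
structure QIso (f : K ⟶ L) : Prop where
  surj : ∀ (q p : ℤ), q + 1 = p → ∀ x' : L.X p, L.d p (p + 1) x' = 0 →
    ∃ x : K.X p, K.d p (p + 1) x = 0 ∧ ∃ y, L.d q p y = x' - f.f p x
  inj : ∀ (q p : ℤ), q + 1 = p → ∀ x : K.X p, K.d p (p + 1) x = 0 →
    ∀ y', L.d q p y' = f.f p x → ∃ y, K.d q p y = x

theorem QIso.id (K : CochainComplex (ModuleCat.{u} R) ℤ) : QIso (𝟙 K) where
  surj q p _ x' hx' := ⟨x', hx', 0, by simp⟩
  inj q p _ x _ y' hy' := ⟨y', hy'⟩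

theorem QIso.comp {f : K ⟶ L} {g : L ⟶ M} (hf : QIso f) (hg : QIso g) : QIso (f ≫ g) where
  surj q p hqp x' hx' := by
    obtain ⟨x₁, hx₁, y₁, hy₁⟩ := hg.surj q p hqp x' hx'
    obtain ⟨x, hx, y₂, hy₂⟩ := hf.surj q p hqp x₁ hx₁
    refine ⟨x, hx, y₁ + g.f q y₂, ?_⟩
    rw [map_add, hy₁, ← ConcreteCategory.comp_apply, g.comm, ConcreteCategory.comp_apply, hy₂, map_sub,
      HomologicalComplex.comp_f, ConcreteCategory.comp_apply]
    abel
  inj q p hqp x hx y' hy' := by
    obtain ⟨y₁, hy₁⟩ := hg.inj q p hqp (f.f p x) (map_mem_ker f p hx) y' hy'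
    exact hf.inj q p hqp x hx y₁ hy₁

theorem QIso.homologyMap_bijective {f : K ⟶ L} (hf : QIso f) (p : ℤ) :
    Function.Bijective (HomologicalComplex.homologyMap f p).hom := by
  refine ⟨(injective_iff_map_eq_zero _).2 fun c hc => ?_, fun c => ?_⟩
  · obtain ⟨x, rfl⟩ := hcls_surjective p c
    change HomologicalComplex.homologyMap f p (hcls K p x) = 0 at hc
    rw [map_hcls, hcls_eq_zero_iff p (p - 1) (by lia)] at hc
    obtain ⟨y', hy'⟩ := hc
    exact (hcls_eq_zero_iff p (p - 1) (by lia) x).2 (hf.inj _ p (by lia) x.1 x.2 y' hy')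
  · obtain ⟨x', rfl⟩ := hcls_surjective p c
    obtain ⟨x, hx, y, hy⟩ := hf.surj (p - 1) p (by lia) x'.1 x'.2
    refine ⟨hcls K p ⟨x, hx⟩, ?_⟩
    show HomologicalComplex.homologyMap f p (hcls K p ⟨x, hx⟩) = _
    rw [map_hcls, eq_comm, ← sub_eq_zero, ← map_sub, hcls_eq_zero_iff p (p - 1) (by lia)]
    exact ⟨y, hy⟩

/-- The isomorphism in cohomology of an elementwise quasi-isomorphism. -/
noncomputable def QIso.equiv {f : K ⟶ L} (hf : QIso f) (p : ℤ) :
    ↑(K.homology p) ≃ₗ[R] ↑(L.homology p) :=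
  LinearEquiv.ofBijective _ (hf.homologyMap_bijective p)

theorem QIso.of_quasiIso (f : K ⟶ L) [QuasiIso f] : QIso f := by
  have hb : ∀ p, Function.Bijective (HomologicalComplex.homologyMap f p).hom := fun p =>
    (ConcreteCategory.isIso_iff_bijective _).1 inferInstance
  constructor
  · intro q p hqp x' hx'
    obtain ⟨c, hc⟩ := (hb p).2 (hcls L p ⟨x', hx'⟩)
    obtain ⟨x, rfl⟩ := hcls_surjective p c
    change HomologicalComplex.homologyMap f p (hcls K p x) = _ at hc
    rw [map_hcls, eq_comm, ← sub_eq_zero, ← map_sub, hcls_eq_zero_iff p q hqp] at hc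
    exact ⟨x.1, x.2, hc⟩
  · intro q p hqp x hx y' hy'
    refine (hcls_eq_zero_iff p q hqp ⟨x, hx⟩).1 ((injective_iff_map_eq_zero _).1 (hb p).1 _ ?_)
    show HomologicalComplex.homologyMap f p (hcls K p ⟨x, hx⟩) = 0
    rw [map_hcls, hcls_eq_zero_iff p q hqp]
    exact ⟨y', hy'⟩

theorem quasiIso_of_qIso {f : K ⟶ L} (hf : QIso f) : QuasiIso f :=
  ⟨fun p => (quasiIsoAt_iff_isIso_homologyMap f p).2
    ((ConcreteCategory.isIso_iff_bijective _).2 (hf.homologyMap_bijective p))⟩

end Groth.Agent.CechX
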