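import Mathlib
import Groth.Agent.CechX.Homology

/-!
Elements of the mapping cocone of a morphism of complexes of modules.
-/

namespace Groth.Agent.CechX

universe u

open CategoryTheory CategoryTheory.Limits CochainComplex CochainComplex.HomComplex

variable {R : Type u} [CommRing R] {K L : CochainComplex (ModuleCat.{u} R) ℤ} (φ : K ⟶ L)

theorem snd_d (o p q : ℤ) (hop : o + 1 = p) (hpq : p + 1 = q) (z : (mappingCocone φ).X p) :
  (mappingCocone.snd φ).v q p (by lia) ((mappingCocone φ).d p q z) =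
  - φ.f p ((mappingCocone.fst φ).f p z) - L.d o p ((mappingCocone.snd φ).v p o (by lia) z) := by
  obtain rfl : o = p + -1 := by lia
  obtain rfl : q = p + 1 := hpq.symm
  have hf : (mappingCocone.fst φ).f p = ((mappingCone.fst φ).1.v (p + -1) p (by lia)) := by
    simp [mappingCocone.fst, Cochain.leftShift_v (n := 1) _ (-1) 0 (by lia) p p (by lia) (p + -1) (by lia)]
    erw [neg_neg, Category.id_comp]
  have hs : ∀ (a b : ℤ) (h : a + -1 = b), (mappingCocone.snd φ).v a b h =
      (HomologicalComplex.XIsoOfEq (mappingCone φ) (show a + -1 = b from h)).hom ≫ (mappingCone.snd φ).v b b (add_zero b) := by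
    intro a b h
    obtain rfl : b = a + -1 := by lia
    refine (Cochain.leftShift_v (n := 0) (mappingCone.snd φ) (-1) (-1) (by lia) a (a + -1) (by lia) (a + -1) (by lia)).trans ?_
    simp [Int.negOnePow_even 2 ⟨1, rfl⟩]
    erw [Category.id_comp]
  have hd : ((mappingCocone φ).d p (p+1)) = -((mappingCone φ).d (p + -1) (p + 1 + -1)) := by
    simp [mappingCocone]
  have h := congrArg (fun f => f.hom z) (mappingCone.d_snd_v φ (p + -1) p (show p + -1 + 1 = p from hop))
  have h2 := congrArg (fun f => f.hom z) (HomologicalComplex.d_comp_XIsoOfEq_hom (K := mappingCone φ) (show p + 1 + -1 = p from Int.add_neg_cancel_right p 1) (p + -1))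
  rw [hf, hs, hs, hd]
  show (mappingCone.snd φ).v p p (add_zero p) ((HomologicalComplex.XIsoOfEq (mappingCone φ) (show p + 1 + -1 = p from Int.add_neg_cancel_right p 1)).hom (-((mappingCone φ).d (p + -1) (p + 1 + -1) z))) = _
  rw [map_neg, map_neg]
  refine (congrArg (fun t => -(mappingCone.snd φ).v p p (add_zero p) t) h2).trans ?_
  refine (congrArg Neg.neg h).trans ?_
  exact neg_add' _ _

/-- First component. -/
noncomputable def pr1 (p : ℤ) : ↑((mappingCocone φ).X p) →ₗ[R] ↑(K.X p) :=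
  ((mappingCocone.fst φ).f p).hom

/-- Second component. -/
noncomputable def pr2 (q p : ℤ) (h : q + 1 = p) : ↑((mappingCocone φ).X p) →ₗ[R] ↑(L.X q) :=
  ((mappingCocone.snd φ).v p q (by lia)).hom

/-- An element from its components. -/
noncomputable def mk (q p : ℤ) (h : q + 1 = p) (x : K.X p) (y : L.X q) : (mappingCocone φ).X p :=
  (mappingCocone.inl φ).v p p (add_zero p) x + (mappingCocone.inr φ).1.v q p h y

variable {φ}

theorem pr1_mk {q p : ℤ} (h : q + 1 = p) (x : K.X p) (y : L.X q) : pr1 φ p (mk φ q p h x y) = x := by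
  rw [mk, map_add]
  refine (congrArg₂ (· + ·) (congrArg (fun f => f.hom x) (mappingCocone.inl_v_fst_f φ p))
    (congrArg (fun f => f.hom y) (mappingCocone.inr_v_fst_f φ q p h))).trans ?_
  exact add_zero x

theorem pr2_mk {q p : ℤ} (h : q + 1 = p) (x : K.X p) (y : L.X q) : pr2 φ q p h (mk φ q p h x y) = y := by
  rw [mk, map_add]
  refine (congrArg₂ (· + ·) (congrArg (fun f => f.hom x) (mappingCocone.inl_v_snd_v φ p q (by lia)))
    (congrArg (fun f => f.hom y) (mappingCocone.inr_v_snd_v φ q p h))).trans ?_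
  exact zero_add y

theorem mk_pr {q p : ℤ} (h : q + 1 = p) (z : (mappingCocone φ).X p) :
    mk φ q p h (pr1 φ p z) (pr2 φ q p h z) = z :=
  congrArg (fun f => f.hom z) (mappingCocone.id_X φ p q (by lia))

theorem ext {q p : ℤ} (h : q + 1 = p) {z w : (mappingCocone φ).X p}
    (h₁ : pr1 φ p z = pr1 φ p w) (h₂ : pr2 φ q p h z = pr2 φ q p h w) : z = w := by
  rw [← mk_pr h z, ← mk_pr h w, h₁, h₂]

theorem pr1_d (p q : ℤ) (z : (mappingCocone φ).X p) :
    pr1 φ q ((mappingCocone φ).d p q z) = K.d p q (pr1 φ p z) :=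
  (congrArg (fun f => f.hom z) ((mappingCocone.fst φ).comm p q)).symm

theorem pr2_d {o p q : ℤ} (hop : o + 1 = p) (hpq : p + 1 = q) (z : (mappingCocone φ).X p) :
    pr2 φ p q hpq ((mappingCocone φ).d p q z) = -φ.f p (pr1 φ p z) - L.d o p (pr2 φ o p hop z) :=
  snd_d φ o p q hop hpq z

theorem d_mk {o p q : ℤ} (hop : o + 1 = p) (hpq : p + 1 = q) (x : K.X p) (y : L.X o) :
    (mappingCocone φ).d p q (mk φ o p hop x y) = mk φ p q hpq (K.d p q x) (-φ.f p x - L.d o p y) := by
  refine ext hpq ?_ ?_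
  · rw [pr1_d, pr1_mk, pr1_mk]
  · rw [pr2_d hop, pr1_mk, pr2_mk, pr2_mk]

theorem d_eq_zero_iff {o p q : ℤ} (hop : o + 1 = p) (hpq : p + 1 = q) (z : (mappingCocone φ).X p) :
    (mappingCocone φ).d p q z = 0 ↔
      K.d p q (pr1 φ p z) = 0 ∧ φ.f p (pr1 φ p z) + L.d o p (pr2 φ o p hop z) = 0 := by
  constructor
  · intro h
    refine ⟨by rw [← pr1_d, h, map_zero], ?_⟩
    have := pr2_d hop hpq z
    rw [h, map_zero, ← neg_add', eq_comm, neg_eq_zero] at this
    exact this
  · rintro ⟨h₁, h₂⟩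
    refine ext hpq ?_ ?_
    · rw [pr1_d, h₁, map_zero]
    · rw [pr2_d hop, map_zero, ← neg_add', h₂, neg_zero]

section Map

variable {K' L' : CochainComplex (ModuleCat.{u} R) ℤ} {φ' : K' ⟶ L'} (a : K ⟶ K') (b : L ⟶ L')
  (w : φ ≫ b = a ≫ φ')

/-- The component of `coconeMap`. -/
noncomputable def coconeMapF (p : ℤ) : (mappingCocone φ).X p ⟶ (mappingCocone φ').X p :=
  (mappingCocone.fst φ).f p ≫ a.f p ≫ (mappingCocone.inl φ').v p p (add_zero p) +
    (mappingCocone.snd φ).v p (p - 1) (by lia) ≫ b.f (p - 1) ≫ (mappingCocone.inr φ').1.v (p - 1) p (by lia)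

theorem coconeMapF_apply {q p : ℤ} (h : q + 1 = p) (z : (mappingCocone φ).X p) :
    coconeMapF a b p z = mk φ' q p h (a.f p (pr1 φ p z)) (b.f q (pr2 φ q p h z)) := by
  obtain rfl : q = p - 1 := by lia
  rfl

include w in
theorem comm_apply (p : ℤ) (x : K.X p) : b.f p (φ.f p x) = φ'.f p (a.f p x) :=
  congrArg (fun f => (f.f p).hom x) w

/-- Functoriality of the mapping cocone. -/
noncomputable def coconeMap : mappingCocone φ ⟶ mappingCocone φ' where
  f := coconeMapF a b
  comm' p q (hpq : p + 1 = q) := by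
    refine ModuleCat.hom_ext (LinearMap.ext fun z => ?_)
    show (mappingCocone φ').d p q (coconeMapF a b p z) = coconeMapF a b q ((mappingCocone φ).d p q z)
    rw [coconeMapF_apply a b (sub_add_cancel p 1), coconeMapF_apply a b hpq, d_mk _ hpq, pr1_d,
      pr2_d (sub_add_cancel p 1) hpq]
    have ea := congrArg (fun f => f.hom (pr1 φ p z)) (a.comm p q)
    have eb := congrArg (fun f => f.hom (pr2 φ (p - 1) p (sub_add_cancel p 1) z)) (b.comm (p - 1) p)
    change K'.d p q (a.f p (pr1 φ p z)) = a.f q (K.d p q (pr1 φ p z)) at ea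
    change L'.d (p - 1) p (b.f (p - 1) (pr2 φ (p - 1) p (sub_add_cancel p 1) z)) =
      b.f p (L.d (p - 1) p (pr2 φ (p - 1) p (sub_add_cancel p 1) z)) at eb
    rw [ea, eb, map_sub, map_neg, comm_apply a b w]

theorem coconeMap_apply {q p : ℤ} (h : q + 1 = p) (z : (mappingCocone φ).X p) :
    (coconeMap a b w).f p z = mk φ' q p h (a.f p (pr1 φ p z)) (b.f q (pr2 φ q p h z)) :=
  coconeMapF_apply a b h z

include w in
theorem qIso_coconeMap (ha : QIso a) (hb : QIso b) : QIso (coconeMap a b w) := by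
  have key := comm_apply a b w
  constructor
  · intro q p hqp z' hz'
    obtain ⟨h1, h2⟩ := (d_eq_zero_iff (φ := φ') hqp rfl z').1 hz'
    obtain ⟨o, rfl⟩ : ∃ o, q = o + 1 := ⟨q - 1, by lia⟩
    obtain ⟨u, hu, u', hu'⟩ := ha.surj _ p hqp _ h1
    -- move the first component
    have h3 : L'.d (o + 1) p (-(φ'.f (o + 1) u') - pr2 φ' (o + 1) p hqp z') = b.f p (φ.f p u) := by
      rw [key, map_sub, map_neg]
      have := congrArg (fun f => f.hom u') (φ'.comm (o + 1) p)
      change L'.d (o + 1) p (φ'.f (o + 1) u') = φ'.f p (K'.d (o + 1) p u') at this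
      rw [this, hu', map_sub, eq_neg_of_add_eq_zero_left h2]
      abel
    have hφu : L.d p (p + 1) (φ.f p u) = 0 := map_mem_ker φ p hu
    obtain ⟨v, hv⟩ := hb.inj _ p hqp _ hφu _ h3
    set c := pr2 φ' (o + 1) p hqp z' + φ'.f (o + 1) u' + b.f (o + 1) v with hc
    have hc0 : L'.d (o + 1) p c = 0 := by
      rw [hc, map_add, map_add]
      have h4 := congrArg (fun f => f.hom v) (b.comm (o + 1) p)
      change L'.d (o + 1) p (b.f (o + 1) v) = b.f p (L.d (o + 1) p v) at h4
      rw [h4, hv, ← h3, map_sub, map_neg]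
      abel
    subst hqp
    obtain ⟨v', hv', v'', hv''⟩ := hb.surj o (o + 1) rfl c hc0
    refine ⟨mk φ (o + 1) (o + 1 + 1) rfl u (v' - v), ?_, mk φ' o (o + 1) rfl u' (-v''), ?_⟩
    · refine (d_eq_zero_iff (φ := φ) rfl rfl _).2 ⟨by rw [pr1_mk]; exact hu, ?_⟩
      rw [pr1_mk, pr2_mk, map_sub, hv', hv, zero_sub, add_neg_cancel]
    · rw [d_mk rfl rfl, coconeMap_apply a b w rfl, pr1_mk, pr2_mk]
      refine ext rfl ?_ ?_
      · rw [pr1_mk, map_sub, pr1_mk, hu']
      · rw [pr2_mk, map_sub, pr2_mk, map_neg, hv'', hc, map_sub]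
        abel
  · intro q p hqp z hz z' hz'
    obtain ⟨h1, h2⟩ := (d_eq_zero_iff (φ := φ) hqp rfl z).1 hz
    obtain ⟨o, rfl⟩ : ∃ o, q = o + 1 := ⟨q - 1, by lia⟩
    subst hqp
    rw [coconeMap_apply a b w rfl] at hz'
    have e1 := congrArg (pr1 φ' (o + 1 + 1)) hz'
    rw [pr1_d, pr1_mk] at e1
    have e2 := congrArg (pr2 φ' (o + 1) (o + 1 + 1) rfl) hz'
    rw [pr2_d (o := o) rfl, pr2_mk] at e2
    obtain ⟨u, hu⟩ := ha.inj (o + 1) (o + 1 + 1) rfl _ h1 _ e1
    have hcu : K'.d (o + 1) (o + 1 + 1) (pr1 φ' (o + 1) z' - a.f (o + 1) u) = 0 := by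
      have := congrArg (fun f => f.hom u) (a.comm (o + 1) (o + 1 + 1))
      change K'.d (o + 1) (o + 1 + 1) (a.f (o + 1) u) = a.f (o + 1 + 1) (K.d (o + 1) (o + 1 + 1) u) at this
      rw [map_sub, e1, this, hu, sub_self]
    obtain ⟨w₀, hw₀, u', hu'⟩ := ha.surj o (o + 1) rfl _ hcu
    set r := pr2 φ (o + 1) (o + 1 + 1) rfl z + φ.f (o + 1) (u + w₀) with hr
    have hr0 : L.d (o + 1) (o + 1 + 1) r = 0 := by
      rw [hr, map_add, map_add, map_add]
      have hk : ∀ x, L.d (o + 1) (o + 1 + 1) (φ.f (o + 1) x) = φ.f (o + 1 + 1) (K.d (o + 1) (o + 1 + 1) x) :=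
        fun x => congrArg (fun f => f.hom x) (φ.comm (o + 1) (o + 1 + 1))
      rw [hk, hk, hu, hw₀, map_zero, add_zero]
      exact (add_comm _ _).trans h2
    have hr1 : L'.d o (o + 1) (-(pr2 φ' o (o + 1) rfl z') - φ'.f o u') = b.f (o + 1) r := by
      rw [hr, map_add, key, map_sub, map_neg, ← e2]
      have hk : L'.d o (o + 1) (φ'.f o u') = φ'.f (o + 1) (K'.d o (o + 1) u') :=
        congrArg (fun f => f.hom u') (φ'.comm o (o + 1))
      rw [hk, hu']
      simp only [map_sub, map_add]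
      abel
    obtain ⟨v, hv⟩ := hb.inj o (o + 1) rfl r hr0 _ hr1
    refine ⟨mk φ o (o + 1) rfl (u + w₀) (-v), ?_⟩
    rw [d_mk rfl rfl]
    refine ext rfl ?_ ?_
    · rw [pr1_mk, map_add, hu, hw₀, add_zero]
    · rw [pr2_mk, map_neg, hv, hr]
      abel

end Map

end Groth.Agent.CechX
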