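import Mathlib
import Groth.Prelude.Def_DerCA
import Groth.Agent.CechX.Cocone

/-!
Elements of termwise localised complexes.
-/

namespace Groth.Agent.CechX

universe u

open CategoryTheory CategoryTheory.Limits

variable {R : Type u} [CommRing R] (S : Submonoid R) {K L : CochainComplex (ModuleCat.{u} R) ℤ}

/-- The fraction `x/s` in a localised complex. -/
noncomputable def frac (p : ℤ) (x : K.X p) (s : S) : ((DerCA.locCx S).obj K).X p :=
  LocalizedModule.mk x s

theorem exists_frac (p : ℤ) (z : ((DerCA.locCx S).obj K).X p) : ∃ x s, frac S p x s = z :=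
  LocalizedModule.induction_on (fun x s => ⟨x, s, rfl⟩) z

theorem locFunctor_map_mk {M N : ModuleCat.{u} R} (g : M ⟶ N) (x : M) (s : S) :
    (DerCA.locFunctor S).map g (LocalizedModule.mk x s) = LocalizedModule.mk (g x) s := by
  show IsLocalizedModule.map S (LocalizedModule.mkLinearMap S M) (LocalizedModule.mkLinearMap S N) g.hom
    (LocalizedModule.mk x s) = _
  rw [IsLocalizedModule.mk_eq_mk', IsLocalizedModule.map_mk', ← IsLocalizedModule.mk_eq_mk']

theorem d_frac (p q : ℤ) (x : K.X p) (s : S) :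
    ((DerCA.locCx S).obj K).d p q (frac S p x s) = frac S q (K.d p q x) s :=
  locFunctor_map_mk S (K.d p q) x s

theorem map_frac (f : K ⟶ L) (p : ℤ) (x : K.X p) (s : S) :
    ((DerCA.locCx S).map f).f p (frac S p x s) = frac S p (f.f p x) s :=
  locFunctor_map_mk S (f.f p) x s

theorem unit_apply (p : ℤ) (x : K.X p) : (DerCA.locCxUnit S K).f p x = frac S p x 1 := rfl

theorem unit_naturality (f : K ⟶ L) :
    DerCA.locCxUnit S K ≫ (DerCA.locCx S).map f = f ≫ DerCA.locCxUnit S L := by
  ext p : 1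
  exact ((DerCA.locUnit S).naturality (f.f p)).symm

theorem frac_eq_zero_iff (p : ℤ) (x : K.X p) (s : S) :
    frac S p x s = 0 ↔ ∃ t : S, (t : R) • x = 0 := by
  show ((LocalizedModule.mk x s : LocalizedModule S (K.X p)) = 0) ↔ _
  rw [← LocalizedModule.zero_mk (1 : S), LocalizedModule.mk_eq]
  simp only [one_smul, smul_zero, Submonoid.smul_def]

theorem frac_smul (p : ℤ) (x : K.X p) (s t : S) :
    frac S p ((t : R) • x) (t * s) = frac S p x s :=
  (LocalizedModule.mk_cancel_common_left t s x)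

theorem frac_sub (p : ℤ) (x y : K.X p) (s : S) :
    frac S p (x - y) s = frac S p x s - frac S p y s := by
  show (LocalizedModule.mk (x - y) s : LocalizedModule S (K.X p)) =
    LocalizedModule.mk x s - LocalizedModule.mk y s
  rw [IsLocalizedModule.mk_eq_mk', IsLocalizedModule.mk_eq_mk', IsLocalizedModule.mk_eq_mk',
    IsLocalizedModule.mk'_sub]

theorem exists_frac_cycle (p q : ℤ) (z : ((DerCA.locCx S).obj K).X p)
    (hz : ((DerCA.locCx S).obj K).d p q z = 0) : ∃ x s, K.d p q x = 0 ∧ frac S p x s = z := by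
  obtain ⟨x, s, rfl⟩ := exists_frac S p z
  rw [d_frac, frac_eq_zero_iff] at hz
  obtain ⟨t, ht⟩ := hz
  exact ⟨(t : R) • x, t * s, by rw [map_smul, ht], frac_smul S p x s t⟩

theorem exists_smul_eq_d (p q : ℤ) (y : K.X q) (s : S) (z : ((DerCA.locCx S).obj K).X p)
    (h : ((DerCA.locCx S).obj K).d p q z = frac S q y s) :
    ∃ (t : S) (x : K.X p), K.d p q x = (t : R) • y := by
  obtain ⟨x, s', rfl⟩ := exists_frac S p z
  rw [d_frac] at h
  change (LocalizedModule.mk (K.d p q x) s' : LocalizedModule S (K.X q)) = LocalizedModule.mk y s at h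
  rw [LocalizedModule.mk_eq] at h
  obtain ⟨t, ht⟩ := h
  simp only [Submonoid.smul_def, smul_smul] at ht
  exact ⟨t * s', ((t * s : S) : R) • x, by rw [map_smul]; simpa using ht⟩

variable {S}

theorem qIso_locCx_map {f : K ⟶ L} (hf : QIso f) : QIso ((DerCA.locCx S).map f) := by
  constructor
  · intro q p hqp z hz
    obtain ⟨x', s, hx', rfl⟩ := exists_frac_cycle S p (p + 1) z hz
    obtain ⟨x, hx, y, hy⟩ := hf.surj q p hqp x' hx'
    refine ⟨frac S p x s, ?_, frac S q y s, ?_⟩
    · rw [d_frac, hx, frac_eq_zero_iff]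
      exact ⟨1, smul_zero _⟩
    · rw [d_frac, map_frac, hy, frac_sub]
  · intro q p hqp z hz z' hz'
    obtain ⟨x, s, hx, rfl⟩ := exists_frac_cycle S p (p + 1) z hz
    rw [map_frac] at hz'
    obtain ⟨t, y', hy'⟩ := exists_smul_eq_d S q p _ s z' hz'
    rw [← map_smul] at hy'
    obtain ⟨y, hy⟩ := hf.inj q p hqp ((t : R) • x) (by rw [map_smul, hx, smul_zero]) y' hy'
    exact ⟨frac S q y (t * s), by rw [d_frac, hy, frac_smul]⟩

end Groth.Agent.CechX
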