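import Mathlib
import Groth.Prelude.Def_DRing3
import Groth.Agent.CechX.Loc
import Groth.Agent.LocH.Cd

/-!
The extended Čech complex of a complex, and its comparison with `Γ_I` on complexes of injectives.
-/

namespace Groth.Agent.CechX

universe u

open CategoryTheory CategoryTheory.Limits CochainComplex

variable {R : Type u} [CommRing R]

/-- The extended Čech complex of a complex. -/
noncomputable def EC : List R → CochainComplex (ModuleCat.{u} R) ℤ → CochainComplex (ModuleCat.{u} R) ℤ
  | [], K => K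
  | f :: fs, K => mappingCocone (DerCA.locCxUnit (Submonoid.powers f) (EC fs K))

theorem extCech_eq (M : ModuleCat.{u} R) : ∀ fs : List R, DerCA.extCech M fs =
    EC fs ((HomologicalComplex.single (ModuleCat.{u} R) (ComplexShape.up ℤ) 0).obj M)
  | [] => rfl
  | f :: fs => congrArg (EC [f]) (extCech_eq M fs)

variable {K L : CochainComplex (ModuleCat.{u} R) ℤ}

/-- Functoriality of `EC`. -/
noncomputable def ecMap (φ : K ⟶ L) : (fs : List R) → (EC fs K ⟶ EC fs L)
  | [] => φ
  | f :: fs => coconeMap (ecMap φ fs) ((DerCA.locCx (Submonoid.powers f)).map (ecMap φ fs))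
      (unit_naturality _ _)

theorem qIso_ecMap {φ : K ⟶ L} (h : QIso φ) : ∀ fs : List R, QIso (ecMap φ fs)
  | [] => h
  | _ :: fs => qIso_coconeMap _ _ _ (qIso_ecMap h fs) (qIso_locCx_map (qIso_ecMap h fs))

theorem span_le_span_cons (f : R) (fs : List R) :
    Ideal.span {a | a ∈ fs} ≤ Ideal.span {a | a ∈ f :: fs} :=
  Ideal.span_mono fun _ ha => List.mem_cons_of_mem f ha

theorem head_mem_span (f : R) (fs : List R) : f ∈ Ideal.span {a | a ∈ f :: fs} :=
  Ideal.subset_span (show f ∈ {a | a ∈ f :: fs} from List.mem_cons_self)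

theorem span_cons (f : R) (fs : List R) :
    Ideal.span {a | a ∈ f :: fs} = Ideal.span {a | a ∈ fs} ⊔ Ideal.span {f} := by
  rw [← Ideal.span_union]
  congr 1
  ext a
  simp

/-- The termwise torsion complex. -/
noncomputable abbrev gam (I : Ideal R) (K : CochainComplex (ModuleCat.{u} R) ℤ) :
    CochainComplex (ModuleCat.{u} R) ℤ :=
  ((DRing.gammaI I).mapHomologicalComplex _).obj K

/-- The value of an element of the torsion complex. -/
noncomputable def gval (I : Ideal R) (K : CochainComplex (ModuleCat.{u} R) ℤ) (p : ℤ) :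
    ↑((gam I K).X p) →ₗ[R] ↑(K.X p) :=
  (DRing.torsionSub I (K.X p)).subtype

theorem gval_injective (I : Ideal R) (p : ℤ) : Function.Injective (gval I K p) :=
  Subtype.val_injective

theorem gval_mem (I : Ideal R) (p : ℤ) (x : (gam I K).X p) : gval I K p x ∈ DRing.torsionSub I (K.X p) :=
  x.2

theorem gval_d (I : Ideal R) (p q : ℤ) (x : (gam I K).X p) :
    gval I K q ((gam I K).d p q x) = K.d p q (gval I K p x) := rfl

/-- The inclusion `Γ_{I'} ⟶ Γ_I` for `I ≤ I'`. -/
noncomputable def gamLE {I I' : Ideal R} (h : I ≤ I') (K : CochainComplex (ModuleCat.{u} R) ℤ) :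
    gam I' K ⟶ gam I K where
  f p := ModuleCat.ofHom (Submodule.inclusion (LocH.torsionSub_anti h (K.X p)))
  comm' _ _ _ := rfl

theorem gval_gamLE {I I' : Ideal R} (h : I ≤ I') (p : ℤ) (x : (gam I' K).X p) :
    gval I K p ((gamLE h K).f p x) = gval I' K p x := rfl

/-- A morphism into the cocone from one killed by `φ`. -/
noncomputable def toCocone {X : CochainComplex (ModuleCat.{u} R) ℤ} {φ : K ⟶ L} (g : X ⟶ K)
    (hg : ∀ p (x : X.X p), φ.f p (g.f p x) = 0) : X ⟶ mappingCocone φ where
  f p := g.f p ≫ (mappingCocone.inl φ).v p p (add_zero p)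
  comm' p q (hpq : p + 1 = q) := by
    refine ModuleCat.hom_ext (LinearMap.ext fun x => ?_)
    have e : ∀ {o r : ℤ} (h : o + 1 = r) (y : K.X r),
        (mappingCocone.inl φ).v r r (add_zero r) y = mk φ o r h y 0 := fun h y => by
      rw [mk, map_zero, add_zero]
    show (mappingCocone φ).d p q ((mappingCocone.inl φ).v p p (add_zero p) (g.f p x)) =
      (mappingCocone.inl φ).v q q (add_zero q) (g.f q (X.d p q x))
    rw [e (sub_add_cancel p 1), e hpq, d_mk _ hpq, hg, map_zero, neg_zero, sub_zero,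
      ← ConcreteCategory.comp_apply, g.comm, ConcreteCategory.comp_apply]

theorem toCocone_apply {X : CochainComplex (ModuleCat.{u} R) ℤ} {φ : K ⟶ L} (g : X ⟶ K)
    (hg : ∀ p (x : X.X p), φ.f p (g.f p x) = 0) {o p : ℤ} (h : o + 1 = p) (x : X.X p) :
    (toCocone g hg).f p x = mk φ o p h (g.f p x) 0 := by
  rw [mk, map_zero, add_zero]
  rfl

theorem unit_gamLE_eq_zero {f : R} {fs : List R} (g : gam (Ideal.span {a | a ∈ fs}) K ⟶ EC fs K) (p : ℤ)
    (x : (gam (Ideal.span {a | a ∈ f :: fs}) K).X p) :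
    (DerCA.locCxUnit (Submonoid.powers f) (EC fs K)).f p
      ((gamLE (span_le_span_cons f fs) K ≫ g).f p x) = 0 := by
  rw [unit_apply, frac_eq_zero_iff]
  obtain ⟨n, hn⟩ := gval_mem _ p x
  refine ⟨⟨f ^ n, n, rfl⟩, ?_⟩
  rw [← map_smul]
  have : (f ^ n) • x = 0 := gval_injective _ p (by
    rw [map_smul, map_zero]
    exact hn _ (Ideal.pow_mem_pow (head_mem_span f fs) n))
  show (gamLE (span_le_span_cons f fs) K ≫ g).f p (f ^ n • x) = 0
  rw [this, map_zero]

/-- `Γ_I K ⟶ EC fs K`. -/
noncomputable def gammaHom (K : CochainComplex (ModuleCat.{u} R) ℤ) :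
    (fs : List R) → (gam (Ideal.span {a | a ∈ fs}) K ⟶ EC fs K)
  | [] => { f := fun p => ModuleCat.ofHom (gval _ K p), comm' := fun _ _ _ => rfl }
  | f :: fs => toCocone (gamLE (span_le_span_cons f fs) K ≫ gammaHom K fs)
      (unit_gamLE_eq_zero (f := f) (gammaHom K fs))

theorem qIso_gammaHom (hK : ∀ (I : Ideal R) (a : R) (p : ℤ),
    LocH.DivModTors a ↥(DRing.torsionSub I (K.X p))) : ∀ fs : List R, QIso (gammaHom K fs) := by
  intro fs
  induction fs with
  | nil =>
    have htop : ∀ (p : ℤ) (x : K.X p),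
        x ∈ DRing.torsionSub (Ideal.span {a | a ∈ ([] : List R)}) (K.X p) := fun p x => by
      refine ⟨1, fun c hc => ?_⟩
      simp only [List.not_mem_nil, Set.ofPred_false, Ideal.span_empty, pow_one, Submodule.mem_bot] at hc
      rw [hc, zero_smul]
    constructor
    · intro q p _ x' hx'
      exact ⟨⟨x', htop p x'⟩, gval_injective _ _ (hx'.trans (map_zero _).symm), 0, by
        rw [map_zero, eq_comm, sub_eq_zero]; rfl⟩
    · intro q p _ x _ y' hy'
      exact ⟨⟨y', htop q y'⟩, gval_injective _ _ hy'⟩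
  | cons f fs ih =>
    set I := Ideal.span {a | a ∈ fs} with hI
    set I' := Ideal.span {a | a ∈ f :: fs} with hI'
    have hle : I ≤ I' := span_le_span_cons f fs
    let g := gammaHom K fs
    let E := EC fs K
    let φ := DerCA.locCxUnit (Submonoid.powers f) E
    have hn : ∀ t : Submonoid.powers f, ∃ n : ℕ, (t : R) = f ^ n := fun t => ⟨_, t.2.choose_spec.symm⟩
    have div : ∀ (p : ℤ) (n : ℕ) (x : (gam I K).X p),
        ∃ (v : (gam I K).X p) (m : ℕ), f ^ m • (f ^ n • v - x) = 0 := fun p n x => hK I f p n x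
    have mem : ∀ (p : ℤ) (x : (gam I K).X p) (n : ℕ), f ^ n • x = 0 →
        ∃ x' : (gam I' K).X p, (gamLE hle K).f p x' = x := fun p x n hx => by
      refine ⟨⟨gval I K p x, ?_⟩, gval_injective _ _ rfl⟩
      rw [hI', span_cons]
      refine LocH.torsionSub_sup (gval_mem _ p x) (LocH.mem_torsionSub_span_singleton_iff.2 ⟨n, ?_⟩)
      rw [← map_smul, hx, map_zero]
    -- a cycle of `Γ_I` killed by `f` up to a boundary comes from `Γ_I'`
    have fix_ : ∀ (q p : ℤ), q + 1 = p → ∀ (a : (gam I K).X p) (n : ℕ) (b : (gam I K).X q),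
        (gam I K).d q p b = f ^ n • a → ∃ c : (gam I K).X q, ∃ a' : (gam I' K).X p,
          (gamLE hle K).f p a' = a - (gam I K).d q p c := fun q p hqp a n b hb => by
      obtain ⟨v, m, hv⟩ := div q n b
      refine ⟨v, mem p _ (m + n) ?_⟩
      have h := congrArg ((gam I K).d q p).hom hv
      rw [map_smul, map_sub, map_smul, hb, map_zero, ← smul_sub, smul_smul, ← pow_add] at h
      rw [← neg_sub, smul_neg, h, neg_zero]
    constructor
    · intro q p hqp (z : (mappingCocone φ).X p) hz
      obtain ⟨h1, h2⟩ := (d_eq_zero_iff (φ := φ) hqp rfl z).1 hz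
      obtain ⟨o, hoq⟩ : ∃ o, o + 1 = q := ⟨q - 1, by lia⟩
      obtain ⟨a, ha, u, hu⟩ := ih.surj q p hqp _ h1
      -- `f ^ n • g a` is a boundary
      have h3 : ((DerCA.locCx (Submonoid.powers f)).obj E).d q p
          (-(pr2 φ q p hqp z) - φ.f q u) = frac (Submonoid.powers f) p (g.f p a) 1 := by
        rw [map_sub, map_neg]
        have hφ : ((DerCA.locCx (Submonoid.powers f)).obj E).d q p (φ.f q u) = φ.f p (E.d q p u) :=
          congrArg (fun k => k.hom u) (φ.comm q p)
        rw [hφ, hu, map_sub, eq_neg_of_add_eq_zero_left h2, sub_sub_cancel]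
        rfl
      obtain ⟨t, w, hw⟩ := exists_smul_eq_d (Submonoid.powers f) q p _ 1 _ h3
      obtain ⟨n, hn⟩ := hn t
      rw [hn, ← map_smul] at hw
      obtain ⟨b, hb⟩ := ih.inj q p hqp (f ^ n • a) (by rw [map_smul, ha, smul_zero]) w hw
      obtain ⟨c, a', ha'⟩ := fix_ q p hqp a n b hb
      -- now the first component is `g a'`
      set u₁ := u + g.f q c with hu₁
      have e1 : E.d q p u₁ = pr1 φ p z - g.f p ((gamLE hle K).f p a') := by
        rw [hu₁, map_add, hu, ha', map_sub]
        have := congrArg (fun k => k.hom c) (g.comm q p)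
        change E.d q p (g.f q c) = g.f p ((gam I K).d q p c) at this
        rw [this]
        abel
      set v₁ := pr2 φ q p hqp z + φ.f q u₁ with hv₁
      have hφa' : φ.f p (g.f p ((gamLE hle K).f p a')) = 0 :=
        unit_gamLE_eq_zero (f := f) g p a'
      have hv₁0 : ((DerCA.locCx (Submonoid.powers f)).obj E).d q p v₁ = 0 := by
        rw [hv₁, map_add]
        have hφ : ((DerCA.locCx (Submonoid.powers f)).obj E).d q p (φ.f q u₁) = φ.f p (E.d q p u₁) :=
          congrArg (fun k => k.hom u₁) (φ.comm q p)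
        rw [hφ, e1, map_sub, hφa', sub_zero, add_comm]
        exact h2
      obtain ⟨w₁, s, hw₁, hs⟩ := exists_frac_cycle (Submonoid.powers f) q p v₁ hv₁0
      subst hqp
      obtain ⟨b₁, hb₁, y₁, hy₁⟩ := ih.surj o q hoq w₁ hw₁
      obtain ⟨k, hk⟩ := s.2
      obtain ⟨b₂, m, hb₂⟩ := div q k b₁
      have hdb : f ^ (m + k) • (gam I K).d q (q + 1) b₂ = 0 := by
        have h := congrArg ((gam I K).d q (q + 1)).hom hb₂
        rw [map_smul, map_sub, map_smul, hb₁, map_zero, sub_zero, smul_smul, ← pow_add] at h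
        exact h
      obtain ⟨b₃, hb₃⟩ := mem (q + 1) _ (m + k) hdb
      refine ⟨a' + b₃, gval_injective _ _ ?_, ?_⟩
      · rw [map_zero, gval_d, map_add, map_add]
        have ea : gval I' K (q + 1) a' = gval I K (q + 1) (a - (gam I K).d q (q + 1) c) := by
          rw [← ha', gval_gamLE]
        have eb : gval I' K (q + 1) b₃ = gval I K (q + 1) ((gam I K).d q (q + 1) b₂) := by
          rw [← hb₃, gval_gamLE]
        rw [ea, eb, ← gval_d, ← gval_d, map_sub, ha, ← ConcreteCategory.comp_apply,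
          ← ConcreteCategory.comp_apply, HomologicalComplex.d_comp_d]
        simp
      refine ⟨mk φ o q hoq (u₁ - g.f q b₂) (-(frac (Submonoid.powers f) o y₁ s)), ?_⟩
      rw [show (gammaHom K (f :: fs)).f (q + 1) (a' + b₃) = mk φ q (q + 1) rfl
          ((gamLE hle K ≫ g).f (q + 1) (a' + b₃)) 0 from toCocone_apply _ _ rfl _]
      show (mappingCocone φ).d q (q + 1) (mk φ o q hoq _ _) = z - _
      rw [d_mk hoq rfl]
      refine ext rfl ?_ ?_
      · rw [pr1_mk, map_sub (pr1 φ (q + 1)), pr1_mk, map_sub, e1]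
        have := congrArg (fun k => k.hom b₂) (g.comm q (q + 1))
        change E.d q (q + 1) (g.f q b₂) = g.f (q + 1) ((gam I K).d q (q + 1) b₂) at this
        rw [this]
        show _ = pr1 φ (q + 1) z - g.f (q + 1) ((gamLE hle K).f (q + 1) (a' + b₃))
        rw [map_add, map_add, hb₃]
        abel
      · rw [pr2_mk, map_sub (pr2 φ q (q + 1) rfl), pr2_mk, sub_zero, map_neg, d_frac, hy₁, frac_sub, hs, hv₁,
          map_sub]
        have e : φ.f q (g.f q b₂) = frac (Submonoid.powers f) q (g.f q b₁) s := by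
          show frac (Submonoid.powers f) q (g.f q b₂) 1 = _
          show (LocalizedModule.mk (g.f q b₂) (1 : Submonoid.powers f) : LocalizedModule _ (E.X q)) =
            LocalizedModule.mk (g.f q b₁) s
          rw [LocalizedModule.mk_eq]
          refine ⟨⟨f ^ m, m, rfl⟩, ?_⟩
          simp only [Submonoid.smul_def, one_smul, ← hk]
          rw [← map_smul, ← map_smul, ← map_smul, ← sub_eq_zero, ← map_sub, ← smul_sub]
          show g.f q (f ^ m • (f ^ k • b₂ - b₁)) = 0
          rw [hb₂, map_zero]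
        rw [e]
        abel
    · intro q p hqp a ha y hy
      obtain ⟨o, hoq⟩ : ∃ o, o + 1 = q := ⟨q - 1, by lia⟩
      rw [show (gammaHom K (f :: fs)).f p a = mk φ q p hqp ((gamLE hle K ≫ g).f p a) 0 from
        toCocone_apply _ _ hqp _] at hy
      have e1 := congrArg (pr1 φ p) hy
      erw [pr1_d, pr1_mk] at e1
      have e2 := congrArg (pr2 φ q p hqp) hy
      erw [pr2_d hoq hqp, pr2_mk] at e2
      obtain ⟨b, hb⟩ := ih.inj q p hqp ((gamLE hle K).f p a) (map_mem_ker _ p ha) _ e1
      have hc : E.d q (q + 1) (pr1 φ q y - g.f q b) = 0 := by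
        subst hqp
        have := congrArg (fun k => k.hom b) (g.comm q (q + 1))
        change E.d q (q + 1) (g.f q b) = g.f (q + 1) ((gam I K).d q (q + 1) b) at this
        rw [map_sub, this, hb]
        exact sub_eq_zero.2 e1
      obtain ⟨c, hc0, u, hu⟩ := ih.surj o q hoq _ hc
      set b₁ := b + c with hb₁
      have hb₁d : (gam I K).d q p b₁ = (gamLE hle K).f p a := by
        subst hqp
        rw [hb₁, map_add, hb, hc0, add_zero]
      have h3 : ((DerCA.locCx (Submonoid.powers f)).obj E).d o q (-(pr2 φ o q hoq y) - φ.f o u) =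
          frac (Submonoid.powers f) q (g.f q b₁) 1 := by
        have hφ : ((DerCA.locCx (Submonoid.powers f)).obj E).d o q (φ.f o u) = φ.f q (E.d o q u) :=
          congrArg (fun k => k.hom u) (φ.comm o q)
        rw [map_sub, map_neg, hφ, hu, map_sub, map_sub]
        show _ = φ.f q (g.f q (b + c))
        rw [map_add, map_add, ← sub_eq_zero.1 e2]
        abel
      obtain ⟨t, w, hw⟩ := exists_smul_eq_d (Submonoid.powers f) o q _ 1 _ h3
      obtain ⟨n, hn⟩ := hn t
      rw [hn, ← map_smul] at hw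
      -- `f ^ n • b₁` differs from a cycle of `Γ_I'` by a boundary
      have hcyc : ∃ N : ℕ, (gam I K).d q (q + 1) (f ^ N • b₁) = 0 := by
        subst hqp
        obtain ⟨N, hN⟩ := gval_mem I' (q + 1) a
        refine ⟨N, gval_injective _ _ ?_⟩
        rw [map_smul, hb₁d, map_zero, map_smul, gval_gamLE]
        exact hN _ (Ideal.pow_mem_pow (head_mem_span f fs) N)
      obtain ⟨N, hN⟩ := hcyc
      obtain ⟨b₂, hb₂⟩ := ih.inj o q hoq (f ^ (N + n) • b₁)
        (by rw [pow_add, mul_comm, mul_smul, map_smul, hN, smul_zero]) (f ^ N • w)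
        (by rw [map_smul, hw, ← map_smul, smul_smul, ← pow_add])
      obtain ⟨c', b', hb'⟩ := fix_ o q hoq b₁ (N + n) b₂ hb₂
      refine ⟨b', gval_injective _ _ ?_⟩
      rw [gval_d, ← gval_gamLE hle q b', hb', ← gval_d, map_sub, ← ConcreteCategory.comp_apply,
        HomologicalComplex.d_comp_d, hb₁d]
      simp [gval_gamLE]
      rfl

end Groth.Agent.CechX
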