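import Mathlib
import Groth.Agent.CechX.EC

/-!
Formal properties of the extended Čech complex: torsion, range of degrees, acyclicity, contractibility.
-/

namespace Groth.Agent.CechX

universe u

open CategoryTheory CategoryTheory.Limits CochainComplex

variable {R : Type u} [CommRing R] {K : CochainComplex (ModuleCat.{u} R) ℤ}

/-- Cocycles are killed by a power of `g` up to coboundaries. -/
def Tors (g : R) (K : CochainComplex (ModuleCat.{u} R) ℤ) : Prop :=
  ∀ (q p : ℤ), q + 1 = p → ∀ x : K.X p, K.d p (p + 1) x = 0 → ∃ (n : ℕ) (y : K.X q), K.d q p y = g ^ n • x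

theorem Tors.locCx {g : R} (h : Tors g K) (S : Submonoid R) : Tors g ((DerCA.locCx S).obj K) := by
  intro q p hqp z hz
  obtain ⟨x, s, hx, rfl⟩ := exists_frac_cycle S p (p + 1) z hz
  obtain ⟨n, y, hy⟩ := h q p hqp x hx
  refine ⟨n, frac S q y s, ?_⟩
  rw [d_frac, hy]
  exact (LocalizedModule.smul'_mk (g ^ n) x s).symm

theorem Tors.cocone {g : R} {L : CochainComplex (ModuleCat.{u} R) ℤ} {φ : K ⟶ L} (hK : Tors g K)
    (hL : Tors g L) : Tors g (mappingCocone φ) := by
  intro q p hqp z hz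
  obtain ⟨h1, h2⟩ := (d_eq_zero_iff (φ := φ) hqp rfl z).1 hz
  obtain ⟨o, rfl⟩ : ∃ o, q = o + 1 := ⟨q - 1, by lia⟩
  subst hqp
  obtain ⟨n, u, hu⟩ := hK (o + 1) (o + 1 + 1) rfl _ h1
  set v := g ^ n • pr2 φ (o + 1) (o + 1 + 1) rfl z + φ.f (o + 1) u with hv
  have hv0 : L.d (o + 1) (o + 1 + 1) v = 0 := by
    have hφ : L.d (o + 1) (o + 1 + 1) (φ.f (o + 1) u) = φ.f (o + 1 + 1) (K.d (o + 1) (o + 1 + 1) u) :=
      congrArg (fun k => k.hom u) (φ.comm (o + 1) (o + 1 + 1))
    rw [hv, map_add, hφ, hu, map_smul, map_smul, ← smul_add]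
    exact (congrArg _ ((add_comm _ _).trans h2)).trans (smul_zero _)
  obtain ⟨m, w, hw⟩ := hL o (o + 1) rfl v hv0
  refine ⟨m + n, mk φ o (o + 1) rfl (g ^ m • u) (-w), ?_⟩
  rw [d_mk rfl rfl]
  refine ext rfl ?_ ?_
  · rw [pr1_mk, map_smul, hu, map_smul, smul_smul, ← pow_add]
  · rw [pr2_mk, map_smul, map_neg, hw, hv, map_smul, smul_add, smul_smul, ← pow_add]
    abel

theorem tors_cocone_unit (f : R) (K : CochainComplex (ModuleCat.{u} R) ℤ) :
    Tors f (mappingCocone (DerCA.locCxUnit (Submonoid.powers f) K)) := by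
  intro q p hqp z hz
  let φ := DerCA.locCxUnit (Submonoid.powers f) K
  obtain ⟨h1, h2⟩ := (d_eq_zero_iff (φ := φ) hqp rfl z).1 hz
  obtain ⟨o, hoq⟩ : ∃ o, o + 1 = q := ⟨q - 1, by lia⟩
  subst hqp
  have h3 : ((DerCA.locCx (Submonoid.powers f)).obj K).d q (q + 1) (-(pr2 φ q (q + 1) rfl z)) =
      frac (Submonoid.powers f) (q + 1) (pr1 φ (q + 1) z) 1 := by
    rw [map_neg, ← eq_neg_of_add_eq_zero_left h2]
    rfl
  obtain ⟨⟨_, n, rfl⟩, x, hx⟩ := exists_smul_eq_d _ q (q + 1) _ 1 _ h3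
  set v := f ^ n • pr2 φ q (q + 1) rfl z + φ.f q x with hv
  have hv0 : ((DerCA.locCx (Submonoid.powers f)).obj K).d q (q + 1) v = 0 := by
    have hφ : ((DerCA.locCx (Submonoid.powers f)).obj K).d q (q + 1) (φ.f q x) =
        φ.f (q + 1) (K.d q (q + 1) x) := congrArg (fun k => k.hom x) (φ.comm q (q + 1))
    rw [hv, map_add, hφ, hx, map_smul, map_smul, ← smul_add]
    exact (congrArg _ ((add_comm _ _).trans h2)).trans (smul_zero _)
  obtain ⟨w, ⟨_, m, rfl⟩, hw, hs⟩ := exists_frac_cycle _ q (q + 1) v hv0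
  refine ⟨m + n, mk φ o q hoq (f ^ m • x - w) 0, ?_⟩
  rw [d_mk hoq rfl]
  refine ext rfl ?_ ?_
  · rw [pr1_mk, map_sub, map_smul, hx, hw, sub_zero, map_smul, smul_smul, ← pow_add]
  · rw [pr2_mk, map_smul, map_sub, map_smul, map_zero, sub_zero]
    have e : φ.f q w = f ^ m • v := by
      rw [← hs]
      show (LocalizedModule.mk w (1 : Submonoid.powers f) : LocalizedModule (Submonoid.powers f) (K.X q)) =
        f ^ m • (LocalizedModule.mk w ⟨f ^ m, m, rfl⟩ : LocalizedModule (Submonoid.powers f) (K.X q))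
      rw [LocalizedModule.smul'_mk]
      exact (LocalizedModule.mk_cancel (⟨f ^ m, m, rfl⟩ : Submonoid.powers f) w).symm
    rw [e, hv, smul_add, smul_smul, ← pow_add]
    abel

theorem tors_EC : ∀ (fs : List R), ∀ g ∈ fs, ∀ K : CochainComplex (ModuleCat.{u} R) ℤ, Tors g (EC fs K)
  | [], _, hg, _ => absurd hg List.not_mem_nil
  | f :: fs, g, hg, K => by
    rcases List.mem_cons.1 hg with rfl | h
    · exact tors_cocone_unit _ _
    · exact (tors_EC fs g h K).cocone ((tors_EC fs g h K).locCx _)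

theorem EC_eq_zero_of_range {a b : ℤ} (hK : ∀ p, p < a ∨ b < p → ∀ x : K.X p, x = 0) :
    ∀ (fs : List R) (p : ℤ), p < a ∨ b + fs.length < p → ∀ z : (EC fs K).X p, z = 0 := by
  intro fs
  induction fs with
  | nil => exact fun p hp z => hK p (by simpa using hp) z
  | cons f fs ih =>
    intro p hp (z : (mappingCocone (DerCA.locCxUnit (Submonoid.powers f) (EC fs K))).X p)
    rw [List.length_cons] at hp
    refine ext (sub_add_cancel p 1) ?_ ?_
    · exact (ih p (by push_cast at hp; lia) (pr1 _ p z)).trans (LinearMap.map_zero _).symm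
    · refine Eq.trans ?_ (LinearMap.map_zero _).symm
      obtain ⟨x, s, hxs⟩ := exists_frac _ (p - 1) (pr2 (DerCA.locCxUnit (Submonoid.powers f) (EC fs K))
        (p - 1) p (sub_add_cancel p 1) z)
      rw [← hxs, frac_eq_zero_iff, ih (p - 1) (by push_cast at hp; lia) x]
      exact ⟨1, smul_zero _⟩

/-- `g` acts bijectively on every term. -/
def SmulBij (g : R) (K : CochainComplex (ModuleCat.{u} R) ℤ) : Prop :=
  ∀ p, Function.Bijective (fun x : K.X p => g • x)

theorem smulBij_EC {g : R} (h : SmulBij g K) : ∀ fs : List R, SmulBij g (EC fs K) := by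
  intro fs
  induction fs with
  | nil => exact h
  | cons f fs ih =>
    intro p
    let φ := DerCA.locCxUnit (Submonoid.powers f) (EC fs K)
    have hL : Function.Bijective
        (fun x : ((DerCA.locCx (Submonoid.powers f)).obj (EC fs K)).X (p - 1) => g • x) := by
      have hb := ih (p - 1)
      let M := (EC fs K).X (p - 1)
      show Function.Bijective (fun x : LocalizedModule (Submonoid.powers f) M => g • x)
      refine ⟨(injective_iff_map_eq_zero (DistribSMul.toAddMonoidHom _ g)).2 fun z hz => ?_, fun z => ?_⟩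
      · induction z using LocalizedModule.induction_on with
        | h x s =>
          change g • LocalizedModule.mk x s = 0 at hz
          rw [LocalizedModule.smul'_mk, ← LocalizedModule.zero_mk (1 : Submonoid.powers f),
            LocalizedModule.mk_eq] at hz
          obtain ⟨t, ht⟩ := hz
          simp only [one_smul, smul_zero, Submonoid.smul_def] at ht
          rw [smul_comm] at ht
          rw [← LocalizedModule.zero_mk (1 : Submonoid.powers f), LocalizedModule.mk_eq]
          refine ⟨t, ?_⟩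
          simp only [one_smul, smul_zero, Submonoid.smul_def]
          exact hb.1 (ht.trans (smul_zero g).symm)
      · induction z using LocalizedModule.induction_on with
        | h x s =>
          obtain ⟨y, rfl⟩ := hb.2 x
          exact ⟨LocalizedModule.mk y s, LocalizedModule.smul'_mk g y s⟩
    show Function.Bijective (fun z : (mappingCocone φ).X p => g • z)
    refine ⟨fun z w e => ext (sub_add_cancel p 1) ((ih p).1 ?_) (hL.1 ?_), fun z => ?_⟩
    · have := congrArg (pr1 φ p) e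
      rwa [map_smul, map_smul] at this
    · have := congrArg (pr2 φ (p - 1) p (sub_add_cancel p 1)) e
      rwa [map_smul, map_smul] at this
    · obtain ⟨x, hx⟩ := (ih p).2 (pr1 φ p z)
      obtain ⟨y, hy⟩ := hL.2 (pr2 φ (p - 1) p (sub_add_cancel p 1) z)
      exact ⟨mk φ (p - 1) p (sub_add_cancel p 1) x y, ext (sub_add_cancel p 1)
        (by rw [map_smul, pr1_mk]; exact hx) (by rw [map_smul, pr2_mk]; exact hy)⟩

theorem isZero_homology_of_tors {fs : List R} (ht : ∀ g ∈ fs, Tors g K) {f : R}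
    (hf : f ∈ Ideal.span {a | a ∈ fs}) (hb : SmulBij f K) (p : ℤ) : IsZero (K.homology p) := by
  refine (isZero_homology_iff p (p - 1) (sub_add_cancel p 1)).2 fun x hx => ?_
  let T : Submodule R R := (LinearMap.range (K.d (p - 1) p).hom).comap (LinearMap.toSpanSingleton R _ x)
  have hrad : Ideal.span {a | a ∈ fs} ≤ Ideal.radical T := Ideal.span_le.2 fun g hg => by
    obtain ⟨n, y, hy⟩ := ht g hg (p - 1) p (sub_add_cancel p 1) x hx
    exact ⟨n, y, hy⟩
  obtain ⟨N, y, hy⟩ := hrad hf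
  change K.d (p - 1) p y = f ^ N • x at hy
  clear hrad T
  induction N generalizing x y with
  | zero => exact ⟨y, hy.trans (by rw [pow_zero, one_smul])⟩
  | succ N ih =>
    obtain ⟨y', rfl⟩ := (hb (p - 1)).2 y
    rw [map_smul, pow_succ', mul_smul] at hy
    exact ih x hx y' ((hb p).1 hy)

/-- A contracting homotopy, elementwise. -/
def Contr (K : CochainComplex (ModuleCat.{u} R) ℤ) : Prop :=
  ∃ h : ∀ q p : ℤ, q + 1 = p → (↑(K.X p) →ₗ[R] ↑(K.X q)), ∀ (q p r : ℤ) (hqp : q + 1 = p) (hpr : p + 1 = r)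
    (x : K.X p), K.d q p (h q p hqp x) + h p r hpr (K.d p r x) = x

theorem Contr.homotopy (hK : Contr K) : Nonempty (Homotopy (𝟙 K) 0) := by
  obtain ⟨h, hh⟩ := hK
  refine ⟨{ hom := fun i j => if e : j + 1 = i then ModuleCat.ofHom (h j i e) else 0,
            zero := fun i j hij => dif_neg hij, comm := fun i => ?_ }⟩
  rw [HomologicalComplex.zero_f, add_zero, dNext_eq _ (show (ComplexShape.up ℤ).Rel i (i + 1) by simp),
    prevD_eq _ (show (ComplexShape.up ℤ).Rel (i - 1) i by simp), dif_pos rfl, dif_pos (sub_add_cancel i 1)]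
  refine ModuleCat.hom_ext (LinearMap.ext fun x => ?_)
  show x = h i (i + 1) rfl (K.d i (i + 1) x) + K.d (i - 1) i (h (i - 1) i (sub_add_cancel i 1) x)
  rw [add_comm, hh]

theorem Contr.locCx (hK : Contr K) (S : Submonoid R) : Contr ((DerCA.locCx S).obj K) := by
  obtain ⟨h, hh⟩ := hK
  refine ⟨fun q p e => ((DerCA.locFunctor S).map (ModuleCat.ofHom (h q p e))).hom, fun q p r hqp hpr z => ?_⟩
  obtain ⟨x, s, rfl⟩ := exists_frac S p z
  have e1 : ∀ (q p : ℤ) (e : q + 1 = p) (x : K.X p) (s : S),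
      ((DerCA.locFunctor S).map (ModuleCat.ofHom (h q p e))).hom (frac S p x s) = frac S q (h q p e x) s :=
    fun q p e x s => locFunctor_map_mk S (ModuleCat.ofHom (h q p e)) x s
  dsimp only
  refine (congrArg₂ (fun a b : ((DerCA.locCx S).obj K).X p => a + b) ((congrArg (((DerCA.locCx S).obj K).d q p).hom (e1 q p hqp x s)).trans
    (d_frac S q p (h q p hqp x) s)) ((congrArg ((DerCA.locFunctor S).map (ModuleCat.ofHom (h p r hpr))).hom
    (d_frac S p r x s)).trans (e1 p r hpr (K.d p r x) s))).trans ?_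
  show (LocalizedModule.mk (K.d q p (h q p hqp x)) s + LocalizedModule.mk (h p r hpr (K.d p r x)) s :
    LocalizedModule S (K.X p)) = LocalizedModule.mk x s
  rw [IsLocalizedModule.mk_eq_mk', IsLocalizedModule.mk_eq_mk', IsLocalizedModule.mk_eq_mk',
    ← IsLocalizedModule.mk'_add, hh q p r hqp hpr x]

theorem contr_cocone {L : CochainComplex (ModuleCat.{u} R) ℤ} {φ : K ⟶ L} (hK : Contr K) (hL : Contr L) :
    Contr (mappingCocone φ) := by
  obtain ⟨h, hh⟩ := hK
  obtain ⟨k, hk⟩ := hL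
  -- `c = k ∘ (k φ - φ h)`
  let c : ∀ (q p : ℤ) (_ : q + 1 = p), ↑(K.X p) →ₗ[R] ↑(L.X (q - 1)) := fun q p e =>
    (k (q - 1) q (sub_add_cancel q 1)).comp ((k q p e).comp (φ.f p).hom - (φ.f q).hom.comp (h q p e))
  refine ⟨fun q p e => LinearMap.comp ((mappingCocone.inl φ).v q q (add_zero q)).hom
      ((h q p e).comp (pr1 φ p)) + LinearMap.comp ((mappingCocone.inr φ).1.v (q - 1) q (sub_add_cancel q 1)).hom
      (-(k (q - 1) q (sub_add_cancel q 1)).comp (pr2 φ q p e) + (c q p e).comp (pr1 φ p)), fun q p r hqp hpr z => ?_⟩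
  have key : ∀ (q p : ℤ) (e : q + 1 = p) (o : ℤ) (e' : o + 1 = q) (z : (mappingCocone φ).X p),
      ((mappingCocone.inl φ).v q q (add_zero q)).hom (h q p e (pr1 φ p z)) +
        ((mappingCocone.inr φ).1.v (q - 1) q (sub_add_cancel q 1)).hom
          (-(k (q - 1) q (sub_add_cancel q 1) (pr2 φ q p e z)) +
            k (q - 1) q (sub_add_cancel q 1) (k q p e (φ.f p (pr1 φ p z)) - φ.f q (h q p e (pr1 φ p z)))) =
      mk φ o q e' (h q p e (pr1 φ p z))
        (-(k o q e' (pr2 φ q p e z)) + k o q e' (k q p e (φ.f p (pr1 φ p z)) - φ.f q (h q p e (pr1 φ p z)))) := by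
    intro q p e o e' z
    obtain rfl : o = q - 1 := by lia
    rfl
  obtain ⟨o, hoq⟩ : ∃ o, o + 1 = q := ⟨q - 1, by lia⟩
  simp only [LinearMap.add_apply, LinearMap.comp_apply, LinearMap.neg_apply, LinearMap.sub_apply, c]
  erw [key q p hqp o hoq z, key p r hpr q hqp ((mappingCocone φ).d p r z)]
  rw [d_mk hoq hqp]
  refine ext hqp ?_ ?_
  · rw [map_add, pr1_mk, pr1_mk, pr1_d]
    exact hh q p r hqp hpr _
  · rw [map_add, pr2_mk, pr2_mk, pr1_d, pr2_d hqp hpr]
    set x := pr1 φ p z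
    set v := pr2 φ q p hqp z
    set ψ := k q p hqp (φ.f p x) - φ.f q (h q p hqp x) with hψ
    have hv := hk o q p hoq hqp v
    have hψ' := hk o q p hoq hqp ψ
    have hd : L.d q p ψ = -(k p r hpr (φ.f r (K.d p r x)) - φ.f p (h p r hpr (K.d p r x))) := by
      have a1 := hk q p r hqp hpr (φ.f p x)
      have a2 : L.d p r (φ.f p x) = φ.f r (K.d p r x) := congrArg (fun m => m.hom x) (φ.comm p r)
      have a3 : L.d q p (φ.f q (h q p hqp x)) = φ.f p (K.d q p (h q p hqp x)) :=
        congrArg (fun m => m.hom (h q p hqp x)) (φ.comm q p)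
      have a4 := congrArg (φ.f p).hom (hh q p r hqp hpr x)
      rw [map_add] at a4
      rw [a2] at a1
      rw [hψ, map_sub, a3, eq_sub_of_add_eq a1, eq_sub_of_add_eq a4]
      abel
    rw [hd, map_neg] at hψ'
    have hv' : v = L.d o q (k o q hoq v) + k q p hqp (L.d q p v) := hv.symm
    rw [map_add, map_neg, map_sub (k q p hqp) (-φ.f p x), map_neg]
    conv_rhs => rw [hv']
    have e2 : L.d o q (k o q hoq ψ) = ψ + k q p hqp (k p r hpr (φ.f r (K.d p r x)) - φ.f p (h p r hpr (K.d p r x))) := by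
      conv_rhs => arg 1; rw [← hψ']
      abel
    rw [e2, hψ]
    abel

theorem contr_cocone_unit {f : R} (hf : IsUnit f) (K : CochainComplex (ModuleCat.{u} R) ℤ) :
    Contr (mappingCocone (DerCA.locCxUnit (Submonoid.powers f) K)) := by
  set φ := DerCA.locCxUnit (Submonoid.powers f) K
  have hu : ∀ (t : Submonoid.powers f), IsUnit (t : R) := fun t => by
    obtain ⟨n, hn⟩ := t.2
    rw [← hn]
    exact hf.pow n
  have hb : ∀ p, Function.Bijective (φ.f p).hom := fun p => by
    refine ⟨(injective_iff_map_eq_zero _).2 fun x hx => ?_, fun z => ?_⟩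
    · obtain ⟨t, ht⟩ := (frac_eq_zero_iff (Submonoid.powers f) p x 1).1 hx
      exact (hu t).smul_eq_zero.1 ht
    · obtain ⟨x, t, rfl⟩ := exists_frac _ p z
      refine ⟨(↑(hu t).unit⁻¹ : R) • x, ?_⟩
      show frac (Submonoid.powers f) p ((↑(hu t).unit⁻¹ : R) • x) 1 = _
      rw [← frac_smul (Submonoid.powers f) p _ 1 t, mul_one, smul_smul, (hu t).mul_val_inv, one_smul]
  let ψ : ∀ p, ↑(((DerCA.locCx (Submonoid.powers f)).obj K).X p) →ₗ[R] ↑(K.X p) := fun p =>
    (LinearEquiv.ofBijective (φ.f p).hom (hb p)).symm.toLinearMap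
  have hψ : ∀ p y, φ.f p (ψ p y) = y := fun p y =>
    (LinearEquiv.ofBijective (φ.f p).hom (hb p)).apply_symm_apply y
  refine ⟨fun q p e => -(((mappingCocone.inl φ).v q q (add_zero q)).hom.comp ((ψ q).comp (pr2 φ q p e))),
    fun q p r hqp hpr z => ?_⟩
  have key : ∀ (q : ℤ) (o : ℤ) (e' : o + 1 = q) (y : K.X q),
      ((mappingCocone.inl φ).v q q (add_zero q)).hom y = mk φ o q e' y 0 := fun q o e' y => by
    rw [mk, map_zero, add_zero]
  obtain ⟨o, hoq⟩ : ∃ o, o + 1 = q := ⟨q - 1, by lia⟩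
  simp only [LinearMap.neg_apply, LinearMap.comp_apply]
  rw [key q o hoq, key p q hqp, map_neg, d_mk hoq hqp, pr2_d hqp hpr]
  refine ext hqp ?_ ?_
  · rw [map_add, map_neg, map_neg, pr1_mk, pr1_mk]
    refine (hb p).1 ?_
    have hc : φ.f p (K.d q p (ψ q (pr2 φ q p hqp z))) =
        ((DerCA.locCx (Submonoid.powers f)).obj K).d q p (pr2 φ q p hqp z) := by
      refine (congrArg (fun k => k.hom (ψ q (pr2 φ q p hqp z))) (φ.comm q p)).symm.trans ?_
      exact congrArg (((DerCA.locCx (Submonoid.powers f)).obj K).d q p).hom (hψ q _)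
    rw [map_add, map_neg, map_neg]
    show -φ.f p _ + -φ.f p _ = φ.f p _
    rw [hc, hψ]
    abel
  · rw [map_add, map_neg, map_neg, pr2_mk, pr2_mk, map_zero, sub_zero, neg_neg, neg_zero, add_zero, hψ]

theorem contr_EC : ∀ (fs : List R) (K : CochainComplex (ModuleCat.{u} R) ℤ), (∃ f ∈ fs, IsUnit f) →
    Contr (EC fs K)
  | [], _, ⟨_, hf, _⟩ => absurd hf List.not_mem_nil
  | f :: fs, K, ⟨g, hg, hu⟩ => by
    rcases List.mem_cons.1 hg with rfl | h
    · exact contr_cocone_unit hu _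
    · exact contr_cocone (contr_EC fs K ⟨g, h, hu⟩) ((contr_EC fs K ⟨g, h, hu⟩).locCx _)

end Groth.Agent.CechX
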