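import Mathlib
import Groth.Agent.CechX.Props

/-!
The extended Čech complex of a module: degree zero and range of degrees.
-/

namespace Groth.Agent.CechX

universe u

open CategoryTheory CategoryTheory.Limits

variable {R : Type u} [CommRing R] (M : ModuleCat.{u} R)

/-- `M` in degree zero. -/
noncomputable abbrev single0 : CochainComplex (ModuleCat.{u} R) ℤ :=
  (HomologicalComplex.single (ModuleCat.{u} R) (ComplexShape.up ℤ) 0).obj M

theorem single0_eq_zero (p : ℤ) (hp : p < 0 ∨ (0 : ℤ) < p) (x : (single0 M).X p) : x = 0 :=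
  (ModuleCat.subsingleton_of_isZero
    (HomologicalComplex.isZero_single_obj_X (ComplexShape.up ℤ) 0 M p (by lia))).elim _ _

theorem EC_single_eq_zero (fs : List R) (p : ℤ) (hp : p < 0 ∨ (fs.length : ℤ) < p)
    (x : (EC fs (single0 M)).X p) : x = 0 :=
  EC_eq_zero_of_range (a := 0) (b := 0) (single0_eq_zero M) fs p (by simpa using hp) x

theorem gammaHom_zero : ∀ fs : List R,
    (∀ a, (gammaHom (single0 M) fs).f 0 a = 0 → a = 0) ∧
      (∀ z, (EC fs (single0 M)).d 0 1 z = 0 → ∃ a, (gammaHom (single0 M) fs).f 0 a = z) := by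
  intro fs
  induction fs with
  | nil =>
    refine ⟨fun a ha => gval_injective _ _ (ha.trans (map_zero _).symm), fun z _ => ⟨⟨z, 1, fun c hc => ?_⟩, rfl⟩⟩
    simp only [List.not_mem_nil, Set.ofPred_false, Ideal.span_empty, pow_one, Submodule.mem_bot] at hc
    rw [hc]
    exact zero_smul R _
  | cons f fs ih =>
    let g := gammaHom (single0 M) fs
    let φ := DerCA.locCxUnit (Submonoid.powers f) (EC fs (single0 M))
    have hle := span_le_span_cons f fs
    have happ : ∀ a, (gammaHom (single0 M) (f :: fs)).f 0 a =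
        mk φ (-1) 0 (by lia) (g.f 0 ((gamLE hle (single0 M)).f 0 a)) 0 := fun a =>
      toCocone_apply _ _ (show (-1 : ℤ) + 1 = 0 by lia) a
    refine ⟨fun a ha => ?_, fun z hz => ?_⟩
    · rw [happ] at ha
      have := congrArg (pr1 φ 0) ha
      erw [pr1_mk, LinearMap.map_zero] at this
      refine gval_injective _ _ ?_
      rw [← gval_gamLE hle, ih.1 _ this, map_zero, map_zero]
    · change (CochainComplex.mappingCocone φ).X 0 at z
      obtain ⟨h1, h2⟩ := (d_eq_zero_iff (φ := φ) (show (-1 : ℤ) + 1 = 0 by lia) (show (0 : ℤ) + 1 = 1 by lia) z).1 hz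
      have hv : pr2 φ (-1) 0 (by lia) z = 0 := by
        obtain ⟨x, s, hxs⟩ := exists_frac (Submonoid.powers f) (-1) (pr2 φ (-1) 0 (by lia) z)
        rw [← hxs, frac_eq_zero_iff, EC_single_eq_zero M fs (-1) (by lia) x]
        exact ⟨1, smul_zero _⟩
      rw [hv, map_zero, add_zero] at h2
      obtain ⟨a, ha⟩ := ih.2 _ h1
      obtain ⟨⟨_, n, rfl⟩, hn⟩ := (frac_eq_zero_iff (Submonoid.powers f) 0 (pr1 φ 0 z) 1).1 h2
      have ha0 : f ^ n • a = 0 := ih.1 _ (by rw [map_smul, ha]; exact hn)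
      have hmem : gval _ (single0 M) 0 a ∈ DRing.torsionSub (Ideal.span {x | x ∈ f :: fs}) ((single0 M).X 0) := by
        rw [span_cons]
        refine LocH.torsionSub_sup (gval_mem _ 0 a) (LocH.mem_torsionSub_span_singleton_iff.2 ⟨n, ?_⟩)
        rw [← map_smul, ha0, map_zero]
      refine ⟨(⟨_, hmem⟩ : DRing.torsionSub (Ideal.span {x | x ∈ f :: fs}) ((single0 M).X 0)), ?_⟩
      refine (happ _).trans ?_
      refine ext (show (-1 : ℤ) + 1 = 0 by lia) ?_ ?_
      · rw [pr1_mk]
        refine Eq.trans ?_ ha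
        exact congrArg (g.f 0).hom (gval_injective _ _ rfl)
      · rw [pr2_mk, hv]

/-- `H⁰` of the extended Čech complex is the torsion. -/
theorem nonempty_H0_equiv (fs : List R) :
    Nonempty (↑((EC fs (single0 M)).homology 0) ≃ₗ[R] ↑((DRing.gammaI (Ideal.span {x | x ∈ fs})).obj M)) := by
  obtain ⟨hi, hs⟩ := gammaHom_zero M fs
  have hz : ∀ a, (EC fs (single0 M)).d 0 (0 + 1) ((gammaHom (single0 M) fs).f 0 a) = 0 := fun a => by
    refine map_mem_ker _ 0 (gval_injective _ _ ?_)
    rw [gval_d, map_zero]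
    exact single0_eq_zero M _ (by lia) _
  let T : ↑((gam (Ideal.span {x | x ∈ fs}) (single0 M)).X 0) →ₗ[R] ↑((EC fs (single0 M)).homology 0) :=
    (hcls _ 0).comp (((gammaHom (single0 M) fs).f 0).hom.codRestrict _ hz)
  have hT : Function.Bijective T := by
    refine ⟨(injective_iff_map_eq_zero _).2 fun a ha => hi a ?_, fun c => ?_⟩
    · obtain ⟨y, hy⟩ := (hcls_eq_zero_iff (0 : ℤ) (-1) (by lia) _).1 ha
      rw [EC_single_eq_zero M fs (-1) (by lia) y, map_zero] at hy
      exact hy.symm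
    · obtain ⟨z, rfl⟩ := hcls_surjective 0 c
      obtain ⟨a, ha⟩ := hs z.1 z.2
      exact ⟨a, congrArg (hcls _ 0) (Subtype.ext ha)⟩
  exact ⟨(LinearEquiv.ofBijective T hT).symm ≪≫ₗ ((DRing.gammaI (Ideal.span {x | x ∈ fs})).mapIso
    (HomologicalComplex.singleObjXSelf (ComplexShape.up ℤ) 0 M)).toLinearEquiv⟩

end Groth.Agent.CechX
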