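import Mathlib
import Groth.Prelude.Def_ega3
import Groth.Agent.CechX.ConeElt
import Groth.Agent.CechX.Single

/-!
The colimit of Koszul complexes of powers is the extended Čech complex.
-/

namespace Groth.Agent.CechX

universe u

open CategoryTheory CategoryTheory.Limits CochainComplex

variable {A : Type u} [CommRing A] (M : ModuleCat.{u} A)

/-- The Koszul complex of the `n`-th powers. -/
noncomputable abbrev kz (fs : List A) (n : ℕ) : CochainComplex (ModuleCat.{u} A) ℤ :=
  CohIII.koszulCx M (fs.map (· ^ n))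

/-- The sign `(-1)^(length fs)`. -/
def eps : List A → A
  | [] => 1
  | _ :: fs => -eps fs

theorem eps_mul_self : ∀ fs : List A, eps fs * eps fs = 1
  | [] => one_mul 1
  | _ :: fs => by rw [eps, neg_mul_neg, eps_mul_self fs]

/-- Division by `f ^ n` into the localisation. -/
noncomputable def fdiv (f : A) (n : ℕ) (K : CochainComplex (ModuleCat.{u} A) ℤ) (p : ℤ) :
    ↑(K.X p) →ₗ[A] ↑(((DerCA.locCx (Submonoid.powers f)).obj K).X p) where
  toFun x := frac (Submonoid.powers f) p x ⟨f ^ n, n, rfl⟩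
  map_add' x y := (IsLocalizedModule.mk_eq_mk' _ _).trans
    ((IsLocalizedModule.mk'_add _ x y _).trans
      (congrArg₂ (fun a b : LocalizedModule (Submonoid.powers f) (K.X p) => a + b)
        (IsLocalizedModule.mk_eq_mk' _ _).symm (IsLocalizedModule.mk_eq_mk' _ _).symm))
  map_smul' r x := (LocalizedModule.smul'_mk r x _).symm

theorem fdiv_eq_zero_iff (f : A) (n : ℕ) {K : CochainComplex (ModuleCat.{u} A) ℤ} (p : ℤ) (x : K.X p) :
    fdiv f n K p x = 0 ↔ ∃ t : ℕ, f ^ t • x = 0 :=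
  (frac_eq_zero_iff _ p x _).trans
    ⟨fun ⟨⟨_, t, rfl⟩, h⟩ => ⟨t, h⟩, fun ⟨t, h⟩ => ⟨⟨_, t, rfl⟩, h⟩⟩

theorem d_fdiv (f : A) (n : ℕ) {K : CochainComplex (ModuleCat.{u} A) ℤ} (p q : ℤ) (x : K.X p) :
    ((DerCA.locCx (Submonoid.powers f)).obj K).d p q (fdiv f n K p x) = fdiv f n K q (K.d p q x) :=
  d_frac _ p q x _

theorem fdiv_pow_smul (f : A) {n m : ℕ} {K : CochainComplex (ModuleCat.{u} A) ℤ} (p : ℤ) (j : ℕ) (x : K.X p)
    (h : j + n = m) : fdiv f m K p (f ^ j • x) = fdiv f n K p x := by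
  subst h
  show frac _ p _ _ = frac _ p _ _
  rw [← frac_smul (Submonoid.powers f) p x ⟨f ^ n, n, rfl⟩ ⟨f ^ j, j, rfl⟩]
  congr 1
  exact Subtype.ext (pow_add f j n)

/-- Comparison of the Koszul complex of the powers with the extended Čech complex. -/
noncomputable def theta : (fs : List A) → (n : ℕ) → (k p : ℤ) → k + fs.length = p →
    (↑((kz M fs n).X k) →ₗ[A] ↑((EC fs (single0 M)).X p))
  | [], _, k, p, h => ((single0 M).XIsoOfEq (show k = p by simpa using h)).hom.hom
  | f :: fs, n, k, p, h =>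
    ((mappingCocone.inl (DerCA.locCxUnit (Submonoid.powers f) (EC fs (single0 M)))).v p p (add_zero p)).hom.comp
        (eps fs • (theta fs n (k + 1) p (by simp at h; lia)).comp
          (c1 (f ^ n • 𝟙 (kz M fs n)) k (k + 1) rfl)) +
      ((mappingCocone.inr (DerCA.locCxUnit (Submonoid.powers f) (EC fs (single0 M)))).1.v (p - 1) p
          (sub_add_cancel p 1)).hom.comp
        ((fdiv f n (EC fs (single0 M)) (p - 1)).comp ((theta fs n k (p - 1) (by simp at h; lia)).comp
          (c2 (f ^ n • 𝟙 (kz M fs n)) k)))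

theorem theta_cons (f : A) (fs : List A) (n : ℕ) {k q p : ℤ} (h : k + (f :: fs).length = p) (hqp : q + 1 = p)
    (z : (mappingCone (f ^ n • 𝟙 (kz M fs n))).X k) :
    theta M (f :: fs) n k p h z = mk (DerCA.locCxUnit (Submonoid.powers f) (EC fs (single0 M))) q p hqp
      (eps fs • theta M fs n (k + 1) p (by simp at h; lia) (c1 (f ^ n • 𝟙 (kz M fs n)) k (k + 1) rfl z))
      (fdiv f n _ q (theta M fs n k q (by simp at h; lia) (c2 (f ^ n • 𝟙 (kz M fs n)) k z))) := by
  obtain rfl : q = p - 1 := by lia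
  rfl

theorem theta_d : ∀ (fs : List A) (n : ℕ) (k k' p p' : ℤ) (h : k + fs.length = p) (h' : k' + fs.length = p')
    (_ : k + 1 = k') (x : (kz M fs n).X k),
    theta M fs n k' p' h' ((kz M fs n).d k k' x) = eps fs • (EC fs (single0 M)).d p p' (theta M fs n k p h x) := by
  intro fs
  induction fs with
  | nil =>
    intro n k k' p p' h h' hk x
    obtain rfl : k = p := by simpa using h
    obtain rfl : k' = p' := by simpa using h'
    show _ = (1 : A) • (single0 M).d k k' _
    rw [one_smul]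
    simp [theta, HomologicalComplex.XIsoOfEq, EC]
    rfl
  | cons f fs ih =>
    intro n k k' p p' h h' hk (x : (mappingCone (f ^ n • 𝟙 (kz M fs n))).X k)
    subst hk
    obtain rfl : p' = p + 1 := by simp at h h'; lia
    show theta M (f :: fs) n (k + 1) (p + 1) h' ((mappingCone (f ^ n • 𝟙 (kz M fs n))).d k (k + 1) x) = _
    rw [theta_cons M f fs n h' (q := p) rfl]
    erw [theta_cons M f fs n h (sub_add_cancel p 1)]
    show _ = eps (f :: fs) • (mappingCocone (DerCA.locCxUnit (Submonoid.powers f) (EC fs (single0 M)))).d p (p + 1)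
      (mk _ (p - 1) p (sub_add_cancel p 1) _ _)
    rw [d_mk (sub_add_cancel p 1) rfl]
    refine ext rfl ?_ ?_
    · rw [pr1_mk, map_smul, pr1_mk]
      show eps fs • theta M fs n (k + 1 + 1) (p + 1) _ (c1 (f ^ n • 𝟙 (kz M fs n)) (k + 1) (k + 1 + 1) rfl
        ((mappingCone (f ^ n • 𝟙 (kz M fs n))).d k (k + 1) x)) = _
      rw [c1_d rfl rfl, map_neg, ih n (k + 1) (k + 1 + 1) p (p + 1) (by simp at h; lia) (by simp at h; lia) rfl,
        map_smul, eps, smul_neg, smul_smul, smul_smul, neg_mul, eps_mul_self, neg_smul]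
    · rw [pr2_mk, map_smul, pr2_mk]
      show fdiv f n _ p (theta M fs n (k + 1) p _ (c2 (f ^ n • 𝟙 (kz M fs n)) (k + 1)
        ((mappingCone (f ^ n • 𝟙 (kz M fs n))).d k (k + 1) x))) = _
      rw [c2_d rfl, map_add, map_add, d_fdiv,
        ih n k (k + 1) (p - 1) p (by simp at h; lia) (by simp at h; lia) rfl, map_smul (fdiv f n _ p)]
      have e1 : (f ^ n • 𝟙 (kz M fs n)).f (k + 1) (c1 (f ^ n • 𝟙 (kz M fs n)) k (k + 1) rfl x) =
          f ^ n • c1 (f ^ n • 𝟙 (kz M fs n)) k (k + 1) rfl x := rfl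
      have e2 : ∀ y : (EC fs (single0 M)).X p, fdiv f n _ p (f ^ n • y) =
          (DerCA.locCxUnit (Submonoid.powers f) (EC fs (single0 M))).f p y := fun y => by
        rw [fdiv_pow_smul f p n y (add_zero n), unit_apply]
        show frac _ p y _ = frac _ p y _
        congr 1
        exact Subtype.ext (pow_zero f)
      rw [e1, map_smul (theta M fs n (k + 1) p _), e2, map_smul, eps, smul_sub, smul_neg, neg_smul, neg_neg,
        smul_smul, eps_mul_self, one_smul, neg_smul, sub_neg_eq_add]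

theorem trans_cons (f : A) (fs : List A) {n m : ℕ} (h : n ≤ m) {k k' : ℤ} (hk : k + 1 = k')
    (z : (mappingCone (f ^ n • 𝟙 (kz M fs n))).X k) :
    (CohIII.koszulTrans M n m h (f :: fs)).f k z = cmk (f ^ m • 𝟙 (kz M fs m)) k k' hk
      ((CohIII.koszulTrans M n m h fs).f k' (c1 (f ^ n • 𝟙 (kz M fs n)) k k' hk z))
      (f ^ (m - n) • (CohIII.koszulTrans M n m h fs).f k (c2 (f ^ n • 𝟙 (kz M fs n)) k z)) :=
  map_apply _ _ _ hk z

theorem theta_trans : ∀ (fs : List A) (n m : ℕ) (hnm : n ≤ m) (k p : ℤ) (h : k + fs.length = p)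
    (z : (kz M fs n).X k),
    theta M fs m k p h ((CohIII.koszulTrans M n m hnm fs).f k z) = theta M fs n k p h z := by
  intro fs
  induction fs with
  | nil =>
    intro n m hnm k p h z
    rfl
  | cons f fs ih =>
    intro n m hnm k p h (z : (mappingCone (f ^ n • 𝟙 (kz M fs n))).X k)
    erw [trans_cons M f fs hnm rfl, theta_cons M f fs m h (sub_add_cancel p 1),
      theta_cons M f fs n h (sub_add_cancel p 1)]
    rw [c1_cmk, c2_cmk, ih n m hnm, map_smul (theta M fs m k _ _), ih n m hnm,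
      fdiv_pow_smul f (p - 1) (m - n) _ (Nat.sub_add_cancel hnm)]

theorem trans_trans : ∀ (fs : List A) (n m l : ℕ) (h₁ : n ≤ m) (h₂ : m ≤ l) (k : ℤ) (z : (kz M fs n).X k),
    (CohIII.koszulTrans M m l h₂ fs).f k ((CohIII.koszulTrans M n m h₁ fs).f k z) =
      (CohIII.koszulTrans M n l (h₁.trans h₂) fs).f k z := by
  intro fs
  induction fs with
  | nil => intros; rfl
  | cons f fs ih =>
    intro n m l h₁ h₂ k (z : (mappingCone (f ^ n • 𝟙 (kz M fs n))).X k)
    rw [trans_cons M f fs h₁ rfl, trans_cons M f fs h₂ rfl, trans_cons M f fs (h₁.trans h₂) rfl,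
      c1_cmk, c2_cmk, ih n m l h₁ h₂, map_smul ((CohIII.koszulTrans M m l h₂ fs).f k).hom, smul_smul,
      ← pow_add, show l - m + (m - n) = l - n by lia]
    congr 2
    exact ih n m l h₁ h₂ k _

theorem exists_theta_eq : ∀ (fs : List A) (k p : ℤ) (h : k + fs.length = p) (y : (EC fs (single0 M)).X p),
    ∃ (n : ℕ) (z : (kz M fs n).X k), theta M fs n k p h z = y := by
  intro fs
  induction fs with
  | nil =>
    intro k p h y
    obtain rfl : k = p := by simpa using h
    exact ⟨0, y, rfl⟩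
  | cons f fs ih =>
    intro k p h (y : (mappingCocone (DerCA.locCxUnit (Submonoid.powers f) (EC fs (single0 M)))).X p)
    obtain ⟨n₁, z₁, hz₁⟩ := ih (k + 1) p (by simp at h; lia) (eps fs • pr1 _ p y)
    obtain ⟨x, ⟨_, j, rfl⟩, hx⟩ := exists_frac (Submonoid.powers f) (p - 1) (pr2 _ (p - 1) p (sub_add_cancel p 1) y)
    obtain ⟨n₂, z₂, hz₂⟩ := ih k (p - 1) (by simp at h; lia) x
    refine ⟨n₁ + n₂ + j, cmk (f ^ (n₁ + n₂ + j) • 𝟙 (kz M fs (n₁ + n₂ + j))) k (k + 1) rfl
      ((CohIII.koszulTrans M n₁ _ (by lia) fs).f (k + 1) z₁)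
      (f ^ (n₁ + n₂) • (CohIII.koszulTrans M n₂ _ (by lia) fs).f k z₂), ?_⟩
    refine (theta_cons M f fs (n₁ + n₂ + j) h (sub_add_cancel p 1) _).trans ?_
    refine ext (sub_add_cancel p 1) ?_ ?_
    · rw [pr1_mk, c1_cmk, theta_trans, hz₁, smul_smul, eps_mul_self, one_smul]
    · rw [pr2_mk, c2_cmk, map_smul, theta_trans, hz₂, fdiv_pow_smul f (p - 1) (n₁ + n₂) x rfl]
      exact hx

theorem exists_trans_eq_zero : ∀ (fs : List A) (n : ℕ) (k p : ℤ) (h : k + fs.length = p) (z : (kz M fs n).X k),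
    theta M fs n k p h z = 0 → ∃ (m : ℕ) (hm : n ≤ m), (CohIII.koszulTrans M n m hm fs).f k z = 0 := by
  intro fs
  induction fs with
  | nil =>
    intro n k p h z hz
    obtain rfl : k = p := by simpa using h
    exact ⟨n, le_rfl, hz⟩
  | cons f fs ih =>
    intro n k p h (z : (mappingCone (f ^ n • 𝟙 (kz M fs n))).X k) hz
    rw [theta_cons M f fs n h (sub_add_cancel p 1)] at hz
    have e1 := congrArg (pr1 _ p) hz
    erw [pr1_mk, LinearMap.map_zero] at e1
    have e2 := congrArg (pr2 _ (p - 1) p (sub_add_cancel p 1)) hz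
    erw [pr2_mk, LinearMap.map_zero] at e2
    have e1' := congrArg (eps fs • ·) e1
    simp only [smul_smul, eps_mul_self, one_smul, smul_zero] at e1'
    obtain ⟨m₁, hm₁, h₁⟩ := ih n (k + 1) p _ _ e1'
    obtain ⟨t, ht⟩ := (fdiv_eq_zero_iff f n (p - 1) _).1 e2
    rw [← map_smul] at ht
    obtain ⟨m₂, hm₂, h₂⟩ := ih n k (p - 1) _ _ ht
    refine ⟨m₁ + m₂ + t, by lia, ?_⟩
    rw [trans_cons M f fs (show n ≤ m₁ + m₂ + t by lia) rfl]
    refine cone_ext rfl ?_ ?_
    · rw [c1_cmk, ← trans_trans M fs n m₁ _ hm₁ (by lia), h₁, map_zero]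
      exact (map_zero _).symm
    · rw [c2_cmk, show m₁ + m₂ + t - n = (m₁ + m₂ - n) + t by lia, pow_add, mul_smul, ← map_smul _ (f ^ t),
        ← trans_trans M fs n m₂ _ hm₂ (by lia), h₂, map_zero, smul_zero]
      exact (map_zero _).symm

theorem nonempty_koszulHLim_equiv (fs : List A) (p : ℕ) :
    Nonempty (CohIII.koszulHLim fs M p ≃ₗ[A] ↑((EC fs (single0 M)).homology (p : ℤ))) := by
  classical
  set k : ℤ := (p : ℤ) - fs.length with hk
  have h : k + fs.length = (p : ℤ) := by lia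
  let E := EC fs (single0 M)
  have hcyc : ∀ n (x : LinearMap.ker ((kz M fs n).d k (k + 1)).hom),
      E.d (p : ℤ) ((p : ℤ) + 1) (theta M fs n k p h x.1) = 0 := fun n x => by
    have e := theta_d M fs n k (k + 1) p ((p : ℤ) + 1) h (by lia) rfl x.1
    rw [x.2, map_zero] at e
    have := congrArg (eps fs • ·) e
    simpa [smul_smul, eps_mul_self] using this.symm
  let T : ∀ n, LinearMap.ker ((kz M fs n).d k (k + 1)).hom →ₗ[A] ↑(E.homology (p : ℤ)) := fun n =>
    (hcls E p).comp (((theta M fs n k p h).comp (Submodule.subtype _)).codRestrict _ (hcyc n))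
  have hT : ∀ n, LinearMap.ker (hcls (kz M fs n) k) ≤ LinearMap.ker (T n) := fun n x hx => by
    obtain ⟨y, hy⟩ := (hcls_eq_zero_iff k (k - 1) (sub_add_cancel k 1) x).1 hx
    refine (hcls_eq_zero_iff (p : ℤ) ((p : ℤ) - 1) (sub_add_cancel _ 1) _).2
      ⟨eps fs • theta M fs n (k - 1) ((p : ℤ) - 1) (by lia) y, ?_⟩
    show _ = theta M fs n k p h x.1
    rw [map_smul, ← hy]
    exact (theta_d M fs n (k - 1) k _ p (by lia) h (sub_add_cancel k 1) y).symm
  let G : ∀ n, ↑((CohIII.koszulHPow fs M p n)) →ₗ[A] ↑(E.homology (p : ℤ)) := fun n =>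
    ((LinearMap.ker (hcls (kz M fs n) k)).liftQ (T n) (hT n)).comp
      (LinearMap.quotKerEquivOfSurjective _ (hcls_surjective k)).symm.toLinearMap
  have hG : ∀ n x, G n (hcls (kz M fs n) k x) = T n x := fun n x => by
    show Submodule.liftQ _ (T n) (hT n) ((LinearMap.quotKerEquivOfSurjective _ (hcls_surjective k)).symm (hcls (kz M fs n) k x)) = _
    rw [LinearMap.quotKerEquivOfSurjective_symm_apply _ (hcls_surjective k)]
    rfl
  let F : CohIII.koszulHLim fs M p →ₗ[A] ↑(E.homology (p : ℤ)) :=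
    Module.DirectLimit.lift A ℕ _ _ G fun n m hnm c => by
      obtain ⟨x, rfl⟩ := hcls_surjective k c
      show G m (HomologicalComplex.homologyMap (CohIII.koszulTrans M n m hnm fs) k (hcls (kz M fs n) k x)) = _
      rw [map_hcls, hG, hG]
      exact congrArg (hcls E (p : ℤ)) (Subtype.ext (theta_trans M fs n m hnm k p h x.1))
  refine ⟨LinearEquiv.ofBijective F ⟨(injective_iff_map_eq_zero F).2 fun c hc => ?_, fun e => ?_⟩⟩
  · induction c using Module.DirectLimit.induction_on with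
    | ih n c =>
      obtain ⟨x, rfl⟩ := hcls_surjective k c
      erw [Module.DirectLimit.lift_of, hG] at hc
      obtain ⟨y, hy⟩ := (hcls_eq_zero_iff (p : ℤ) ((p : ℤ) - 1) (sub_add_cancel _ 1) _).1 hc
      obtain ⟨m, w, hw⟩ := exists_theta_eq M fs (k - 1) ((p : ℤ) - 1) (by lia) y
      let z := (CohIII.koszulTrans M n (n + m) le_self_add fs).f k x.1 -
        eps fs • (kz M fs (n + m)).d (k - 1) k ((CohIII.koszulTrans M m (n + m) le_add_self fs).f (k - 1) w)
      have hz : theta M fs (n + m) k p h z = 0 := by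
        simp only [z, map_sub, map_smul]
        rw [theta_trans, theta_d M fs (n + m) (k - 1) k ((p : ℤ) - 1) p (by lia) h (sub_add_cancel k 1),
          theta_trans, hw, smul_smul, eps_mul_self, one_smul, sub_eq_zero]
        exact hy.symm
      obtain ⟨l, hl, hl'⟩ := exists_trans_eq_zero M fs (n + m) k p h z hz
      refine (Module.DirectLimit.of_f (hij := le_self_add.trans hl)).symm.trans ?_
      refine (congrArg (Module.DirectLimit.of A ℕ _ _ l) ?_).trans (map_zero _)
      show HomologicalComplex.homologyMap (CohIII.koszulTrans M n l (le_self_add.trans hl) fs) k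
        (hcls (kz M fs n) k x) = 0
      rw [map_hcls, hcls_eq_zero_iff k (k - 1) (sub_add_cancel k 1)]
      refine ⟨eps fs • (CohIII.koszulTrans M m l (le_add_self.trans hl) fs).f (k - 1) w, ?_⟩
      simp only [z, map_sub, map_smul, sub_eq_zero] at hl'
      rw [map_smul]
      refine Eq.trans ?_ ((trans_trans M fs n (n + m) l le_self_add hl k x.1).symm.trans hl').symm.symm.symm
      refine congrArg (eps fs • ·) ?_
      rw [← trans_trans M fs m (n + m) l le_add_self hl (k - 1) w, ← ConcreteCategory.comp_apply,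
        (CohIII.koszulTrans M (n + m) l hl fs).comm]
      rfl
  · obtain ⟨x, rfl⟩ := hcls_surjective (p : ℤ) e
    obtain ⟨n, z, hz⟩ := exists_theta_eq M fs k p h x.1
    have hd : theta M fs n (k + 1) ((p : ℤ) + 1) (by lia) ((kz M fs n).d k (k + 1) z) = 0 := by
      rw [theta_d M fs n k (k + 1) p ((p : ℤ) + 1) h (by lia) rfl, hz, x.2, smul_zero]
    obtain ⟨m, hm, hm'⟩ := exists_trans_eq_zero M fs n (k + 1) _ _ _ hd
    refine ⟨Module.DirectLimit.of A ℕ _ _ m (hcls (kz M fs m) k ⟨(CohIII.koszulTrans M n m hm fs).f k z, ?_⟩), ?_⟩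
    · show (kz M fs m).d k (k + 1) _ = 0
      rw [← ConcreteCategory.comp_apply, (CohIII.koszulTrans M n m hm fs).comm]
      exact hm'
    · erw [Module.DirectLimit.lift_of, hG]
      exact congrArg (hcls E (p : ℤ)) (Subtype.ext ((theta_trans M fs n m hm k p h z).trans hz))

end Groth.Agent.CechX
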