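import Mathlib
import Groth.Agent.CechX.Props
import Groth.Agent.LocH.LocalizeMap

/-!
The extended Čech complex computes local cohomology over a Noetherian ring.
-/

namespace Groth.Agent.CechX

universe u

open CategoryTheory CategoryTheory.Limits

variable {R : Type u} [CommRing R] [IsNoetherianRing R] {M : ModuleCat.{u} R} (J : InjectiveResolution M)

/-- The identification of the `i`-th term of the `ℤ`-indexed resolution. -/
noncomputable def xIso (i : ℕ) : ↑(J.cochainComplex.X (i : ℤ)) ≃ₗ[R] ↑(J.cocomplex.X i) :=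
  (J.cochainComplexXIso (i : ℤ) i rfl).toLinearEquiv

omit [IsNoetherianRing R] in
theorem d_xIso (a b : ℕ) (x : J.cochainComplex.X (a : ℤ)) :
    J.cocomplex.d a b (xIso J a x) = xIso J b (J.cochainComplex.d (a : ℤ) (b : ℤ) x) := by
  rw [InjectiveResolution.cochainComplex_d J (a : ℤ) (b : ℤ) a b rfl rfl]
  exact ((J.cochainComplexXIso (b : ℤ) b rfl).toLinearEquiv.apply_symm_apply _).symm

omit [IsNoetherianRing R] in
theorem cochainComplex_eq_zero (p : ℤ) (hp : p < 0) (x : J.cochainComplex.X p) : x = 0 :=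
  (ModuleCat.subsingleton_of_isZero
    (CochainComplex.isZero_of_isStrictlyGE J.cochainComplex 0 p hp)).elim _ _

theorem nonempty_homology_gam_equiv (I : Ideal R) (i : ℕ) :
    Nonempty (↑((gam I J.cochainComplex).homology (i : ℤ)) ≃ₗ[R] ↑((localCohomology I i).obj M)) := by
  have hmem : ∀ (p : ℕ) (x : (gam I J.cochainComplex).X (p : ℤ)),
      xIso J p (gval I J.cochainComplex (p : ℤ) x) ∈ DRing.torsionSub I (J.cocomplex.X p) := fun p x => by
    obtain ⟨n, hn⟩ := gval_mem I (p : ℤ) x
    exact ⟨n, fun a ha => by rw [← map_smul, hn a ha, map_zero]⟩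
  have hinv : ∀ (p : ℕ) (y : J.cocomplex.X p), y ∈ DRing.torsionSub I (J.cocomplex.X p) →
      ∃ x : (gam I J.cochainComplex).X (p : ℤ), xIso J p (gval I J.cochainComplex (p : ℤ) x) = y :=
    fun p y ⟨n, hn⟩ => ⟨⟨(xIso J p).symm y, n, fun a ha => by rw [← map_smul, hn a ha, map_zero]⟩,
      (xIso J p).apply_symm_apply y⟩
  have hd : ∀ (x : (gam I J.cochainComplex).X (i : ℤ)) (b : ℤ), b = (i : ℤ) + 1 →
      ((gam I J.cochainComplex).d (i : ℤ) ((i : ℤ) + 1) x = 0 ↔ (gam I J.cochainComplex).d (i : ℤ) b x = 0) :=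
    fun x b hb => by subst hb; rfl
  obtain ⟨G, hG⟩ := LocH.exists_cycleLift J I i
    ((xIso J i).toLinearMap.comp ((gval I J.cochainComplex (i : ℤ)).comp
      (LinearMap.ker ((gam I J.cochainComplex).d (i : ℤ) ((i : ℤ) + 1)).hom).subtype))
    (fun x => hmem i x.1) (fun x => by
      show J.cocomplex.d i (i + 1) (xIso J i (gval I J.cochainComplex (i : ℤ) x.1)) = 0
      rw [d_xIso, ← gval_d, (hd x.1 ((i + 1 : ℕ) : ℤ) (by push_cast; rfl)).1 x.2, map_zero, map_zero])
  let T := (LocH.cyclesToH J i).comp G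
  have hT : Function.Surjective T := by
    intro β
    obtain ⟨z, rfl⟩ := LocH.cyclesToH_surjective J i β
    obtain ⟨x, hx⟩ := hinv i (LocH.cycleVal J i z) ((LocH.gammaComplex J I).iCycles i z).2
    have hx0 : (gam I J.cochainComplex).d (i : ℤ) ((i + 1 : ℕ) : ℤ) x = 0 := by
      refine gval_injective _ _ ((gval_d _ _ _ x).trans ?_)
      have := LocH.d_cycleVal J i z
      rw [← hx, d_xIso, LinearEquiv.map_eq_zero_iff] at this
      rw [map_zero]
      exact this
    exact ⟨⟨x, (hd x _ (by push_cast; rfl)).2 hx0⟩,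
      congrArg (LocH.cyclesToH J i) (LocH.cycleVal_injective J i ((hG _).trans hx))⟩
  have hker : LinearMap.ker T = LinearMap.ker (hcls (gam I J.cochainComplex) (i : ℤ)) := by
    ext x
    rw [LinearMap.mem_ker, LinearMap.mem_ker, hcls_eq_zero_iff (i : ℤ) ((i : ℤ) - 1) (sub_add_cancel _ 1)]
    show LocH.cyclesToH J i (G x) = 0 ↔ _
    rw [LocH.cyclesToH_eq_zero_iff_mem, hG]
    cases i with
    | zero =>
      refine Iff.trans (Submodule.mem_bot R) ⟨fun h => ⟨0, ?_⟩, fun ⟨y, hy⟩ => ?_⟩
      · rw [map_zero]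
        refine (gval_injective _ _ ?_).symm
        rw [map_zero]
        exact (xIso J 0).map_eq_zero_iff.1 h
      · have hy0 : y = 0 := gval_injective _ _
          ((cochainComplex_eq_zero J _ (by lia) _).trans (map_zero _).symm)
        show xIso J 0 (gval I J.cochainComplex _ x.1) = 0
        rw [← hy, hy0, map_zero, map_zero, map_zero]
    | succ k =>
      have e : ((k + 1 : ℕ) : ℤ) - 1 = (k : ℤ) := by push_cast; lia
      rw [e]
      constructor
      · rintro ⟨w, hw, hwx⟩
        obtain ⟨y, hy⟩ := hinv k w hw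
        refine ⟨y, gval_injective _ _ ((xIso J (k + 1)).injective ?_)⟩
        rw [gval_d, ← d_xIso, hy]
        exact hwx
      · rintro ⟨y, hy⟩
        refine ⟨_, hmem k y, ?_⟩
        show J.cocomplex.d k (k + 1) (xIso J k (gval I J.cochainComplex (k : ℤ) y)) = _
        rw [d_xIso, ← gval_d, hy]
        rfl
  exact ⟨(LinearMap.quotKerEquivOfSurjective _ (hcls_surjective (i : ℤ))).symm ≪≫ₗ
    Submodule.quotEquivOfEq _ _ hker.symm ≪≫ₗ LinearMap.quotKerEquivOfSurjective _ hT⟩

/-- Terms of the `ℤ`-indexed resolution divide by any element modulo torsion. -/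
theorem divModTors_cochainComplex (I : Ideal R) (a : R) (p : ℤ) :
    LocH.DivModTors a ↥(DRing.torsionSub I (J.cochainComplex.X p)) := by
  have : Module.Injective R (J.cochainComplex.X p) :=
    Module.injective_module_of_injective_object R _ (inj := inferInstanceAs (Injective (J.cochainComplex.X p)))
  exact LocH.divModTors_torsionSub (R' := R) I a

omit J in
theorem nonempty_extCechH_iso (fs : List R) (M : ModuleCat.{u} R) (i : ℕ) :
    Nonempty (DerCA.extCechH fs M (i : ℤ) ≅ (localCohomology (Ideal.span {x | x ∈ fs}) i).obj M) := by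
  obtain ⟨J⟩ : Nonempty (InjectiveResolution M) := HasInjectiveResolution.out
  let ι : (HomologicalComplex.single (ModuleCat.{u} R) (ComplexShape.up ℤ) 0).obj M ⟶ J.cochainComplex := J.ι'
  have : QuasiIso ι := inferInstanceAs (QuasiIso J.ι')
  have h1 := qIso_ecMap (QIso.of_quasiIso ι) fs
  have h2 := qIso_gammaHom (K := J.cochainComplex) (divModTors_cochainComplex J) fs
  obtain ⟨e⟩ := nonempty_homology_gam_equiv J (Ideal.span {x | x ∈ fs}) i
  show Nonempty ((DerCA.extCech M fs).homology (i : ℤ) ≅ _)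
  rw [extCech_eq]
  exact ⟨((h1.equiv (i : ℤ)) ≪≫ₗ (h2.equiv (i : ℤ)).symm ≪≫ₗ e).toModuleIso⟩

end Groth.Agent.CechX
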