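import Mathlib
import Groth.Agent.CechX.EC

/-!
The extended Čech complex of a presheaf of complexes: comparison with the algebraic one, and with
sections with supports for flasque sheaves.
-/

set_option autoImplicit false

namespace Groth.Agent.CechX

universe v u

open CategoryTheory CategoryTheory.Limits CochainComplex TopologicalSpace Opposite

variable {A : Type u} [CommRing A] {X : Type v} [TopologicalSpace X]

/-- Presheaves of complexes. -/
abbrev PCx (A : Type u) [CommRing A] (X : Type v) [TopologicalSpace X] :=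
  (Opens X)ᵒᵖ ⥤ CochainComplex (ModuleCat.{u} A) ℤ

/-- Restriction. -/
noncomputable abbrev rho (P : PCx A X) {V W : Opens X} (h : V ≤ W) : P.obj (op W) ⟶ P.obj (op V) :=
  P.map (homOfLE h).op

theorem rho_rho (P : PCx A X) {V' V W : Opens X} (h : V ≤ W) (h' : V' ≤ V) (p : ℤ) (x : (P.obj (op W)).X p) :
    (rho P h').f p ((rho P h).f p x) = (rho P (h'.trans h)).f p x := by
  rw [← ConcreteCategory.comp_apply, ← HomologicalComplex.comp_f, ← P.map_comp]
  rfl

theorem rho_self (P : PCx A X) {W : Opens X} (h : W ≤ W) (p : ℤ) (x : (P.obj (op W)).X p) :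
    (rho P h).f p x = x := by
  show (P.map (𝟙 (op W))).f p x = x
  rw [P.map_id]
  rfl

theorem rho_d (P : PCx A X) {V W : Opens X} (h : V ≤ W) (p q : ℤ) (x : (P.obj (op W)).X p) :
    (P.obj (op V)).d p q ((rho P h).f p x) = (rho P h).f q ((P.obj (op W)).d p q x) :=
  congrArg (fun f => f.hom x) ((rho P h).comm p q)

theorem cnext_w (O : Opens X) (P : PCx A X) {W W' : (Opens X)ᵒᵖ} (i : W ⟶ W') :
    rho P (inf_le_left : unop W ⊓ O ≤ unop W) ≫ rho P (inf_le_inf_right O (leOfHom i.unop)) =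
      P.map i ≫ rho P (inf_le_left : unop W' ⊓ O ≤ unop W') := by
  rw [← P.map_comp, ← P.map_comp]
  rfl

/-- One step on restriction maps. -/
noncomputable def cnMap (O : Opens X) (P : PCx A X) {W W' : (Opens X)ᵒᵖ} (i : W ⟶ W') :
    mappingCocone (rho P (inf_le_left : unop W ⊓ O ≤ unop W)) ⟶ mappingCocone (rho P (inf_le_left : unop W' ⊓ O ≤ unop W')) :=
  coconeMap (P.map i) (rho P (inf_le_inf_right O (leOfHom i.unop))) (cnext_w O P i)

theorem cnMap_apply (O : Opens X) (P : PCx A X) {W W' : (Opens X)ᵒᵖ} (i : W ⟶ W') {q p : ℤ} (h : q + 1 = p)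
    (z : (mappingCocone (rho P (inf_le_left : unop W ⊓ O ≤ unop W))).X p) :
    (cnMap O P i).f p z = mk (rho P (inf_le_left : unop W' ⊓ O ≤ unop W')) q p h ((P.map i).f p (pr1 _ p z))
      ((rho P (inf_le_inf_right O (leOfHom i.unop))).f q (pr2 _ q p h z)) :=
  coconeMap_apply _ _ (cnext_w O P i) h z

/-- One step: the cocone of the restriction to `W ⊓ O`. -/
noncomputable def cnext (O : Opens X) (P : PCx A X) : PCx A X where
  obj W := mappingCocone (rho P (inf_le_left : unop W ⊓ O ≤ unop W))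
  map i := cnMap O P i
  map_id W := by
    ext p : 1
    refine ModuleCat.hom_ext (LinearMap.ext fun z => ?_)
    show (cnMap O P (𝟙 W)).f p z = z
    rw [cnMap_apply O P (𝟙 W) (sub_add_cancel p 1), rho_self, P.map_id]
    exact mk_pr _ z
  map_comp {W W' W''} i j := by
    ext p : 1
    refine ModuleCat.hom_ext (LinearMap.ext fun z => ?_)
    show (cnMap O P (i ≫ j)).f p z = (cnMap O P j).f p ((cnMap O P i).f p z)
    rw [cnMap_apply O P (i ≫ j) (sub_add_cancel p 1), cnMap_apply O P i (sub_add_cancel p 1),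
      cnMap_apply O P j (sub_add_cancel p 1), pr1_mk, pr2_mk, rho_rho, P.map_comp]
    rfl

/-- The iteration. -/
noncomputable def CC (D : A → Opens X) : List A → PCx A X → PCx A X
  | [], P => P
  | f :: fs, P => cnext (D f) (CC D fs P)

theorem cnApp_w (O : Opens X) {P Q : PCx A X} (α : P ⟶ Q) (W : (Opens X)ᵒᵖ) :
    rho P (inf_le_left : unop W ⊓ O ≤ unop W) ≫ α.app (op (unop W ⊓ O)) =
      α.app W ≫ rho Q (inf_le_left : unop W ⊓ O ≤ unop W) :=
  α.naturality _

/-- One step on natural maps. -/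
noncomputable def cnApp (O : Opens X) {P Q : PCx A X} (α : P ⟶ Q) (W : (Opens X)ᵒᵖ) :
    mappingCocone (rho P (inf_le_left : unop W ⊓ O ≤ unop W)) ⟶ mappingCocone (rho Q (inf_le_left : unop W ⊓ O ≤ unop W)) :=
  coconeMap (α.app W) (α.app (op (unop W ⊓ O))) (cnApp_w O α W)

theorem cnApp_apply (O : Opens X) {P Q : PCx A X} (α : P ⟶ Q) (W : (Opens X)ᵒᵖ) {q p : ℤ} (h : q + 1 = p)
    (z : (mappingCocone (rho P (inf_le_left : unop W ⊓ O ≤ unop W))).X p) :
    (cnApp O α W).f p z = mk (rho Q (inf_le_left : unop W ⊓ O ≤ unop W)) q p h ((α.app W).f p (pr1 _ p z))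
      ((α.app (op (unop W ⊓ O))).f q (pr2 _ q p h z)) :=
  coconeMap_apply _ _ (cnApp_w O α W) h z

/-- Functoriality of one step. -/
noncomputable def cnextMap (O : Opens X) {P Q : PCx A X} (α : P ⟶ Q) : cnext O P ⟶ cnext O Q where
  app W := cnApp O α W
  naturality W W' i := by
    ext p : 1
    refine ModuleCat.hom_ext (LinearMap.ext fun z => ?_)
    suffices H : ∀ z : (mappingCocone (rho P (inf_le_left : unop W ⊓ O ≤ unop W))).X p,
        (cnApp O α W').f p ((cnMap O P i).f p z) = (cnMap O Q i).f p ((cnApp O α W).f p z) from H z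
    intro z
    rw [cnMap_apply O P i (sub_add_cancel p 1), cnApp_apply O α W' (sub_add_cancel p 1),
      cnApp_apply O α W (sub_add_cancel p 1), cnMap_apply O Q i (sub_add_cancel p 1),
      pr1_mk, pr2_mk, pr1_mk, pr2_mk]
    refine congrArg₂ (mk _ _ _ _) ?_ ?_
    · exact ConcreteCategory.congr_hom (HomologicalComplex.congr_hom (α.naturality i) p) _
    · exact ConcreteCategory.congr_hom (HomologicalComplex.congr_hom
        (α.naturality (homOfLE (inf_le_inf_right O (leOfHom i.unop))).op) (p - 1)) _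

/-- Functoriality of the iteration. -/
noncomputable def ccMap (D : A → Opens X) {P Q : PCx A X} (α : P ⟶ Q) : (fs : List A) → (CC D fs P ⟶ CC D fs Q)
  | [] => α
  | f :: fs => cnextMap (D f) (ccMap D α fs)

/-- A basic open. -/
def Bsc (D : A → Opens X) (W : Opens X) : Prop := ∃ a, W = D a

theorem Bsc.inf {D : A → Opens X} (hD : ∀ a b, D (a * b) = D a ⊓ D b) {W : Opens X} (h : Bsc D W) (b : A) :
    Bsc D (W ⊓ D b) := by
  obtain ⟨a, rfl⟩ := h
  exact ⟨a * b, (hD a b).symm⟩

theorem qIso_ccMap {D : A → Opens X} (hD : ∀ a b, D (a * b) = D a ⊓ D b) {P Q : PCx A X} (α : P ⟶ Q)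
    (h : ∀ W, Bsc D W → QIso (α.app (op W))) : ∀ (fs : List A) (W : Opens X), Bsc D W →
      QIso ((ccMap D α fs).app (op W))
  | [], W, hW => h W hW
  | f :: fs, W, hW => qIso_coconeMap _ _ (cnApp_w (D f) (ccMap D α fs) (op W)) (qIso_ccMap hD α h fs W hW)
      (qIso_ccMap hD α h fs _ (hW.inf hD f))

/-- A map which is a localisation at the powers of `b`, degree by degree. -/
structure LocMap (b : A) {K L : CochainComplex (ModuleCat.{u} A) ℤ} (φ : K ⟶ L) : Prop where
  bij : ∀ p, Function.Bijective fun y : L.X p => b • y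
  surj : ∀ p (y : L.X p), ∃ (n : ℕ) (x : K.X p), φ.f p x = b ^ n • y
  ker : ∀ p (x : K.X p), φ.f p x = 0 → ∃ n : ℕ, b ^ n • x = 0

/-- Restrictions to smaller basic opens are localisations. -/
def LocAt (D : A → Opens X) (P : PCx A X) : Prop :=
  ∀ (W V : Opens X) (h : V ≤ W), Bsc D W → ∀ b, V = W ⊓ D b → LocMap b (rho P h)

theorem LocAt.cnext {D : A → Opens X} (hD : ∀ a b, D (a * b) = D a ⊓ D b) {P : PCx A X} (hP : LocAt D P) (f : A) :
    LocAt D (cnext (D f) P) := by
  intro W V h hW b hV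
  have h1 := hP W V h hW b hV
  have h2 := hP (W ⊓ D f) (V ⊓ D f) (inf_le_inf_right _ h) (hW.inf hD f) b (by rw [hV, inf_right_comm])
  have happ : ∀ (p : ℤ) (z : (mappingCocone (rho P (inf_le_left : W ⊓ D f ≤ W))).X p),
      (rho (CechX.cnext (D f) P) h).f p z = mk (rho P (inf_le_left : V ⊓ D f ≤ V)) (p - 1) p (sub_add_cancel p 1)
        ((rho P h).f p (pr1 _ p z)) ((rho P (inf_le_inf_right (D f) h)).f (p - 1) (pr2 _ (p - 1) p (sub_add_cancel p 1) z)) :=
    fun p z => cnMap_apply (D f) P (homOfLE h).op (sub_add_cancel p 1) z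
  suffices H : ∀ p, (Function.Bijective fun y : (mappingCocone (rho P (inf_le_left : V ⊓ D f ≤ V))).X p => b • y) ∧
      (∀ y : (mappingCocone (rho P (inf_le_left : V ⊓ D f ≤ V))).X p, ∃ (n : ℕ) (x : _),
        (rho (CechX.cnext (D f) P) h).f p x = b ^ n • y) ∧
      ∀ x : (mappingCocone (rho P (inf_le_left : W ⊓ D f ≤ W))).X p,
        (rho (CechX.cnext (D f) P) h).f p x = 0 → ∃ n : ℕ, b ^ n • x = 0 from
    ⟨fun p => (H p).1, fun p => (H p).2.1, fun p => (H p).2.2⟩
  intro p
  refine ⟨⟨fun y y' hy => ?_, fun y => ?_⟩, fun y => ?_, fun x hx => ?_⟩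
  · refine ext (sub_add_cancel p 1) ((h1.bij p).1 ?_) ((h2.bij (p - 1)).1 ?_)
    · show b • pr1 _ p y = b • pr1 _ p y'
      rw [← map_smul, ← map_smul]
      exact congrArg _ hy
    · show b • pr2 _ (p - 1) p (sub_add_cancel p 1) y = b • pr2 _ (p - 1) p (sub_add_cancel p 1) y'
      rw [← map_smul, ← map_smul]
      exact congrArg _ hy
  · obtain ⟨u, hu⟩ := (h1.bij p).2 (pr1 _ p y)
    obtain ⟨v, hv⟩ := (h2.bij (p - 1)).2 (pr2 _ (p - 1) p (sub_add_cancel p 1) y)
    exact ⟨mk _ (p - 1) p (sub_add_cancel p 1) u v, ext (sub_add_cancel p 1) (by rw [map_smul, pr1_mk]; exact hu)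
      (by rw [map_smul, pr2_mk]; exact hv)⟩
  · obtain ⟨n, u, hu⟩ := h1.surj p (pr1 _ p y)
    obtain ⟨m, v, hv⟩ := h2.surj (p - 1) (pr2 _ (p - 1) p (sub_add_cancel p 1) y)
    refine ⟨n + m, mk _ (p - 1) p (sub_add_cancel p 1) (b ^ m • u) (b ^ n • v), ?_⟩
    rw [happ]
    refine ext (sub_add_cancel p 1) ?_ ?_
    · rw [pr1_mk, pr1_mk, map_smul, map_smul, hu, smul_smul, ← pow_add, add_comm m n]
    · rw [pr2_mk, pr2_mk, map_smul, map_smul, hv, smul_smul, ← pow_add]
  · rw [happ] at hx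
    have e1 := congrArg (pr1 _ p) hx
    have e2 := congrArg (pr2 _ (p - 1) p (sub_add_cancel p 1)) hx
    replace e1 := (pr1_mk (φ := rho P (inf_le_left : V ⊓ D f ≤ V)) (sub_add_cancel p 1) _ _).symm.trans (e1.trans (map_zero _))
    replace e2 := (pr2_mk (φ := rho P (inf_le_left : V ⊓ D f ≤ V)) (sub_add_cancel p 1) _ _).symm.trans (e2.trans (map_zero _))
    obtain ⟨n, hn⟩ := h1.ker p _ e1
    obtain ⟨m, hm⟩ := h2.ker (p - 1) _ e2
    refine ⟨n + m, ext (sub_add_cancel p 1) ?_ ?_⟩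
    · rw [map_smul, map_zero, add_comm, pow_add, mul_smul, hn, smul_zero]
    · rw [map_smul, map_zero, pow_add, mul_smul, hm, smul_zero]

theorem locAt_CC {D : A → Opens X} (hD : ∀ a b, D (a * b) = D a ⊓ D b) {P : PCx A X} (hP : LocAt D P) :
    ∀ fs : List A, LocAt D (CC D fs P)
  | [] => hP
  | f :: fs => (locAt_CC hD hP fs).cnext hD f

/-- A localisation map receives a quasi-isomorphism from the localised complex. -/
theorem LocMap.exists_qIso {b : A} {K L : CochainComplex (ModuleCat.{u} A) ℤ} {φ : K ⟶ L} (h : LocMap b φ) :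
    ∃ ψ : (DerCA.locCx (Submonoid.powers b)).obj K ⟶ L,
      DerCA.locCxUnit (Submonoid.powers b) K ≫ ψ = φ ∧ QIso ψ := by
  have hbn : ∀ p (n : ℕ), Function.Bijective fun y : L.X p => b ^ n • y := by
    intro p n
    induction n with
    | zero => simp only [pow_zero, one_smul]; exact Function.bijective_id
    | succ n ih =>
      have : (fun y : L.X p => b ^ (n + 1) • y) = (fun y => b ^ n • y) ∘ fun y => b • y :=
        funext fun y => by rw [Function.comp_apply, pow_succ, mul_smul]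
      rw [this]
      exact ih.comp (h.bij p)
  have hu : ∀ p (s : Submonoid.powers b), IsUnit (algebraMap A (Module.End A (L.X p)) s) := by
    rintro p ⟨_, n, rfl⟩
    exact (Module.End.isUnit_iff _).2 (hbn p n)
  let l : ∀ p, LocalizedModule (Submonoid.powers b) (K.X p) →ₗ[A] ↑(L.X p) := fun p =>
    LocalizedModule.lift (Submonoid.powers b) (φ.f p).hom (hu p)
  have hl : ∀ p (x : K.X p) (s : Submonoid.powers b), (s : A) • l p (frac (Submonoid.powers b) p x s) = φ.f p x := by
    intro p x s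
    show (s : A) • LocalizedModule.lift (Submonoid.powers b) (φ.f p).hom (hu p) (LocalizedModule.mk x s) = _
    rw [LocalizedModule.lift_mk]
    exact congrArg (fun g : Module.End A (L.X p) => g ((φ.f p).hom x)) (hu p s).mul_val_inv
  have hinj : ∀ p (s : Submonoid.powers b), Function.Injective fun y : L.X p => (s : A) • y := by
    rintro p ⟨_, n, rfl⟩
    exact (hbn p n).1
  let ψ : (DerCA.locCx (Submonoid.powers b)).obj K ⟶ L :=
    { f := fun p => ModuleCat.ofHom (l p)
      comm' := fun p q _ => by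
        refine ModuleCat.hom_ext (LinearMap.ext fun z => ?_)
        obtain ⟨x, s, rfl⟩ := exists_frac (Submonoid.powers b) p z
        refine hinj q s ?_
        show (s : A) • L.d p q (l p (frac _ p x s)) = (s : A) • l q (((DerCA.locCx (Submonoid.powers b)).obj K).d p q (frac _ p x s))
        rw [d_frac, hl, ← map_smul, hl]
        exact congrArg (fun f => f.hom x) (φ.comm p q) }
  have hψ : ∀ p (x : K.X p) (s : Submonoid.powers b), (s : A) • ψ.f p (frac _ p x s) = φ.f p x := hl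
  refine ⟨ψ, ?_, ?_⟩
  · ext p : 1
    refine ModuleCat.hom_ext (LinearMap.ext fun x => ?_)
    show ψ.f p (frac _ p x 1) = φ.f p x
    rw [← hψ p x 1, Submonoid.coe_one, one_smul]
  have hb : ∀ p, Function.Bijective (ψ.f p).hom := by
    refine fun p => ⟨(injective_iff_map_eq_zero _).2 fun z hz => ?_, fun y => ?_⟩
    · obtain ⟨x, s, rfl⟩ := exists_frac (Submonoid.powers b) p z
      obtain ⟨n, hn⟩ := h.ker p x (by rw [← hψ p x s, hz, smul_zero])
      exact (frac_eq_zero_iff _ p x s).2 ⟨⟨b ^ n, n, rfl⟩, hn⟩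
    · obtain ⟨n, x, hx⟩ := h.surj p y
      exact ⟨frac _ p x ⟨b ^ n, n, rfl⟩, hinj p ⟨b ^ n, n, rfl⟩ ((hψ p x _).trans hx)⟩
  have hd : ∀ p q z, L.d p q (ψ.f p z) = ψ.f q (((DerCA.locCx (Submonoid.powers b)).obj K).d p q z) :=
    fun p q z => congrArg (fun f => f.hom z) (ψ.comm p q)
  constructor
  · intro q p _ x' hx'
    obtain ⟨x, rfl⟩ := (hb p).2 x'
    exact ⟨x, (hb (p + 1)).1 (by rw [← hd, map_zero]; exact hx'), 0, by rw [map_zero, sub_self]⟩
  · intro q p _ x _ y' hy'
    obtain ⟨y, rfl⟩ := (hb q).2 y'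
    exact ⟨y, (hb p).1 (by rw [← hd]; exact hy')⟩

theorem exists_qIso_EC {D : A → Opens X} (hD : ∀ a b, D (a * b) = D a ⊓ D b) (h1 : D 1 = ⊤) {P : PCx A X}
    (hP : LocAt D P) {K : CochainComplex (ModuleCat.{u} A) ℤ} (e₀ : K ⟶ P.obj (op ⊤)) (he₀ : QIso e₀) :
    ∀ fs : List A, ∃ e : EC fs K ⟶ (CC D fs P).obj (op ⊤), QIso e
  | [] => ⟨e₀, he₀⟩
  | f :: fs => by
    obtain ⟨e, he⟩ := exists_qIso_EC hD h1 hP e₀ he₀ fs
    have hloc := locAt_CC hD hP fs ⊤ (⊤ ⊓ D f) inf_le_left ⟨1, h1.symm⟩ f rfl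
    obtain ⟨ψ, hψ, hq⟩ := hloc.exists_qIso
    refine ⟨coconeMap e ((DerCA.locCx (Submonoid.powers f)).map e ≫ ψ) ?_,
      qIso_coconeMap _ _ _ he ((qIso_locCx_map he).comp hq)⟩
    rw [← Category.assoc, unit_naturality, Category.assoc, hψ]

/-- The union of the basic opens. -/
def uni (D : A → Opens X) : List A → Opens X
  | [] => ⊥
  | f :: fs => D f ⊔ uni D fs

/-- Properties of sections of flasque sheaves. -/
structure FlSh (P : PCx A X) : Prop where
  bot : ∀ p (x : (P.obj (op ⊥)).X p), x = 0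
  sep : ∀ {W V₁ V₂ : Opens X} (h₁ : V₁ ≤ W) (h₂ : V₂ ≤ W) p (x : (P.obj (op W)).X p),
    (rho P h₁).f p x = 0 → (rho P h₂).f p x = 0 → (rho P (sup_le h₁ h₂)).f p x = 0
  ext : ∀ {W V : Opens X} (h : V ≤ W) (U : Opens X) p (y : (P.obj (op V)).X p),
    (rho P (inf_le_left : V ⊓ U ≤ V)).f p y = 0 →
      ∃ x : (P.obj (op W)).X p, (rho P h).f p x = y ∧ (rho P (inf_le_left : W ⊓ U ≤ W)).f p x = 0

/-- The first component, iterated. -/
noncomputable def jj (D : A → Opens X) (P : PCx A X) (p : ℤ) : (fs : List A) → (W : Opens X) →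
    (↑((P.obj (op W)).X p) →ₗ[A] ↑(((CC D fs P).obj (op W)).X p))
  | [], _ => LinearMap.id
  | f :: fs, W => ((mappingCocone.inl (rho (CC D fs P) (inf_le_left : W ⊓ D f ≤ W))).v p p (add_zero p)).hom.comp
      (jj D P p fs W)

theorem jj_cons (D : A → Opens X) (P : PCx A X) (f : A) (fs : List A) (W : Opens X) {q p : ℤ} (h : q + 1 = p)
    (x : (P.obj (op W)).X p) : jj D P p (f :: fs) W x =
      mk (rho (CC D fs P) (inf_le_left : W ⊓ D f ≤ W)) q p h (jj D P p fs W x) 0 := by
  rw [mk, map_zero, add_zero]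
  rfl

theorem rho_jj (D : A → Opens X) (P : PCx A X) (p : ℤ) : ∀ (fs : List A) {V W : Opens X} (h : V ≤ W)
    (x : (P.obj (op W)).X p), (rho (CC D fs P) h).f p (jj D P p fs W x) = jj D P p fs V ((rho P h).f p x)
  | [], _, _, _, _ => rfl
  | f :: fs, V, W, h, x => by
    rw [jj_cons D P f fs W (sub_add_cancel p 1), jj_cons D P f fs V (sub_add_cancel p 1)]
    refine (cnMap_apply (D f) (CC D fs P) (homOfLE h).op (sub_add_cancel p 1) _).trans ?_
    rw [pr1_mk, pr2_mk, map_zero]
    exact congrArg (fun z => mk (rho (CC D fs P) (inf_le_left : V ⊓ D f ≤ V)) (p - 1) p (sub_add_cancel p 1) z 0)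
      (rho_jj D P p fs h x)

/-- Vanishing on the union. -/
def Killed (D : A → Opens X) (P : PCx A X) (fs : List A) (W : Opens X) (p : ℤ) (x : (P.obj (op W)).X p) : Prop :=
  (rho P (inf_le_left : W ⊓ uni D fs ≤ W)).f p x = 0

variable {D : A → Opens X} {P : PCx A X}

theorem rho_eq_zero_of_le {W V V' : Opens X} (h : V' ≤ V) (hV : V ≤ W) {p : ℤ} {x : (P.obj (op W)).X p}
    (hx : (rho P hV).f p x = 0) : (rho P (h.trans hV)).f p x = 0 := by
  rw [← rho_rho P hV h, hx, map_zero]

theorem Killed.d {fs : List A} {W : Opens X} {p : ℤ} {x : (P.obj (op W)).X p} (hx : Killed D P fs W p x) (q : ℤ) :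
    Killed D P fs W q ((P.obj (op W)).d p q x) := by
  unfold Killed at *
  rw [← rho_d, hx, map_zero]

theorem Killed.rho {fs : List A} {W V : Opens X} (h : V ≤ W) {p : ℤ} {x : (P.obj (op W)).X p}
    (hx : Killed D P fs W p x) : Killed D P fs V p ((rho P h).f p x) := by
  unfold Killed at *
  rw [rho_rho]
  exact rho_eq_zero_of_le (inf_le_inf_right _ h) inf_le_left hx

theorem Killed.cons_left {f : A} {fs : List A} {W : Opens X} {p : ℤ} {x : (P.obj (op W)).X p}
    (hx : Killed D P (f :: fs) W p x) : (CechX.rho P (inf_le_left : W ⊓ D f ≤ W)).f p x = 0 :=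
  rho_eq_zero_of_le (inf_le_inf_left W le_sup_left) inf_le_left hx

theorem Killed.cons_right {f : A} {fs : List A} {W : Opens X} {p : ℤ} {x : (P.obj (op W)).X p}
    (hx : Killed D P (f :: fs) W p x) : Killed D P fs W p x :=
  rho_eq_zero_of_le (inf_le_inf_left W le_sup_right) inf_le_left hx

theorem killed_cons (hF : FlSh P) {f : A} {fs : List A} {W : Opens X} {p : ℤ} {x : (P.obj (op W)).X p}
    (h₁ : (CechX.rho P (inf_le_left : W ⊓ D f ≤ W)).f p x = 0) (h₂ : Killed D P fs W p x) :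
    Killed D P (f :: fs) W p x :=
  rho_eq_zero_of_le (inf_sup_left W (D f) (uni D fs)).le (sup_le inf_le_left inf_le_left)
    (hF.sep inf_le_left inf_le_left p x h₁ h₂)

theorem d_jj (p q : ℤ) (hpq : p + 1 = q) : ∀ (fs : List A) (W : Opens X) (x : (P.obj (op W)).X p),
    Killed D P fs W p x → ((CC D fs P).obj (op W)).d p q (jj D P p fs W x) = jj D P q fs W ((P.obj (op W)).d p q x)
  | [], _, _, _ => rfl
  | f :: fs, W, x, hx => by
    show (mappingCocone (rho (CC D fs P) (inf_le_left : W ⊓ D f ≤ W))).d p q _ = _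
    rw [jj_cons D P f fs W (sub_add_cancel p 1), jj_cons D P f fs W hpq, d_mk (sub_add_cancel p 1) hpq,
      d_jj p q hpq fs W x hx.cons_right, rho_jj, hx.cons_left, map_zero, map_zero, neg_zero, sub_zero]

/-- For flasque sheaves the iterated cocone computes the sections with supports. -/
theorem cc_flasque (hF : FlSh P) : ∀ fs : List A,
    (∀ (W : Opens X) (q p : ℤ), q + 1 = p → ∀ z : ((CC D fs P).obj (op W)).X p,
      ((CC D fs P).obj (op W)).d p (p + 1) z = 0 → ∃ x, Killed D P fs W p x ∧ (P.obj (op W)).d p (p + 1) x = 0 ∧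
        ∃ c, ((CC D fs P).obj (op W)).d q p c = z - jj D P p fs W x) ∧
    ∀ (W : Opens X) (q p : ℤ), q + 1 = p → ∀ x, Killed D P fs W p x → (P.obj (op W)).d p (p + 1) x = 0 →
      (∃ c, ((CC D fs P).obj (op W)).d q p c = jj D P p fs W x) →
        ∃ y, Killed D P fs W q y ∧ (P.obj (op W)).d q p y = x := by
  intro fs
  induction fs with
  | nil =>
    have hk : ∀ (W : Opens X) p (x : (P.obj (op W)).X p), Killed D P [] W p x := fun W p x =>
      rho_eq_zero_of_le (inf_le_right : W ⊓ (⊥ : Opens X) ≤ ⊥) bot_le (hF.bot p _)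
    exact ⟨fun W q p _ z hz => ⟨z, hk W p z, hz, 0, (map_zero _).trans (sub_self z).symm⟩,
      fun W q p _ x _ _ ⟨c, hc⟩ => ⟨c, hk W q c, hc⟩⟩
  | cons f fs ih =>
    obtain ⟨ihS, ihI⟩ := ih
    refine ⟨fun W q p hqp => ?_, fun W q p hqp => ?_⟩
    · subst hqp
      suffices H : ∀ z : (mappingCocone (rho (CC D fs P) (inf_le_left : W ⊓ D f ≤ W))).X (q + 1),
          (mappingCocone (rho (CC D fs P) (inf_le_left : W ⊓ D f ≤ W))).d (q + 1) (q + 1 + 1) z = 0 →
          ∃ x, Killed D P (f :: fs) W (q + 1) x ∧ (P.obj (op W)).d (q + 1) (q + 1 + 1) x = 0 ∧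
            ∃ c, (mappingCocone (rho (CC D fs P) (inf_le_left : W ⊓ D f ≤ W))).d q (q + 1) c =
              z - mk (rho (CC D fs P) (inf_le_left : W ⊓ D f ≤ W)) q (q + 1) rfl (jj D P (q + 1) fs W x) 0 from fun z hz => by
        obtain ⟨x, hx, hdx, c, hc⟩ := H z hz
        exact ⟨x, hx, hdx, c, hc.trans (congrArg (fun t => z - t) (jj_cons D P f fs W rfl x).symm)⟩
      intro z hz
      obtain ⟨hz1, hz2⟩ := (d_eq_zero_iff (φ := (rho (CC D fs P) (inf_le_left : W ⊓ D f ≤ W))) (rfl : q + 1 = q + 1) rfl z).1 hz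
      obtain ⟨x, hx, hdx, c, hc⟩ := ihS W q (q + 1) rfl _ hz1
      generalize hb : pr2 (rho (CC D fs P) (inf_le_left : W ⊓ D f ≤ W)) q (q + 1) rfl z = b at hz2
      -- the restriction of `x` bounds
      obtain ⟨y, hy, hdy⟩ := ihI (W ⊓ D f) q (q + 1) rfl ((rho P inf_le_left).f (q + 1) x) (hx.rho _)
        (by rw [rho_d, hdx, map_zero]) ⟨-b - (rho (CC D fs P) (inf_le_left : W ⊓ D f ≤ W)).f q c, by
          rw [map_sub, map_neg, ← rho_jj, rho_d, hc, map_sub, ← eq_neg_of_add_eq_zero_left hz2]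
          abel⟩
      obtain ⟨yt, hyt, hytU⟩ := hF.ext (inf_le_left : W ⊓ D f ≤ W) (uni D fs) q y hy
      have hx' : Killed D P (f :: fs) W (q + 1) (x - (P.obj (op W)).d q (q + 1) yt) := by
        refine killed_cons hF ?_ ?_
        · rw [map_sub, ← rho_d, hyt, hdy, sub_self]
        · have hk : Killed D P fs W (q + 1) ((P.obj (op W)).d q (q + 1) yt) := (show Killed D P fs W q yt from hytU).d _
          unfold Killed at *
          rw [map_sub, hx, hk, sub_self]
      -- correct the second component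
      set b' := b + (rho (CC D fs P) (inf_le_left : W ⊓ D f ≤ W)).f q c + jj D P q fs (W ⊓ D f) y with hb'
      have hb'0 : ((CC D fs P).obj (op (W ⊓ D f))).d q (q + 1) b' = 0 := by
        rw [hb', map_add, map_add, rho_d, hc, d_jj q (q + 1) rfl fs (W ⊓ D f) y hy, hdy, map_sub,
          ← rho_jj, eq_neg_of_add_eq_zero_left hz2]
        abel
      obtain ⟨w, hw, hdw, e, he⟩ := ihS (W ⊓ D f) (q - 1) q (sub_add_cancel q 1) b' hb'0
      obtain ⟨wt, hwt, hwtU⟩ := hF.ext (inf_le_left : W ⊓ D f ≤ W) (uni D fs) q w hw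
      have hwk : Killed D P (f :: fs) W (q + 1) ((P.obj (op W)).d q (q + 1) wt) := by
        refine killed_cons hF ?_ ((show Killed D P fs W q wt from hwtU).d _)
        rw [← rho_d, hwt, hdw]
      refine ⟨x - (P.obj (op W)).d q (q + 1) yt + (P.obj (op W)).d q (q + 1) wt, ?_, ?_,
        mk (rho (CC D fs P) (inf_le_left : W ⊓ D f ≤ W)) (q - 1) q (sub_add_cancel q 1) (c + jj D P q fs W yt - jj D P q fs W wt) (-e), ?_⟩
      · unfold Killed at *
        rw [map_add, hx', hwk, add_zero]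
      · rw [map_add, map_sub, hdx]
        have dd : ∀ t : (P.obj (op W)).X q, (P.obj (op W)).d (q + 1) (q + 1 + 1) ((P.obj (op W)).d q (q + 1) t) = 0 :=
          fun t => congrArg (fun f => f.hom t) ((P.obj (op W)).d_comp_d q (q + 1) (q + 1 + 1))
        rw [dd, dd, sub_zero, add_zero]
      · rw [d_mk (sub_add_cancel q 1) rfl]
        refine ext rfl ?_ ?_
        · rw [pr1_mk, map_sub _ z, pr1_mk, map_sub, map_add, hc, d_jj q (q + 1) rfl fs W yt hytU,
            d_jj q (q + 1) rfl fs W wt hwtU, map_add (jj D P (q + 1) fs W), map_sub (jj D P (q + 1) fs W)]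
          abel
        · rw [pr2_mk, map_sub _ z, pr2_mk, sub_zero, hb, map_sub, map_add, rho_jj, rho_jj, hyt, hwt, map_neg, he]
          rw [hb']
          abel
    · subst hqp
      intro x hx hdx
      suffices H : ∀ d : (mappingCocone (rho (CC D fs P) (inf_le_left : W ⊓ D f ≤ W))).X q,
          (mappingCocone (rho (CC D fs P) (inf_le_left : W ⊓ D f ≤ W))).d q (q + 1) d = jj D P (q + 1) (f :: fs) W x →
          ∃ y, Killed D P (f :: fs) W q y ∧ (P.obj (op W)).d q (q + 1) y = x from fun ⟨d, hd⟩ => H d hd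
      intro d hd
      replace hd := hd.trans (jj_cons D P f fs W (rfl : q + 1 = q + 1) x)
      have e1 := congrArg (pr1 (rho (CC D fs P) (inf_le_left : W ⊓ D f ≤ W)) (q + 1)) hd
      have e2 := congrArg (pr2 (rho (CC D fs P) (inf_le_left : W ⊓ D f ≤ W)) q (q + 1) rfl) hd
      rw [pr1_d, pr1_mk] at e1
      rw [pr2_d (sub_add_cancel q 1), pr2_mk] at e2
      generalize pr1 (rho (CC D fs P) (inf_le_left : W ⊓ D f ≤ W)) q d = a at e1 e2
      generalize pr2 (rho (CC D fs P) (inf_le_left : W ⊓ D f ≤ W)) (q - 1) q (sub_add_cancel q 1) d = b at e2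
      obtain ⟨y, hy, hdy⟩ := ihI W q (q + 1) rfl x hx.cons_right hdx ⟨a, e1⟩
      obtain ⟨v, hv, hdv, c, hc⟩ := ihS W (q - 1) q (sub_add_cancel q 1) (a - jj D P q fs W y)
        (by rw [map_sub, e1, d_jj q (q + 1) rfl fs W y hy, hdy, sub_self])
      have hyv : Killed D P fs W q (y + v) := by
        unfold Killed at *
        rw [map_add, hy, hv, add_zero]
      obtain ⟨t, ht, hdt⟩ := ihI (W ⊓ D f) (q - 1) q (sub_add_cancel q 1)
        ((rho P inf_le_left).f q (y + v)) (hyv.rho _) (by rw [rho_d, map_add, hdy, hdv, add_zero, hx.cons_left])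
        ⟨-b - (rho (CC D fs P) (inf_le_left : W ⊓ D f ≤ W)).f (q - 1) c, by
          rw [map_sub, map_neg, ← rho_jj, rho_d, hc, map_sub, map_sub, map_add, map_add]
          have e3 : (rho (CC D fs P) (inf_le_left : W ⊓ D f ≤ W)).f q a = -((CC D fs P).obj (op (W ⊓ D f))).d (q - 1) q b := by
            rw [eq_neg_iff_add_eq_zero, ← neg_eq_zero, neg_add', e2]
          rw [e3]
          abel⟩
      obtain ⟨tt, htt, httU⟩ := hF.ext (inf_le_left : W ⊓ D f ≤ W) (uni D fs) (q - 1) t ht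
      refine ⟨y + v - (P.obj (op W)).d (q - 1) q tt, killed_cons hF ?_ ?_, ?_⟩
      · rw [map_sub, ← rho_d, htt, hdt, sub_self]
      · have hk : Killed D P fs W q ((P.obj (op W)).d (q - 1) q tt) := (show Killed D P fs W (q - 1) tt from httU).d _
        unfold Killed at *
        rw [map_sub, hyv, hk, sub_self]
      · have dd : (P.obj (op W)).d q (q + 1) ((P.obj (op W)).d (q - 1) q tt) = 0 :=
          congrArg (fun f => f.hom tt) ((P.obj (op W)).d_comp_d (q - 1) q (q + 1))
        rw [map_sub, map_add, hdy, hdv, add_zero, dd, sub_zero]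

end Groth.Agent.CechX
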