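import Mathlib
import Groth.Agent.CechX.SheafCech
import Groth.Agent.CechX.Single
import Groth.Agent.LCZ.AcycExt
import Groth.Agent.LCZ.Classes
import Groth.Agent.LCZ.Affine
import Groth.Agent.CohQC.Flasque
import Groth.Agent.CohQC.CechVanish
import Groth.Agent.KFlat.Site
import Groth.Prelude.Def_ega3
import Groth.Agent.CechX.Koszul

/-!
Cohomology with supports of `M~` on any affine scheme is computed by the extended Čech complex.
-/

set_option autoImplicit false

namespace Groth.Agent.CechX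

universe u

open CategoryTheory CategoryTheory.Limits CochainComplex TopologicalSpace Opposite AlgebraicGeometry
open CategoryTheory.Abelian

variable {A : Type u} [CommRing A]

/-- The spectrum. -/
noncomputable abbrev SpecA (A : Type u) [CommRing A] : Scheme.{u} := Spec (CommRingCat.of A)

/-- Basic opens. -/
noncomputable abbrev Dop (a : A) : (SpecA A).Opens := PrimeSpectrum.basicOpen a

theorem Dop_mul (a b : A) : Dop (a * b) = Dop a ⊓ Dop b := PrimeSpectrum.basicOpen_mul a b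

theorem Dop_one : Dop (1 : A) = ⊤ := PrimeSpectrum.basicOpen_one

/-- Sections as modules over `A`. -/
noncomputable abbrev secP (A : Type u) [CommRing A] :
    (SpecA A).Modules ⥤ ((Opens (SpecA A).carrier)ᵒᵖ ⥤ ModuleCat.{u} A) :=
  modulesSpecToSheaf ⋙ TopCat.Sheaf.forget _ _

instance secP_additive : (secP A).Additive where
  map_add := by intros; rfl

theorem bijective_smul_sections {S : CommRingCat.{u}} (N : (Spec S).Modules) (U : (Spec S).Opens) (f : S)
    (h : U ≤ PrimeSpectrum.basicOpen f) :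
    Function.Bijective fun y : (modulesSpecToSheaf.obj N).obj.obj (op U) => f • y :=
  (Module.End.isUnit_iff _).1 (N.isUnit_algebraMap_end_of_le_basicOpen f h)

theorem isLocalizedModule_toOpen {S : CommRingCat.{u}} (M : ModuleCat.{u} S) (f : S) :
    IsLocalizedModule (Submonoid.powers f) (tilde.toOpen M (PrimeSpectrum.basicOpen f)).hom :=
  inferInstance

theorem isIso_toOpen_top' {S : CommRingCat.{u}} (M : ModuleCat.{u} S) : IsIso (tilde.toOpen M ⊤) :=
  inferInstance

/-- The presheaf of complexes of sections. -/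
noncomputable def pcx (K : CochainComplex (SpecA A).Modules ℤ) : PCx A (SpecA A).carrier where
  obj W :=
    { X := fun p => ((secP A).obj (K.X p)).obj W
      d := fun p q => ((secP A).map (K.d p q)).app W
      shape := fun p q h => by rw [K.shape p q h, Functor.map_zero]; rfl
      d_comp_d' := fun p q r _ _ => by
        rw [← NatTrans.comp_app, ← Functor.map_comp, K.d_comp_d, Functor.map_zero]; rfl }
  map i :=
    { f := fun p => ((secP A).obj (K.X p)).map i
      comm' := fun p q _ => ((secP A).map (K.d p q)).naturality i }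
  map_id W := by ext p : 1; exact ((secP A).obj (K.X p)).map_id W
  map_comp i j := by ext p : 1; exact ((secP A).obj (K.X p)).map_comp i j

/-- Functoriality of `pcx`. -/
noncomputable def pcxMap {K L : CochainComplex (SpecA A).Modules ℤ} (φ : K ⟶ L) : pcx K ⟶ pcx L where
  app W :=
    { f := fun p => ((secP A).map (φ.f p)).app W
      comm' := fun p q _ => by
        show ((secP A).map (φ.f p)).app W ≫ ((secP A).map (L.d p q)).app W =
          ((secP A).map (K.d p q)).app W ≫ ((secP A).map (φ.f q)).app W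
        rw [← NatTrans.comp_app, ← Functor.map_comp, φ.comm, Functor.map_comp, NatTrans.comp_app] }
  naturality W W' i := by ext p : 1; exact ((secP A).map (φ.f p)).naturality i

theorem eq_zero_of_isZero {N : (SpecA A).Modules} (h : IsZero N) (W : (Opens (SpecA A).carrier)ᵒᵖ)
    (x : ((secP A).obj N).obj W) : x = 0 :=
  (ModuleCat.subsingleton_of_isZero ((Functor.map_isZero (secP A) h).obj W)).elim x 0

variable (M : ModuleCat.{u} A)

/-- `M~` in degree zero. -/
noncomputable abbrev tSingle : CochainComplex (SpecA A).Modules ℤ :=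
  (CochainComplex.singleFunctor (SpecA A).Modules 0).obj (tilde (R := CommRingCat.of A) M)

/-- The degree zero identification. -/
noncomputable abbrev t0 : (tSingle M).X 0 ≅ tilde (R := CommRingCat.of A) M :=
  HomologicalComplex.singleObjXSelf (ComplexShape.up ℤ) 0 _

/-- `M` to the sections over `W`. -/
noncomputable def toP0 (W : Opens (SpecA A).carrier) : M ⟶ ((pcx (tSingle M)).obj (op W)).X 0 :=
  tilde.toOpen (R := CommRingCat.of A) M W ≫ ((secP A).map (t0 M).inv).app (op W)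

theorem toP0_rho {V W : Opens (SpecA A).carrier} (h : V ≤ W) (m : M) :
    (rho (pcx (tSingle M)) h).f 0 (toP0 M W m) = toP0 M V m := by
  have e1 := congrArg (fun φ => φ.hom (tilde.toOpen (R := CommRingCat.of A) M W m))
    (((secP A).map (t0 M).inv).naturality (homOfLE h).op)
  refine e1.symm.trans ?_
  exact congrArg (((secP A).map (t0 M).inv).app (op V)).hom
    (congrArg (fun φ => φ.hom m) (tilde.toOpen_res (R := CommRingCat.of A) M W V (homOfLE h)))

theorem isZero_tSingle (p : ℤ) (hp : p ≠ 0) : IsZero ((tSingle M).X p) :=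
  HomologicalComplex.isZero_single_obj_X (ComplexShape.up ℤ) 0 _ p hp

theorem isLocalizedModule_toP0 (a : A) :
    IsLocalizedModule (Submonoid.powers a) (toP0 M (Dop a)).hom :=
  haveI := isLocalizedModule_toOpen (S := CommRingCat.of A) M a
  IsLocalizedModule.of_linearEquiv (Submonoid.powers a)
    (tilde.toOpen (R := CommRingCat.of A) M (Dop a)).hom
    (((secP A).mapIso (t0 M).symm).app (op (Dop a))).toLinearEquiv

theorem locAt_tilde : LocAt (Dop (A := A)) (pcx (tSingle M)) := by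
  rintro W V h ⟨a, rfl⟩ b hV
  rw [← Dop_mul] at hV
  subst hV
  have ha : ∀ (V' : Opens (SpecA A).carrier), V' ≤ Dop a → ∀ (p : ℤ),
      Function.Bijective fun y : ((pcx (tSingle M)).obj (op V')).X p => a • y := fun V' hV' p =>
    bijective_smul_sections (S := CommRingCat.of A) ((tSingle M).X p) V' a hV'
  have hb : ∀ (p : ℤ), Function.Bijective fun y : ((pcx (tSingle M)).obj (op (Dop (a * b)))).X p => b • y := fun p =>
    bijective_smul_sections (S := CommRingCat.of A) ((tSingle M).X p) (Dop (a * b)) b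
      ((Dop_mul a b).trans_le inf_le_right)
  have han : ∀ (V' : Opens (SpecA A).carrier), V' ≤ Dop a → ∀ (p : ℤ) (n : ℕ),
      Function.Bijective fun y : ((pcx (tSingle M)).obj (op V')).X p => a ^ n • y := by
    intro V' hV' p n
    induction n with
    | zero => simp only [pow_zero, one_smul]; exact Function.bijective_id
    | succ n ih =>
      have : (fun y : ((pcx (tSingle M)).obj (op V')).X p => a ^ (n + 1) • y) =
          (fun y => a ^ n • y) ∘ fun y => a • y := funext fun y => by rw [Function.comp_apply, pow_succ, mul_smul]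
      rw [this]
      exact ih.comp (ha V' hV' p)
  have := isLocalizedModule_toP0 M (a * b)
  have := isLocalizedModule_toP0 M a
  refine ⟨hb, fun p y => ?_, fun p x hx => ?_⟩
  · rcases eq_or_ne p 0 with rfl | hp
    · obtain ⟨⟨m, ⟨_, n, rfl⟩⟩, hm⟩ := IsLocalizedModule.surj (Submonoid.powers (a * b)) (toP0 M (Dop (a * b))).hom y
      obtain ⟨x, hx⟩ := (han (Dop a) le_rfl 0 n).2 (toP0 M (Dop a) m)
      refine ⟨n, x, (han _ h 0 n).1 ?_⟩
      show a ^ n • (rho (pcx (tSingle M)) h).f 0 x = a ^ n • b ^ n • y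
      rw [← map_smul, show a ^ n • x = toP0 M (Dop a) m from hx, toP0_rho, smul_smul, ← mul_pow]
      exact hm.symm
    · exact ⟨0, 0, (eq_zero_of_isZero (isZero_tSingle M p hp) _ _).trans (eq_zero_of_isZero (isZero_tSingle M p hp) _ _).symm⟩
  · rcases eq_or_ne p 0 with rfl | hp
    · obtain ⟨⟨m, ⟨_, k, rfl⟩⟩, hm⟩ := IsLocalizedModule.surj (Submonoid.powers a) (toP0 M (Dop a)).hom x
      have hm' : a ^ k • x = toP0 M (Dop a) m := hm
      have h0 : (toP0 M (Dop (a * b))).hom m = 0 := by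
        rw [← toP0_rho M h m]
        show (rho (pcx (tSingle M)) h).f 0 (toP0 M (Dop a) m) = 0
        rw [← hm', map_smul, hx, smul_zero]
      obtain ⟨⟨_, n, rfl⟩, hn⟩ := (IsLocalizedModule.eq_zero_iff (Submonoid.powers (a * b)) (toP0 M (Dop (a * b))).hom).1 h0
      refine ⟨n, (han _ le_rfl 0 (n + k)).1 ?_⟩
      show a ^ (n + k) • b ^ n • x = a ^ (n + k) • (0 : ((pcx (tSingle M)).obj (op (Dop a))).X 0)
      rw [smul_zero, pow_add, smul_smul, mul_right_comm, ← mul_pow, mul_smul, hm', ← map_smul,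
        show (a * b) ^ n • m = 0 from hn, map_zero]
    · exact ⟨0, (eq_zero_of_isZero (isZero_tSingle M p hp) _ _).trans (eq_zero_of_isZero (isZero_tSingle M p hp) _ _).symm⟩

theorem exists_qIso_base : ∃ e : single0 M ⟶ (pcx (tSingle M)).obj (op ⊤), QIso e := by
  let e : single0 M ⟶ (pcx (tSingle M)).obj (op ⊤) :=
    HomologicalComplex.mkHomFromSingle (toP0 M ⊤) (fun p _ => by
      ext x
      exact eq_zero_of_isZero (isZero_tSingle M p (by rintro rfl; simp at *)) _ _)
  have he : ∀ p, Function.Bijective (e.f p).hom := by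
    intro p
    rcases eq_or_ne p 0 with rfl | hp
    · have : e.f 0 = (HomologicalComplex.singleObjXSelf (ComplexShape.up ℤ) 0 M).hom ≫ toP0 M ⊤ :=
        HomologicalComplex.mkHomFromSingle_f _ _
      rw [this, ← ConcreteCategory.isIso_iff_bijective]
      have := isIso_toOpen_top' (S := CommRingCat.of A) M
      have : IsIso (toP0 M ⊤) := by
        unfold toP0
        exact IsIso.comp_isIso' this (((secP A).mapIso (t0 M).symm).app (op ⊤)).isIso_hom
      infer_instance
    · exact ⟨fun a b _ => (single0_eq_zero M p (by lia) a).trans (single0_eq_zero M p (by lia) b).symm,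
        fun y => ⟨0, (map_zero _).trans (eq_zero_of_isZero (isZero_tSingle M p hp) _ y).symm⟩⟩
  have hd : ∀ p q z, ((pcx (tSingle M)).obj (op ⊤)).d p q (e.f p z) = e.f q ((single0 M).d p q z) :=
    fun p q z => congrArg (fun f => f.hom z) (e.comm p q)
  refine ⟨e, ⟨fun q p _ x' hx' => ?_, fun q p _ x _ y' hy' => ?_⟩⟩
  · obtain ⟨x, rfl⟩ := (he p).2 x'
    exact ⟨x, (he (p + 1)).1 (by rw [← hd, map_zero]; exact hx'), 0, by rw [map_zero, sub_self]⟩
  · obtain ⟨y, rfl⟩ := (he q).2 y'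
    exact ⟨y, (he p).1 (by rw [← hd]; exact hy')⟩

variable (R : InjectiveResolution (tilde (R := CommRingCat.of A) M))

/-- The sections of the resolution. -/
noncomputable abbrev PR : PCx A (SpecA A).carrier := pcx R.cochainComplex

theorem flSh_PR : FlSh (PR M R) := by
  refine ⟨fun p x => ?_, fun {W V₁ V₂} h₁ h₂ p x e₁ e₂ => ?_, fun {W V} h U p y hy => ?_⟩
  · exact TopCat.Presheaf.IsSheaf.section_ext (modulesSpecToSheaf.obj (R.cochainComplex.X p)).2
      fun z hz => absurd hz (by simp)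
  · refine TopCat.Presheaf.IsSheaf.section_ext (modulesSpecToSheaf.obj (R.cochainComplex.X p)).2 fun z hz => ?_
    rcases hz with hz | hz
    · refine ⟨V₁, le_sup_left, hz, ?_⟩
      show (rho (PR M R) le_sup_left).f p _ = (rho (PR M R) le_sup_left).f p 0
      rw [rho_rho, e₁, map_zero]
    · refine ⟨V₂, le_sup_right, hz, ?_⟩
      show (rho (PR M R) le_sup_right).f p _ = (rho (PR M R) le_sup_right).f p 0
      rw [rho_rho, e₂, map_zero]
  · exact LCZ.exists_extension (U := U) (Coh.toAb (R.cochainComplex.X p)) h y hy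

/-- The resolution as abelian sheaves. -/
noncomputable abbrev KR : CochainComplex (CohTop.Ab (SpecA A).carrier) ℕ :=
  ((LCZ.toSheafS (SpecA A)).mapHomologicalComplex _).obj R.cocomplex

theorem exactAt_KR (n : ℕ) : (KR M R).ExactAt (n + 1) :=
  ShortComplex.Exact.map (R.cocomplex_exactAt_succ n) (LCZ.toSheafS (SpecA A))

/-- The augmentation. -/
noncomputable def iota0 : Coh.toAb (tilde (R := CommRingCat.of A) M) ⟶ (KR M R).X 0 :=
  (LCZ.toSheafS (SpecA A)).map (R.ι.f 0)

/-- The zero cycles. -/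
noncomputable def kr0 : Coh.toAb (tilde (R := CommRingCat.of A) M) ≅ (KR M R).cycles 0 := by
  have : Mono ((LCZ.toSheafS (SpecA A)).map (R.ι.f 0)) := inferInstance
  exact IsLimit.conePointUniqueUpToIso
    (@ShortComplex.Exact.fIsKernel _ _ _ _ _ (ShortComplex.Exact.map R.exact₀ (LCZ.toSheafS (SpecA A))) this)
    ((KR M R).cyclesIsKernel 0 1 (by simp))

theorem kr0_i : (kr0 M R).hom ≫ (KR M R).iCycles 0 = iota0 M R :=
  IsLimit.conePointUniqueUpToIso_hom_comp _ _ WalkingParallelPair.zero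

theorem assoc_inv_hom {C : Type*} [Category C] {X Y Z W : C} (a : X ⟶ Y) (b : Y ⟶ Z) (c : W ≅ Z) :
    (a ≫ b ≫ c.inv) ≫ c.hom = a ≫ b := by simp

theorem subsingleton_KR_free (W : Opens (SpecA A).carrier) (n m : ℕ) :
    Subsingleton (Ext (CohCx.freeSheaf (Opens.grothendieckTopology (SpecA A).carrier) W) ((KR M R).X n) (m + 1)) :=
  haveI : TopCat.Sheaf.IsFlasque ((KR M R).X n) := CohQC.isFlasque_toAb_of_injective (R.cocomplex.X n)
  SiteCoh.flasque_acyclic _ W m

theorem subsingleton_cycles0 {W : Opens (SpecA A).carrier} (hW : IsAffineOpen (X := SpecA A) W) (m : ℕ) :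
    Subsingleton (Ext (CohCx.freeSheaf (Opens.grothendieckTopology (SpecA A).carrier) W) ((KR M R).cycles 0) (m + 1)) := by
  have h : Subsingleton (Ext (CohCx.freeSheaf (Opens.grothendieckTopology (SpecA A).carrier) W)
      (Coh.toAb (tilde (R := CommRingCat.of A) M)) (m + 1)) :=
    CohQC.hu_vanish_of_isAffineOpen (tilde (R := CommRingCat.of A) M) hW m
  refine subsingleton_of_forall_eq 0 fun x => ?_
  have e : x = (x.comp (Ext.mk₀ (kr0 M R).inv) (add_zero (m + 1))).comp (Ext.mk₀ (kr0 M R).hom) (add_zero (m + 1)) := by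
    rw [Ext.comp_assoc_of_third_deg_zero, Ext.mk₀_comp_mk₀, Iso.inv_hom_id, Ext.comp_mk₀_id]
  rw [e, Subsingleton.elim (x.comp (Ext.mk₀ (kr0 M R).inv) (add_zero (m + 1))) 0, Ext.zero_comp]

/-- Elements of the sections of the resolution, in terms of abelian sheaves. -/
noncomputable def rE (W : Opens (SpecA A).carrier) (n : ℕ) :
    ↑(((PR M R).obj (op W)).X (n : ℤ)) ≃+ ((KR M R).X n).obj.obj (op W) :=
  ((((secP A).mapIso (R.cochainComplexXIso (n : ℤ) n rfl)).app (op W)).toLinearEquiv).toAddEquiv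

theorem rE_d (W : Opens (SpecA A).carrier) (n : ℕ) (x : ((PR M R).obj (op W)).X (n : ℤ)) :
    rE M R W (n + 1) (((PR M R).obj (op W)).d (n : ℤ) ((n + 1 : ℕ) : ℤ) x) =
      ((KR M R).d n (n + 1)).hom.app (op W) (rE M R W n x) := by
  have e : R.cochainComplex.d (n : ℤ) ((n + 1 : ℕ) : ℤ) ≫ (R.cochainComplexXIso ((n + 1 : ℕ) : ℤ) (n + 1) rfl).hom =
      (R.cochainComplexXIso (n : ℤ) n rfl).hom ≫ R.cocomplex.d n (n + 1) := by
    rw [R.cochainComplex_d (n : ℤ) ((n + 1 : ℕ) : ℤ) n (n + 1) rfl rfl, Category.assoc, Category.assoc,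
      Iso.inv_hom_id, Category.comp_id]
  exact congrArg (fun φ => ((secP A).map φ).app (op W) x) e

theorem rE_rho {V W : Opens (SpecA A).carrier} (h : V ≤ W) (n : ℕ) (x : ((PR M R).obj (op W)).X (n : ℤ)) :
    rE M R V n ((rho (PR M R) h).f (n : ℤ) x) = LCZ.res ((KR M R).X n) h (rE M R W n x) :=
  congrArg (fun φ => φ.hom x) (((secP A).map (R.cochainComplexXIso (n : ℤ) n rfl).hom).naturality (homOfLE h).op)

theorem qIso_iota {W : Opens (SpecA A).carrier} (hW : IsAffineOpen (X := SpecA A) W) :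
    QIso ((pcxMap R.ι').app (op W)) := by
  let J := Opens.grothendieckTopology (SpecA A).carrier
  have hι : ∀ x, rE M R W 0 (((pcxMap R.ι').app (op W)).f (0 : ℕ) x) =
      (iota0 M R).hom.app (op W) (((secP A).map (t0 M).hom).app (op W) x) := by
    intro x
    have e : R.ι'.f (0 : ℤ) ≫ (R.cochainComplexXIso 0 0 rfl).hom = (t0 M).hom ≫ R.ι.f 0 := by
      rw [R.ι'_f_zero]
      exact assoc_inv_hom (C := (SpecA A).Modules) _ _ _
    exact congrArg (fun φ => ((secP A).map φ).app (op W) x) e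
  have hιinj : Function.Injective ((iota0 M R).hom.app (op W)) := by
    have : Mono (iota0 M R) := inferInstanceAs (Mono ((LCZ.toSheafS (SpecA A)).map (R.ι.f 0)))
    exact LCZ.app_injective_of_mono _ W
  have htinj : Function.Injective (((secP A).map (t0 M).hom).app (op W)) :=
    (((secP A).mapIso (t0 M)).app (op W)).toLinearEquiv.injective
  have h0 : ∀ p, p ≠ 0 → ∀ x : ((pcx (tSingle M)).obj (op W)).X p, x = 0 := fun p hp x =>
    eq_zero_of_isZero (isZero_tSingle M p hp) _ x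
  have hneg : ∀ p : ℤ, p < 0 → ∀ x : ((PR M R).obj (op W)).X p, x = 0 := fun p hp x =>
    eq_zero_of_isZero (HomologicalComplex.isZero_extend_X _ _ _ (fun i => by simp; lia)) _ x
  constructor
  · intro q p hqp x' hx'
    rcases lt_trichotomy p 0 with hp | rfl | hp
    · exact ⟨0, map_zero _, 0, by rw [map_zero, hneg p hp x', map_zero, sub_self]⟩
    · set g := (SiteCoh.secEquiv W ((KR M R).X 0)).symm (rE M R W 0 x') with hg
      have hgc : g ≫ (KR M R).d 0 (0 + 1) = 0 := by
        refine (SiteCoh.secEquiv W _).injective ?_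
        rw [SiteCoh.secEquiv_comp, hg, AddEquiv.apply_symm_apply, map_zero, ← rE_d]
        exact (congrArg (rE M R W 1) hx').trans (map_zero _)
      let f := LCZ.mkCyc (A := CohTop.Ab (SpecA A).carrier) (KR M R) _ 0 g hgc
      have hψ : LCZ.homLift (A := CohTop.Ab (SpecA A).carrier) (KR M R) _ 0 f ≫ (kr0 M R).inv ≫ iota0 M R = g := by
        rw [← kr0_i, Iso.inv_hom_id_assoc]
        exact LCZ.homLift_i (A := CohTop.Ab (SpecA A).carrier) (KR M R) _ 0 f
      let s := SiteCoh.secEquiv W _ (LCZ.homLift (A := CohTop.Ab (SpecA A).carrier) (KR M R) _ 0 f ≫ (kr0 M R).inv)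
      refine ⟨((secP A).map (t0 M).inv).app (op W) s, h0 _ (by lia) _, 0, ?_⟩
      rw [map_zero, eq_comm, sub_eq_zero]
      refine ((rE M R W 0).injective ((hι _).trans ?_)).symm
      have e1 : ((secP A).map (t0 M).hom).app (op W) (((secP A).map (t0 M).inv).app (op W) s) = s :=
        (((secP A).mapIso (t0 M)).app (op W)).toLinearEquiv.apply_symm_apply s
      rw [e1, ← SiteCoh.secEquiv_comp, Category.assoc, hψ, hg, AddEquiv.apply_symm_apply]
    · obtain ⟨n, rfl⟩ : ∃ n : ℕ, p = ((n + 1 : ℕ) : ℤ) := ⟨(p - 1).toNat, by lia⟩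
      obtain rfl : q = (n : ℤ) := by lia
      refine ⟨0, map_zero _, ?_⟩
      simp only [map_zero, sub_zero]
      set g := (SiteCoh.secEquiv W ((KR M R).X (n + 1))).symm (rE M R W (n + 1) x') with hg
      have hgc : g ≫ (KR M R).d (n + 1) (n + 1 + 1) = 0 := by
        refine (SiteCoh.secEquiv W _).injective ?_
        rw [SiteCoh.secEquiv_comp, hg, AddEquiv.apply_symm_apply, map_zero, ← rE_d]
        exact (congrArg (rE M R W _) hx').trans (map_zero _)
      let f := LCZ.mkCyc (A := CohTop.Ab (SpecA A).carrier) (KR M R) _ (n + 1) g hgc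
      have hf : LCZ.homCls (A := CohTop.Ab (SpecA A).carrier) (KR M R) (exactAt_KR M R) (CohCx.freeSheaf J W) (n + 1) f = 0 :=
        (subsingleton_cycles0 M R hW n).elim _ _
      obtain ⟨φ, hφ⟩ := (LCZ.homCls_succ_eq_zero_iff (A := CohTop.Ab (SpecA A).carrier) (KR M R) (exactAt_KR M R) _ (subsingleton_KR_free M R W) n f).1 hf
      refine ⟨(rE M R W n).symm (SiteCoh.secEquiv W _ φ), (rE M R W (n + 1)).injective ?_⟩
      rw [rE_d, AddEquiv.apply_symm_apply, ← SiteCoh.secEquiv_comp, hφ]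
      exact (SiteCoh.secEquiv W _).apply_symm_apply _
  · intro q p hqp x _ y' hy'
    refine ⟨0, ?_⟩
    rw [map_zero, eq_comm]
    rcases eq_or_ne p 0 with rfl | hp
    · rw [hneg q (by lia) y', map_zero] at hy'
      refine htinj (hιinj ?_)
      refine ((hι x).symm.trans ((congrArg (rE M R W 0) hy'.symm).trans (map_zero _))).trans ?_
      exact (((congrArg _ (map_zero ((secP A).map (t0 M).hom |>.app (op W)).hom)).trans (map_zero _))).symm
    · exact h0 p hp x

theorem isAffineOpen_Dop (a : A) : IsAffineOpen (X := SpecA A) (Dop a) := by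
  have h := (isAffineOpen_top (SpecA A)).basicOpen ((Scheme.ΓSpecIso (CommRingCat.of A)).inv a)
  rw [basicOpen_eq_of_affine (R := CommRingCat.of A) a] at h
  exact h

theorem uni_eq_puncturedOpen : ∀ fs : List A, uni (Dop (A := A)) fs = LocCoh.puncturedOpen A (Ideal.span {a | a ∈ fs})
  | [] => by
    refine Opens.ext ?_
    show (∅ : Set (PrimeSpectrum A)) = (PrimeSpectrum.zeroLocus (↑(Ideal.span {a | a ∈ ([] : List A)}) : Set A))ᶜ
    simp
  | f :: fs => by
    refine Opens.ext ?_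
    rw [show uni (Dop (A := A)) (f :: fs) = Dop f ⊔ uni (Dop (A := A)) fs from rfl, uni_eq_puncturedOpen fs]
    show (SetLike.coe (PrimeSpectrum.basicOpen f) : Set (PrimeSpectrum A)) ∪ (PrimeSpectrum.zeroLocus _)ᶜ = (PrimeSpectrum.zeroLocus _)ᶜ
    rw [PrimeSpectrum.basicOpen_eq_zeroLocus_compl, ← Set.compl_inter, span_cons, Set.inter_comm,
      ← PrimeSpectrum.zeroLocus_span {f}, ← PrimeSpectrum.zeroLocus_sup]

theorem nonempty_HZ_equiv (fs : List A) (i : ℕ) {W : Opens (SpecA A).carrier} (hW : Bsc (Dop (A := A)) W) :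
    Nonempty (↑(((CC (Dop (A := A)) fs (pcx (tSingle M))).obj (op W)).homology (i : ℤ)) ≃+
      LocCohZ.HZ (Coh.toAb (tilde (R := CommRingCat.of A) M)) i (inf_le_left : W ⊓ uni (Dop (A := A)) fs ≤ W)) := by
  haveI : IsGrothendieckAbelian.{u} (SpecA A).Modules := KFlat.isGrothendieck (SpecA A).sheaf
  obtain ⟨R⟩ : Nonempty (InjectiveResolution (tilde (R := CommRingCat.of A) M)) := HasInjectiveResolution.out
  have hq : QIso ((ccMap (Dop (A := A)) (pcxMap R.ι') fs).app (op W)) :=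
    qIso_ccMap Dop_mul _ (fun W' ⟨a, ha⟩ => by
      subst ha
      exact qIso_iota M R (isAffineOpen_Dop a)) fs W hW
  let P := PR M R
  let U := uni (Dop (A := A)) fs
  let CCR := (CC (Dop (A := A)) fs P).obj (op W)
  let E₁ : ↑(((CC (Dop (A := A)) fs (pcx (tSingle M))).obj (op W)).homology (i : ℤ)) ≃+ ↑(CCR.homology (i : ℤ)) :=
    (hq.equiv (i : ℤ)).toAddEquiv
  obtain ⟨hS, hI⟩ := cc_flasque (D := Dop (A := A)) (flSh_PR M R) fs
  -- closed sections with supports
  let Z : AddSubgroup ↑((P.obj (op W)).X (i : ℤ)) :=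
    (LinearMap.ker ((P.obj (op W)).d (i : ℤ) ((i : ℤ) + 1)).hom ⊓
      LinearMap.ker ((rho P (inf_le_left : W ⊓ U ≤ W)).f (i : ℤ)).hom).toAddSubgroup
  have hZd : ∀ z : Z, CCR.d (i : ℤ) ((i : ℤ) + 1) (jj (Dop (A := A)) P (i : ℤ) fs W z.1) = 0 := fun z => by
    rw [d_jj (i : ℤ) _ rfl fs W z.1 z.2.2, show (P.obj (op W)).d (i : ℤ) ((i : ℤ) + 1) z.1 = 0 from z.2.1, map_zero]
  let θ₁ : Z →+ ↑(CCR.homology (i : ℤ)) := AddMonoidHom.mk'
    (fun z => hcls CCR (i : ℤ) ⟨jj (Dop (A := A)) P (i : ℤ) fs W z.1, hZd z⟩) fun a b => by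
      rw [← map_add]
      exact congrArg (hcls CCR (i : ℤ)) (Subtype.ext (map_add (jj (Dop (A := A)) P (i : ℤ) fs W) a.1 b.1))
  have hθ₁ : Function.Surjective θ₁ := fun c => by
    obtain ⟨z, rfl⟩ := hcls_surjective (i : ℤ) c
    obtain ⟨x, hx, hdx, c, hc⟩ := hS W ((i : ℤ) - 1) i (sub_add_cancel _ 1) z.1 z.2
    refine ⟨⟨x, hdx, hx⟩, ?_⟩
    show hcls CCR (i : ℤ) ⟨_, _⟩ = _
    rw [eq_comm, ← sub_eq_zero, ← map_sub, hcls_eq_zero_iff (i : ℤ) ((i : ℤ) - 1) (sub_add_cancel _ 1)]
    exact ⟨c, hc⟩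
  -- classes
  let hU : W ⊓ U ≤ W := inf_le_left
  have hacyc : ∀ n m : ℕ, Subsingleton (Ext (LocCohZ.zq hU) ((KR M R).X n) (m + 1)) := fun n m =>
    haveI : TopCat.Sheaf.IsFlasque ((KR M R).X n) := CohQC.isFlasque_toAb_of_injective (R.cocomplex.X n)
    LCZ.subsingleton_HZ_of_isFlasque hU m
  have hres : ∀ z : Z, LCZ.res ((KR M R).X i) hU (rE M R W i z.1) = 0 := fun z => by
    rw [← rE_rho M R hU i z.1]
    have h2 : (rho P (inf_le_left : W ⊓ U ≤ W)).f (i : ℤ) z.1 = 0 := z.2.2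
    have : (rho P hU).f (i : ℤ) z.1 = 0 := h2
    rw [this, map_zero]
  have hdz : ∀ z : Z, LCZ.zqHom hU (rE M R W i z.1) (hres z) ≫ (KR M R).d i (i + 1) = 0 := fun z => by
    refine LCZ.zqSec_injective hU ?_
    rw [LCZ.zqSec_comp, LCZ.zqSec_zqHom, LCZ.zqSec_zero]
    refine (rE_d M R W i z.1).symm.trans ((congrArg (rE M R W (i + 1)) ?_).trans (map_zero _))
    exact z.2.1
  let cl : Z →+ LCZ.homCyc (A := CohTop.Ab (SpecA A).carrier) (KR M R) (LocCohZ.zq hU) i := AddMonoidHom.mk'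
    (fun z => ⟨LCZ.zqHom hU (rE M R W i z.1) (hres z), hdz z⟩) fun a b => Subtype.ext <| LCZ.zqSec_injective hU <| by
      refine (LCZ.zqSec_zqHom hU _ (hres (a + b))).trans ((map_add (rE M R W i) a.1 b.1).trans ?_)
      show _ = LCZ.zqSec hU (_ + _)
      unfold LCZ.zqSec
      rw [Preadditive.comp_add, map_add]
      exact congrArg₂ (· + ·) (LCZ.zqSec_zqHom hU _ (hres a)).symm (LCZ.zqSec_zqHom hU _ (hres b)).symm
  let θ₂ : Z →+ LocCohZ.HZ (Coh.toAb (tilde (R := CommRingCat.of A) M)) i hU :=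
    ((Ext.mk₀ (kr0 M R).inv).postcomp (LocCohZ.zq hU) (add_zero i)).comp
      ((LCZ.homCls (A := CohTop.Ab (SpecA A).carrier) (KR M R) (exactAt_KR M R) (LocCohZ.zq hU) i).comp cl)
  have hpost : Function.Bijective ((Ext.mk₀ (kr0 M R).inv).postcomp (LocCohZ.zq hU) (add_zero i)) := by
    refine ⟨fun x y hxy => ?_, fun x => ⟨x.comp (Ext.mk₀ (kr0 M R).hom) (add_zero i), ?_⟩⟩
    · have := congrArg (fun z : Ext (LocCohZ.zq hU) _ i => z.comp (Ext.mk₀ (kr0 M R).hom) (add_zero i)) hxy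
      simpa using this
    · show (x.comp (Ext.mk₀ (kr0 M R).hom) (add_zero i)).comp (Ext.mk₀ (kr0 M R).inv) (add_zero i) = x
      rw [Ext.comp_assoc_of_third_deg_zero, Ext.mk₀_comp_mk₀, Iso.hom_inv_id, Ext.comp_mk₀_id]
  have hθ₂ : Function.Surjective θ₂ := fun x => by
    obtain ⟨y, rfl⟩ := hpost.2 x
    obtain ⟨⟨g, hg⟩, rfl⟩ := LCZ.homCls_surjective (A := CohTop.Ab (SpecA A).carrier) (KR M R) (exactAt_KR M R) _ hacyc i y
    set s := (rE M R W i).symm (LCZ.zqSec hU g) with hs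
    have h1 : rE M R W i s = LCZ.zqSec hU g := AddEquiv.apply_symm_apply _ _
    have hz : s ∈ Z := by
      refine ⟨(rE M R W (i + 1)).injective ?_, ?_⟩
      · refine (rE_d M R W i s).trans ?_
        rw [h1, ← LCZ.zqSec_comp, show g ≫ (KR M R).d i (i + 1) = 0 from hg, LCZ.zqSec_zero, map_zero]
      · show (rho P (inf_le_left : W ⊓ U ≤ W)).f (i : ℤ) s = 0
        refine ((rE M R (W ⊓ U) i).injective ?_)
        rw [rE_rho, h1, LCZ.res_zqSec, map_zero]
    refine ⟨⟨s, hz⟩, congrArg ((Ext.mk₀ (kr0 M R).inv).postcomp (LocCohZ.zq hU) (add_zero i))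
      (congrArg (LCZ.homCls (A := CohTop.Ab (SpecA A).carrier) (KR M R) (exactAt_KR M R) (LocCohZ.zq hU) i) (Subtype.ext ?_))⟩
    refine LCZ.zqSec_injective hU ?_
    exact (LCZ.zqSec_zqHom hU _ (hres ⟨s, hz⟩)).trans h1
  have hker : θ₁.ker = θ₂.ker := by
    ext z
    rw [AddMonoidHom.mem_ker, AddMonoidHom.mem_ker]
    have hR : θ₂ z = 0 ↔ LCZ.homCls (A := CohTop.Ab (SpecA A).carrier) (KR M R) (exactAt_KR M R) (LocCohZ.zq hU) i (cl z) = 0 :=
      ⟨fun h => hpost.1 (h.trans (map_zero _).symm), fun h => (congrArg ((Ext.mk₀ (kr0 M R).inv).postcomp (LocCohZ.zq hU) (add_zero i)) h).trans (map_zero _)⟩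
    rw [hR]
    refine (hcls_eq_zero_iff (i : ℤ) ((i : ℤ) - 1) (sub_add_cancel _ 1) _).trans ?_
    have hL : (∃ c, CCR.d ((i : ℤ) - 1) i c = jj (Dop (A := A)) P (i : ℤ) fs W z.1) ↔
        ∃ y, Killed (Dop (A := A)) P fs W ((i : ℤ) - 1) y ∧ (P.obj (op W)).d ((i : ℤ) - 1) i y = z.1 :=
      ⟨fun h => hI W _ _ (sub_add_cancel _ 1) z.1 z.2.2 z.2.1 h,
        fun ⟨y, hy, hyz⟩ => ⟨jj (Dop (A := A)) P _ fs W y, by rw [d_jj _ _ (sub_add_cancel _ 1) fs W y hy, hyz]⟩⟩
    refine hL.trans ?_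
    rcases i with _ | n
    · rw [LCZ.homCls_zero_eq_zero_iff (A := CohTop.Ab (SpecA A).carrier) (KR M R) (exactAt_KR M R)]
      constructor
      · rintro ⟨y, -, hy⟩
        have y0 : y = 0 := eq_zero_of_isZero (HomologicalComplex.isZero_extend_X _ _ _ (fun i => by simp)) _ y
        rw [y0, map_zero] at hy
        refine LCZ.zqSec_injective hU ((LCZ.zqSec_zqHom hU _ (hres z)).trans ?_)
        rw [← hy, map_zero, LCZ.zqSec_zero]
      · intro h
        refine ⟨0, map_zero _, (rE M R W 0).injective ?_⟩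
        rw [map_zero, map_zero]
        have := congrArg (LCZ.zqSec hU) h
        exact (LCZ.zqSec_zero (h := hU)).symm.trans (this.symm.trans (LCZ.zqSec_zqHom hU _ (hres z)))
    · rw [LCZ.homCls_succ_eq_zero_iff (A := CohTop.Ab (SpecA A).carrier) (KR M R) (exactAt_KR M R) _ hacyc]
      rw [show (((n + 1 : ℕ) : ℤ) - 1) = (n : ℤ) by push_cast; ring]
      constructor
      · rintro ⟨y, hy, hyz⟩
        have hr : LCZ.res ((KR M R).X n) hU (rE M R W n y) = 0 := by
          rw [← rE_rho M R hU n y, show (rho P hU).f (n : ℤ) y = 0 from hy, map_zero]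
        refine ⟨LCZ.zqHom hU (rE M R W n y) hr, LCZ.zqSec_injective hU ?_⟩
        rw [LCZ.zqSec_comp, LCZ.zqSec_zqHom, ← rE_d M R W n y, hyz]
        exact (LCZ.zqSec_zqHom hU _ (hres z)).symm
      · rintro ⟨g, hg⟩
        refine ⟨(rE M R W n).symm (LCZ.zqSec hU g), ?_, (rE M R W (n + 1)).injective ?_⟩
        · refine ((rE M R (W ⊓ U) n).injective ?_)
          rw [rE_rho, AddEquiv.apply_symm_apply, LCZ.res_zqSec, map_zero]
        · rw [rE_d, AddEquiv.apply_symm_apply, ← LCZ.zqSec_comp, hg]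
          exact LCZ.zqSec_zqHom hU _ (hres z)
  exact ⟨E₁.trans ((QuotientAddGroup.quotientKerEquivOfSurjective θ₁ hθ₁).symm.trans
    ((QuotientAddGroup.quotientAddEquivOfEq hker).trans (QuotientAddGroup.quotientKerEquivOfSurjective θ₂ hθ₂)))⟩

theorem exists_qIso_EC_top (fs : List A) :
    ∃ e : EC fs (single0 M) ⟶ (CC (Dop (A := A)) fs (pcx (tSingle M))).obj (op ⊤), QIso e := by
  obtain ⟨e₀, he₀⟩ := exists_qIso_base M
  exact exists_qIso_EC Dop_mul Dop_one (locAt_tilde M) e₀ he₀ fs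

theorem nonempty_HZM_equiv (fs : List A) (i : ℕ) :
    Nonempty (CohIII.koszulHLim fs M i ≃+
      LocCohZ.HZM (SpecA A) (tilde (R := CommRingCat.of A) M) i (LocCoh.puncturedOpen A (Ideal.span {a | a ∈ fs}))) := by
  rw [← uni_eq_puncturedOpen]
  obtain ⟨e, he⟩ := exists_qIso_EC_top M fs
  obtain ⟨k⟩ := nonempty_koszulHLim_equiv M fs i
  obtain ⟨h⟩ := nonempty_HZ_equiv M fs i (W := ⊤) ⟨1, Dop_one.symm⟩
  have key : ∀ (U U' : Opens (SpecA A).carrier) (_ : U = U') (h₁ : U ≤ ⊤) (h₂ : U' ≤ ⊤),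
      Nonempty (LocCohZ.HZ (Coh.toAb (tilde (R := CommRingCat.of A) M)) i h₁ ≃+
        LocCohZ.HZ (Coh.toAb (tilde (R := CommRingCat.of A) M)) i h₂) := by
    rintro U U' rfl h₁ h₂
    exact ⟨AddEquiv.refl _⟩
  obtain ⟨c⟩ := key _ _ (top_inf_eq (uni (Dop (A := A)) fs)) inf_le_left le_top
  exact ⟨((k.trans (he.equiv (i : ℤ))).toAddEquiv.trans h).trans c⟩

/-- Vanishing at a basic open follows from vanishing at the top. -/
theorem subsingleton_HZ_basic (fs : List A) (i : ℕ) (h : Subsingleton (CohIII.koszulHLim fs M i))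
    {W : Opens (SpecA A).carrier} (hW : Bsc (Dop (A := A)) W) :
    Subsingleton (LocCohZ.HZ (Coh.toAb (tilde (R := CommRingCat.of A) M)) i
      (inf_le_left : W ⊓ uni (Dop (A := A)) fs ≤ W)) := by
  obtain ⟨a, rfl⟩ := hW
  obtain ⟨e, he⟩ := exists_qIso_EC_top M fs
  obtain ⟨k⟩ := nonempty_koszulHLim_equiv M fs i
  obtain ⟨ψ, -, hψ⟩ := (locAt_CC Dop_mul (locAt_tilde M) fs ⊤ (Dop a) le_top ⟨1, Dop_one.symm⟩ a (top_inf_eq _).symm).exists_qIso
  obtain ⟨h2⟩ := nonempty_HZ_equiv M fs i (W := Dop a) ⟨a, rfl⟩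
  have hK : IsZero (((CC (Dop (A := A)) fs (pcx (tSingle M))).obj (op ⊤)).homology (i : ℤ)) :=
    @ModuleCat.isZero_of_subsingleton _ _ _ ((k.trans (he.equiv (i : ℤ))).toEquiv.subsingleton_congr.1 h)
  rw [isZero_homology_iff (i : ℤ) ((i : ℤ) - 1) (sub_add_cancel _ 1)] at hK
  have hL : IsZero (((DerCA.locCx (Submonoid.powers a)).obj
      ((CC (Dop (A := A)) fs (pcx (tSingle M))).obj (op ⊤))).homology (i : ℤ)) := by
    rw [isZero_homology_iff (i : ℤ) ((i : ℤ) - 1) (sub_add_cancel _ 1)]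
    intro z hz
    obtain ⟨x, s, hx, rfl⟩ := exists_frac_cycle _ (i : ℤ) ((i : ℤ) + 1) z hz
    obtain ⟨y, hy⟩ := hK x hx
    exact ⟨frac _ _ y s, by rw [d_frac, hy]⟩
  have := ModuleCat.subsingleton_of_isZero hL
  exact ((hψ.equiv (i : ℤ)).toAddEquiv.trans h2).toEquiv.subsingleton_congr.1 this

end Groth.Agent.CechX
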