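import Mathlib
import Groth.Agent.CechX.TildeCech
import Groth.Agent.CohQC.Relative
import Groth.Agent.QC.Localisation
import Groth.Agent.CohQC.Restrict
import Groth.Prelude.Def_CohB1

/-!
Čech cohomology of a quasi-coherent module for basic opens of global functions, through `X ⟶ Spec Γ(X, O)`.
-/

set_option autoImplicit false

namespace Groth.Agent.CechX

universe u

open CategoryTheory CategoryTheory.Limits TopologicalSpace Opposite AlgebraicGeometry
open CategoryTheory.Abelian Groth.Agent.SiteCoh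

section Transfer

variable {X Y : TopCat.{u}} (f : X ⟶ Y) {ι : Type u} (U : ι → Opens Y) (P : (Opens X)ᵒᵖ ⥤ AddCommGrpCat.{u})

/-- Preimages commute with the finite products. -/
theorem preimage_tupleProd {n : ℕ} (a : Fin (n + 1) → ι) :
    (Opens.map f).obj (tupleProd U a) = tupleProd (fun i => (Opens.map f).obj (U i)) a := by
  rw [tupleProd_eq_iInf, tupleProd_eq_iInf, ← Finset.inf_univ_eq_iInf, ← Finset.inf_univ_eq_iInf]
  exact map_finset_inf (Opens.comap f.hom) _ _

theorem map_eqToHom_cancel {a b : Opens X} (h : a = b) (h' : b = a) (x : P.obj (op a)) :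
    P.map (eqToHom h).op (P.map (eqToHom h').op x) = x := by
  subst h
  simp

/-- The cochains agree. -/
noncomputable def cochainPre (n : ℕ) :
    Cochain (fun i => (Opens.map f).obj (U i)) P n ≃+ Cochain U ((Opens.map f).op ⋙ P) n where
  toFun x a := P.map (eqToHom (preimage_tupleProd f U a)).op (x a)
  invFun y a := P.map (eqToHom (preimage_tupleProd f U a).symm).op (y a)
  left_inv x := funext fun a => map_eqToHom_cancel P _ _ (x a)
  right_inv y := funext fun a => map_eqToHom_cancel P _ _ (y a)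
  map_add' x y := funext fun a => map_add _ _ _

theorem cochainPre_d {n : ℕ} (x : Cochain (fun i => (Opens.map f).obj (U i)) P n) :
    cochainPre f U P (n + 1) (cd _ P x) = cd U _ (cochainPre f U P n x) := by
  funext a
  show P.map (eqToHom (preimage_tupleProd f U a)).op (cd _ P x a) = _
  rw [cd_sum, cd_sum, map_sum]
  refine Finset.sum_congr rfl fun k _ => ?_
  rw [map_zsmul]
  refine congrArg _ ?_
  show P.map _ (P.map _ (x _)) = P.map ((Opens.map f).map (tupleDrop U a k)).op (P.map _ (x _))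
  rw [← ConcreteCategory.comp_apply, ← P.map_comp, ← ConcreteCategory.comp_apply, ← P.map_comp]
  exact congrArg (fun φ => P.map φ (x (a ∘ k.succAbove))) (Subsingleton.elim _ _)

/-- The Čech complex of preimages is the Čech complex of the direct image. -/
theorem nonempty_cech_preimage (p : ℕ) :
    Nonempty ((cechCx (fun i => (Opens.map f).obj (U i)) P).homology p ≃+
      (cechCx U ((Opens.map f).op ⋙ P)).homology p) := by
  let e : ∀ n, (cechCx (fun i => (Opens.map f).obj (U i)) P).X n ≃+ (cechCx U ((Opens.map f).op ⋙ P)).X n := fun n =>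
    ((cochainEquiv _ P n).trans (cochainPre f U P n)).trans (cochainEquiv U _ n).symm
  let i : cechCx (fun i => (Opens.map f).obj (U i)) P ≅ cechCx U ((Opens.map f).op ⋙ P) :=
    HomologicalComplex.Hom.isoOfComponents (fun n => (e n).toAddCommGrpIso) (by
      rintro n _ (rfl : n + 1 = _)
      ext x
      refine (cochainEquiv U _ (n + 1)).injective ?_
      show cochainEquiv U _ (n + 1) ((cechCx U ((Opens.map f).op ⋙ P)).d n (n + 1) (e n x)) =
        cochainEquiv U _ (n + 1) (e (n + 1) ((cechCx (fun i => (Opens.map f).obj (U i)) P).d n (n + 1) x))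
      simp only [e, AddEquiv.trans_apply, cochainEquiv_d, AddEquiv.apply_symm_apply, cochainPre_d])
  exact ⟨((HomologicalComplex.homologyFunctor _ _ p).mapIso i).addCommGroupIsoToAddEquiv⟩

end Transfer

section LES

variable {X : TopCat.{u}} {F : CohTop.Ab X} {W V : Opens X} (h : W ≤ V)

theorem delta_bijective (i : ℕ) (h₁ : Subsingleton (CohTop.HU F i V)) (h₂ : Subsingleton (CohTop.HU F (i + 1) V)) :
    Function.Bijective (LocCohZ.delta F i h) := by
  refine ⟨(injective_iff_map_eq_zero _).2 fun y hy => ?_, fun x => ?_⟩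
  · obtain ⟨z, rfl⟩ := Ext.contravariant_sequence_exact₁ (LocCohZ.zqSeq_shortExact h) F y (n₁ := i + 1) (Nat.add_comm 1 i) hy
    obtain rfl : z = 0 := h₁.elim _ _
    exact Ext.comp_zero _ _ _ _ _
  · obtain ⟨y, hy⟩ := Ext.contravariant_sequence_exact₃ (LocCohZ.zqSeq_shortExact h) F x
      (h₂.elim _ _) (Nat.add_comm 1 i)
    exact ⟨y, hy⟩

theorem nonempty_coker_equiv (h₂ : Subsingleton (CohTop.HU F 1 V)) :
    Nonempty (↑(F.obj.obj (op W)) ⧸ (LCZ.res F h).range ≃+ LocCohZ.HZ F 1 h) := by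
  let ψ : ↑(F.obj.obj (op W)) →+ LocCohZ.HZ F 1 h := (LocCohZ.delta F 0 h).comp (hu0 F W).symm.toAddMonoidHom
  have hs : Function.Surjective ψ := fun x => by
    obtain ⟨y, hy⟩ := Ext.contravariant_sequence_exact₃ (LocCohZ.zqSeq_shortExact h) F x
      (h₂.elim _ _) (Nat.add_comm 1 0)
    exact ⟨hu0 F W y, (congrArg (LocCohZ.delta F 0 h) ((hu0 F W).symm_apply_apply y)).trans hy⟩
  have hk : (LCZ.res F h).range = ψ.ker := by
    ext s
    constructor
    · rintro ⟨t, rfl⟩
      refine (congrArg (LocCohZ.delta F 0 h) ((hu0 F W).symm_apply_eq.2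
        (((LCZ.res_zero_apply h ((hu0 F V).symm t)).trans (congrArg _ ((hu0 F V).apply_symm_apply t))).symm))).trans ?_
      rw [LCZ.res_apply]
      exact (LocCohZ.zqSeq_shortExact h).extClass_comp_assoc _ (h := Nat.add_comm 1 0)
    · intro hs0
      obtain ⟨z, hz⟩ := Ext.contravariant_sequence_exact₁ (LocCohZ.zqSeq_shortExact h) F ((hu0 F W).symm s)
        (n₁ := 1) (Nat.add_comm 1 0) hs0
      refine ⟨hu0 F V z, ?_⟩
      rw [← LCZ.res_zero_apply, show CohTop.res F 0 h z = (hu0 F W).symm s from hz, AddEquiv.apply_symm_apply]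
  exact ⟨(QuotientAddGroup.quotientAddEquivOfEq hk).trans (QuotientAddGroup.quotientKerEquivOfSurjective ψ hs)⟩

end LES

section Main

variable {X : Scheme.{u}} (F : X.Modules)

/-- Global functions. -/
abbrev GR (X : Scheme.{u}) : Type u := Γ(X, ⊤)

theorem preimage_Dop (a : GR X) : X.toSpecΓ ⁻¹ᵁ (Dop a) = X.basicOpen a :=
  X.toSpecΓ_preimage_basicOpen a

/-- Global sections as a module. -/
noncomputable abbrev globM : ModuleCat.{u} (GR X) := ModuleCat.of Γ(X, ⊤) (F.val.obj (op ⊤))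

theorem exists_iso_tilde [CompactSpace X] [QuasiSeparatedSpace X] [Coh.IsQCoh F] :
    Nonempty (Coh.toAb (tilde (R := CommRingCat.of (GR X)) (globM F)) ≅
      Coh.toAb ((Scheme.Modules.pushforward X.toSpecΓ).obj F)) := by
  let N := (Scheme.Modules.pushforward X.toSpecΓ).obj F
  have hN : N.IsQuasicoherent := QC.isQCoh_pushforward X.toSpecΓ
  have hiso : IsIso N.fromTildeΓ := by rwa [← isQuasicoherent_iff_isIso_fromTildeΓ]
  let e : globM F ≅ (modulesSpecToSheaf.obj N).presheaf.obj (op ⊤) := LinearEquiv.toModuleIso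
    ({ AddEquiv.refl (F.val.obj (op ⊤) : Type u) with
      map_smul' := fun a m => by
        show a • m = (show Γ(X, ⊤) from (Scheme.Hom.app X.toSpecΓ ⊤) (((Spec Γ(X, ⊤)).presheaf.map (⊤ : (Spec Γ(X, ⊤)).Opens).leTop.op)
          ((Scheme.ΓSpecIso Γ(X, ⊤)).inv a))) • m
        refine congrArg (fun r : Γ(X, ⊤) => r • (m : (F.val.obj (op ⊤) : Type u))) ?_
        have h0 : ((Spec Γ(X, ⊤)).presheaf.map (⊤ : (Spec Γ(X, ⊤)).Opens).leTop.op) = 𝟙 _ := (Spec Γ(X, ⊤)).presheaf.map_id _
        show a = (Scheme.Hom.appTop X.toSpecΓ) (((Spec Γ(X, ⊤)).presheaf.map (⊤ : (Spec Γ(X, ⊤)).Opens).leTop.op)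
          ((Scheme.ΓSpecIso Γ(X, ⊤)).inv a))
        rw [h0, Scheme.toSpecΓ_appTop]
        exact (ConcreteCategory.congr_hom (Scheme.ΓSpecIso Γ(X, ⊤)).inv_hom_id a).symm } :
      ↑(globM F) ≃ₗ[GR X] ↑((modulesSpecToSheaf.obj N).presheaf.obj (op ⊤)))
  exact ⟨(LCZ.toSheafS _).mapIso ((tilde.functor (CommRingCat.of (GR X))).mapIso e ≪≫ @asIso _ _ _ _ N.fromTildeΓ hiso)⟩

theorem mem_puncturedOpen {A : Type u} [CommRing A] (fs : List A) (x : SpecA A) :
    x ∈ LocCoh.puncturedOpen A (Ideal.span {a | a ∈ fs}) ↔ ∃ i : Fin fs.length, x ∈ Dop (fs.get i) := by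
  show x ∈ (PrimeSpectrum.zeroLocus (↑(Ideal.span {a | a ∈ fs}) : Set A))ᶜ ↔ _
  rw [PrimeSpectrum.zeroLocus_span]
  constructor
  · intro hx
    by_contra hne
    push Not at hne
    refine hx fun a ha => ?_
    obtain ⟨i, rfl⟩ := List.mem_iff_get.1 ha
    exact not_not.1 (hne i)
  · rintro ⟨i, hi⟩ hx
    exact hi (hx (List.get_mem fs i))

theorem puncturedOpen_eq_iSup {A : Type u} [CommRing A] (fs : List A) :
    LocCoh.puncturedOpen A (Ideal.span {a | a ∈ fs}) = ⨆ i : Fin fs.length, Dop (fs.get i) :=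
  Opens.ext (Set.ext fun x => (mem_puncturedOpen fs x).trans Opens.mem_iSup.symm)

theorem preimage_puncturedOpen (fs : List (GR X)) :
    X.toSpecΓ ⁻¹ᵁ (LocCoh.puncturedOpen (GR X) (Ideal.span {a | a ∈ fs})) = ⨆ i : Fin fs.length, X.basicOpen (fs.get i) := by
  rw [puncturedOpen_eq_iSup, Scheme.Hom.preimage_iSup]
  exact iSup_congr fun i => preimage_Dop _

theorem isAffineOpen_iInf_Dop {A : Type u} [CommRing A] {n : ℕ} (g : Fin (n + 1) → A) :
    IsAffineOpen (X := SpecA A) (⨅ k, Dop (g k)) := by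
  have : (⨅ k, Dop (g k)) = Dop (∏ k, g k) := by
    induction n with
    | zero => simp
    | succ n ih =>
      rw [Fin.prod_univ_succ, Dop_mul, ← ih]
      refine le_antisymm (le_inf (iInf_le _ 0) (le_iInf fun k => iInf_le _ _)) (le_iInf fun k => ?_)
      exact Fin.cases inf_le_left (fun j => inf_le_right.trans (iInf_le _ j)) k
  rw [this]
  exact isAffineOpen_Dop _

theorem subsingleton_HU_top {A : Type u} [CommRing A] (M : ModuleCat.{u} A) (p : ℕ) :
    Subsingleton (CohTop.HU (Coh.toAb (tilde (R := CommRingCat.of A) M)) (p + 1) (⊤ : Opens (SpecA A).carrier)) :=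
  CohQC.hu_vanish_of_isAffineOpen (tilde (R := CommRingCat.of A) M) (isAffineOpen_top (SpecA A)) p

variable [CompactSpace X] [QuasiSeparatedSpace X] [Coh.IsQCoh F] (fs : List (GR X))

theorem nonempty_cechH_equiv (p : ℕ) (hp : 1 ≤ p) :
    Nonempty (↑(CohB1.cechH (fun i : ULift.{u} (Fin fs.length) => X.basicOpen (fs.get i.down)) F p) ≃+
      CohIII.koszulHLim fs (globM F) (p + 1)) := by
  obtain ⟨α⟩ := exists_iso_tilde F
  let U : ULift.{u} (Fin fs.length) → (SpecA (GR X)).Opens := fun i => Dop (fs.get i.down)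
  let T := Coh.toAb (tilde (R := CommRingCat.of (GR X)) (globM F))
  obtain ⟨e₁⟩ := nonempty_cech_preimage X.toSpecΓ.base U F.presheaf p
  have hfam : (fun i : ULift.{u} (Fin fs.length) => X.basicOpen (fs.get i.down)) =
      fun i => (Opens.map X.toSpecΓ.base).obj (U i) := funext fun i => (preimage_Dop _).symm
  let e₂ : ↑((cechCx U ((Opens.map X.toSpecΓ.base).op ⋙ F.presheaf)).homology p) ≃+
      ↑((cechCx U (res' (𝟭 _) T)).homology p) :=
    ((HomologicalComplex.homologyFunctor _ _ p).mapIso ((cechComplexFunctor U).mapIso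
      ((sheafToPresheaf _ AddCommGrpCat.{u}).mapIso α.symm))).addCommGroupIsoToAddEquiv
  obtain ⟨e₃⟩ := CohQC.cech_equiv_affine (tilde (R := CommRingCat.of (GR X)) (globM F)) U
    (fun n a => isAffineOpen_iInf_Dop (fun k => fs.get (a k).down)) p
  have hU : iSup U = LocCoh.puncturedOpen (GR X) (Ideal.span {a | a ∈ fs}) :=
    (Equiv.ulift.iSup_comp (g := fun i : Fin fs.length => Dop (fs.get i))).trans (puncturedOpen_eq_iSup fs).symm
  obtain ⟨e₅⟩ := nonempty_HZM_equiv (globM F) fs (p + 1)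
  obtain ⟨q, rfl⟩ := Nat.exists_eq_add_of_le' hp
  rw [hU] at e₃
  rw [hfam]
  exact ⟨((e₁.trans e₂).trans e₃).trans ((AddEquiv.ofBijective _ (delta_bijective le_top (q + 1)
    (subsingleton_HU_top _ q) (subsingleton_HU_top _ (q + 1)))).trans e₅.symm)⟩

theorem nonempty_HHon_equiv (hd : ∀ V W : X.Opens, IsAffineOpen V → IsAffineOpen W → IsAffineOpen (V ⊓ W))
    (haff : ∀ i : Fin fs.length, IsAffineOpen (X.basicOpen (fs.get i))) (q : ℕ) (hq : 1 ≤ q) :
    Nonempty (Coh.HHon X F (⨆ i : Fin fs.length, X.basicOpen (fs.get i)) q ≃+ CohIII.koszulHLim fs (globM F) (q + 1)) := by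
  obtain ⟨e⟩ := nonempty_cechH_equiv F fs q hq
  obtain ⟨e'⟩ := CohQC.cech_equiv_affine F (fun i : ULift.{u} (Fin fs.length) => X.basicOpen (fs.get i.down))
    (fun n a => by
      induction n with
      | zero =>
        rw [show (⨅ k : Fin 1, X.basicOpen (fs.get (a k).down)) = X.basicOpen (fs.get (a 0).down) from iInf_unique _]
        exact haff _
      | succ n ih =>
        have e : (⨅ k, X.basicOpen (fs.get (a k).down)) =
            X.basicOpen (fs.get (a 0).down) ⊓ ⨅ k : Fin (n + 1), X.basicOpen (fs.get (a k.succ).down) := by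
          refine le_antisymm (le_inf (iInf_le _ 0) (le_iInf fun k => iInf_le _ _)) (le_iInf fun k => ?_)
          exact Fin.cases inf_le_left (fun j => inf_le_right.trans (iInf_le _ j)) k
        rw [e]
        exact hd _ _ (haff _) (ih fun k => a k.succ)) q
  have hU : iSup (fun i : ULift.{u} (Fin fs.length) => X.basicOpen (fs.get i.down)) = ⨆ i : Fin fs.length, X.basicOpen (fs.get i) :=
    Equiv.ulift.iSup_comp (g := fun i : Fin fs.length => X.basicOpen (fs.get i))
  rw [hU] at e'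
  obtain ⟨h⟩ := CohQC.hu_restrict F (⨆ i : Fin fs.length, X.basicOpen (fs.get i)) q
  exact ⟨(h.symm.trans e'.symm).trans e⟩

theorem nonempty_ker_coker_equiv :
    Nonempty (((Coh.toAb F).obj.map (homOfLE (le_top : (⨆ i : Fin fs.length, X.basicOpen (fs.get i)) ≤ ⊤)).op).hom.ker ≃+
      CohIII.koszulHLim fs (globM F) 0) ∧
    Nonempty (↑((Coh.toAb F).obj.obj (op (⨆ i : Fin fs.length, X.basicOpen (fs.get i)))) ⧸
      ((Coh.toAb F).obj.map (homOfLE (le_top : (⨆ i : Fin fs.length, X.basicOpen (fs.get i)) ≤ ⊤)).op).hom.range ≃+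
      CohIII.koszulHLim fs (globM F) 1) := by
  obtain ⟨α⟩ := exists_iso_tilde F
  let U := LocCoh.puncturedOpen (GR X) (Ideal.span {a | a ∈ fs})
  have main : ∀ (W : X.Opens) (hW : W = X.toSpecΓ ⁻¹ᵁ U),
      Nonempty ((LCZ.res (Coh.toAb F) (le_top : W ≤ ⊤)).ker ≃+ CohIII.koszulHLim fs (globM F) 0) ∧
      Nonempty (↑((Coh.toAb F).obj.obj (op W)) ⧸ (LCZ.res (Coh.toAb F) (le_top : W ≤ ⊤)).range ≃+
        CohIII.koszulHLim fs (globM F) 1) := by
    rintro W rfl
    let T := Coh.toAb (tilde (R := CommRingCat.of (GR X)) (globM F))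
    let eT : T.obj.obj (op ⊤) ≃+ (Coh.toAb F).obj.obj (op ⊤) :=
      (((sheafToPresheaf _ AddCommGrpCat.{u}).mapIso α).app (op ⊤)).addCommGroupIsoToAddEquiv
    let eU : T.obj.obj (op U) ≃+ (Coh.toAb F).obj.obj (op (X.toSpecΓ ⁻¹ᵁ U)) :=
      (((sheafToPresheaf _ AddCommGrpCat.{u}).mapIso α).app (op U)).addCommGroupIsoToAddEquiv
    have hcomm : ∀ s, eU (LCZ.res T (le_top : U ≤ ⊤) s) =
        LCZ.res (Coh.toAb F) (le_top : X.toSpecΓ ⁻¹ᵁ U ≤ ⊤) (eT s) := fun s =>
      LCZ.app_res α.hom le_top s |>.trans rfl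
    obtain ⟨k₀⟩ := nonempty_HZM_equiv (globM F) fs 0
    obtain ⟨k₁⟩ := nonempty_HZM_equiv (globM F) fs 1
    obtain ⟨c⟩ := nonempty_coker_equiv (F := T) (le_top : U ≤ ⊤) (subsingleton_HU_top _ 0)
    constructor
    · refine ⟨(AddEquiv.trans ?_ (LocCohZ.sect0Equiv T (le_top : U ≤ ⊤)).symm).trans k₀.symm⟩
      exact
        { toFun := fun s => ⟨eT.symm s.1, eU.injective (by
            rw [hcomm, AddEquiv.apply_symm_apply, map_zero]; exact s.2)⟩
          invFun := fun s => ⟨eT s.1, by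
            show LCZ.res (Coh.toAb F) _ (eT s.1) = 0
            rw [← hcomm, show LCZ.res T (le_top : U ≤ ⊤) s.1 = 0 from s.2, map_zero]⟩
          left_inv := fun s => Subtype.ext (eT.apply_symm_apply s.1)
          right_inv := fun s => Subtype.ext (eT.symm_apply_apply s.1)
          map_add' := fun s t => Subtype.ext (map_add eT.symm s.1 t.1) }
    · refine ⟨((QuotientAddGroup.congr _ _ eU ?_).symm.trans c).trans k₁.symm⟩
      ext y
      constructor
      · rintro ⟨_, ⟨t, rfl⟩, rfl⟩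
        exact ⟨eT t, (hcomm t).symm⟩
      · rintro ⟨t, rfl⟩
        exact ⟨_, ⟨eT.symm t, rfl⟩, (hcomm _).trans (by rw [eT.apply_symm_apply])⟩
  exact main _ (preimage_puncturedOpen fs).symm

end Main

end Groth.Agent.CechX
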