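import Mathlib
import Groth.Agent.CechX.LocCoh
import Groth.Agent.CechX.ConeElt
import Groth.Agent.CechX.Single

/-!
The total Hom complex out of a bounded complex of finite projectives, and local cohomology.
-/

set_option autoImplicit false

namespace Groth.Agent.CechX

universe u

open CategoryTheory CategoryTheory.Limits CochainComplex CochainComplex.HomComplex

variable {R : Type u} [CommRing R]

/-- The Hom complex, linear. -/
noncomputable def homCx (C K : CochainComplex (ModuleCat.{u} R) ℤ) : CochainComplex (ModuleCat.{u} R) ℤ :=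
  CochainComplex.of (fun n => ModuleCat.of R (Cochain C K n))
    (fun n => ModuleCat.ofHom (δ_hom R C K n (n + 1)))
    (fun n => ModuleCat.hom_ext (LinearMap.ext fun z => δ_δ n (n + 1) (n + 1 + 1) z))

variable {C K X Y : CochainComplex (ModuleCat.{u} R) ℤ}

theorem homCx_d_apply {q p : ℤ} (h : q + 1 = p) (z : Cochain C K q) :
    (homCx C K).d q p z = δ q p z := by
  subst h
  have h : (homCx C K).d q (q + 1) = ModuleCat.ofHom (δ_hom R C K q (q + 1)) := by
    unfold homCx
    exact CochainComplex.of_d (fun n => ModuleCat.of R (Cochain C K n))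
      (fun n => ModuleCat.ofHom (δ_hom R C K n (n + 1))) q
  rw [h]
  rfl

/-- Post-composition. -/
noncomputable def postMap (C : CochainComplex (ModuleCat.{u} R) ℤ) (f : X ⟶ Y) : homCx C X ⟶ homCx C Y where
  f n := ModuleCat.ofHom
    { toFun := fun z : Cochain C X n => (z.comp (Cochain.ofHom f) (add_zero n) : Cochain C Y n)
      map_add' := fun z w => Cochain.add_comp _ _ _ _
      map_smul' := fun r z => Cochain.smul_comp _ _ _ _ }
  comm' i j hij := by
    refine ModuleCat.hom_ext (LinearMap.ext fun z => ?_)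
    have hij' : i + 1 = j := hij
    show (homCx C Y).d i j (Cochain.comp z (Cochain.ofHom f) (add_zero i)) =
      Cochain.comp ((homCx C X).d i j z) (Cochain.ofHom f) (add_zero j)
    rw [homCx_d_apply hij', homCx_d_apply hij', δ_comp_ofHom]

theorem acyclic_mappingCone_of_qIso {φ : X ⟶ Y} (h : QIso φ) : (mappingCone φ).Acyclic := by
  intro p
  rw [HomologicalComplex.exactAt_iff_isZero_homology, isZero_homology_iff p (p - 1) (by lia)]
  intro z hz
  obtain ⟨q, hpq⟩ : ∃ q, p + 1 = q := ⟨_, rfl⟩
  obtain ⟨r, hqr⟩ : ∃ r, q + 1 = r := ⟨_, rfl⟩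
  subst hpq
  have e1 : X.d (p + 1) r (c1 φ p (p + 1) rfl z) = 0 := by
    have := c1_d (φ := φ) rfl hqr z
    rw [hz, map_zero, eq_comm, neg_eq_zero] at this
    exact this
  have e2 : φ.f (p + 1) (c1 φ p (p + 1) rfl z) + Y.d p (p + 1) (c2 φ p z) = 0 := by
    have := c2_d (φ := φ) rfl z
    rwa [hz, map_zero, eq_comm] at this
  subst hqr
  obtain ⟨a, ha⟩ := h.inj p (p + 1) rfl _ e1 (-(c2 φ p z)) (by rw [map_neg, ← eq_neg_of_add_eq_zero_left e2])
  have e3 : Y.d p (p + 1) (c2 φ p z + φ.f p a) = 0 := by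
    have := congrArg (fun k => k.hom a) (φ.comm p (p + 1))
    change Y.d p (p + 1) (φ.f p a) = φ.f (p + 1) (X.d p (p + 1) a) at this
    rw [map_add, this, ha]
    exact (add_comm _ _).trans e2
  obtain ⟨x, hx, y, hy⟩ := h.surj (p - 1) p (by lia) _ e3
  refine ⟨cmk φ (p - 1) p (by lia) (x - a) y, cone_ext rfl ?_ ?_⟩
  · rw [c1_d (by lia : p - 1 + 1 = p) rfl, c1_cmk, map_sub, hx, ha, zero_sub, neg_neg]
  · rw [c2_d (by lia : p - 1 + 1 = p), c1_cmk, c2_cmk, hy, map_sub]
    abel

theorem exists_δ_eq_of_acyclic [C.IsKProjective] (hK : K.Acyclic) {n m : ℤ} (hm : m + 1 = n) (z : Cochain C K n)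
    (hz : δ n (n + 1) z = 0) : ∃ w : Cochain C K m, δ m n w = z := by
  let x : Cocycle C K n := Cocycle.mk z (n + 1) rfl hz
  have hs : (K⟦n⟧).Acyclic := fun i => by
    rw [HomologicalComplex.exactAt_iff_isZero_homology]
    exact IsZero.of_iso ((HomologicalComplex.exactAt_iff_isZero_homology _ _).1 (hK (n + i)))
      (((HomologicalComplex.homologyFunctor (ModuleCat.{u} R) (ComplexShape.up ℤ) 0).shiftIso n i (n + i) rfl).app K)
  have h0 : CohomologyClass.toHom (CohomologyClass.mk x) = 0 := by
    rw [CohomologyClass.toHom_mk, HomotopyCategory.quotient_map_eq_zero_iff]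
    exact IsKProjective.nonempty_homotopy_zero _ hs
  exact (mem_coboundaries_iff x m hm).1 ((CohomologyClass.toHom_mk_eq_zero_iff x).1 h0)

theorem qIso_postMap [C.IsKProjective] {φ : X ⟶ Y} (h : QIso φ) : QIso (postMap C φ) := by
  have hac := acyclic_mappingCone_of_qIso h
  constructor
  · intro q p hqp (z : Cochain C Y p) hz
    rw [homCx_d_apply rfl] at hz
    have hz' : δ p (p + 1) z = 0 := hz
    obtain ⟨w, hw⟩ := exists_δ_eq_of_acyclic hac hqp (mappingCone.liftCochain φ (0 : Cochain C X (p + 1)) z rfl) (by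
      rw [mappingCone.δ_liftCochain φ 0 z rfl (p + 1 + 1) rfl, hz', δ_zero]
      simp)
    let a : Cochain C X p := w.comp (mappingCone.fst φ).1 hqp
    let b : Cochain C Y q := w.comp (mappingCone.snd φ) (add_zero q)
    have hab : w = mappingCone.liftCochain φ a b hqp :=
      (mappingCone.ext_cochain_to_iff φ q p hqp).2
        ⟨(mappingCone.liftCochain_fst φ a b hqp).symm, (mappingCone.liftCochain_snd φ a b hqp).symm⟩
    rw [hab, mappingCone.δ_liftCochain φ a b hqp (p + 1) rfl] at hw
    have h1 := congrArg (fun c => c.comp (mappingCone.fst φ).1 rfl) hw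
    have h2 := congrArg (fun c => c.comp (mappingCone.snd φ) (add_zero p)) hw
    simp at h1 h2
    refine ⟨a, (homCx_d_apply rfl a).trans h1, b, (homCx_d_apply hqp b).trans ?_⟩
    show δ q p b = z - a.comp (Cochain.ofHom φ) (add_zero p)
    rw [← h2]
    abel
  · intro q p hqp (x : Cochain C X p) hx (y : Cochain C Y q) hy
    rw [homCx_d_apply rfl] at hx
    rw [homCx_d_apply hqp] at hy
    have hx' : δ p (p + 1) x = 0 := hx
    have hy' : δ q p y = x.comp (Cochain.ofHom φ) (add_zero p) := hy
    obtain ⟨o, hoq⟩ : ∃ o, o + 1 = q := ⟨q - 1, by lia⟩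
    obtain ⟨w, hw⟩ := exists_δ_eq_of_acyclic hac hoq (mappingCone.liftCochain φ (-x) y hqp) (by
      subst hqp
      rw [mappingCone.δ_liftCochain φ (-x) y rfl (q + 1 + 1) rfl, δ_neg, hx', hy']
      simp)
    let a : Cochain C X q := w.comp (mappingCone.fst φ).1 hoq
    let b : Cochain C Y o := w.comp (mappingCone.snd φ) (add_zero o)
    have hab : w = mappingCone.liftCochain φ a b hoq :=
      (mappingCone.ext_cochain_to_iff φ o q hoq).2
        ⟨(mappingCone.liftCochain_fst φ a b hoq).symm, (mappingCone.liftCochain_snd φ a b hoq).symm⟩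
    rw [hab, mappingCone.δ_liftCochain φ a b hoq p hqp] at hw
    have h1 := congrArg (fun c => c.comp (mappingCone.fst φ).1 hqp) hw
    simp at h1
    exact ⟨a, (homCx_d_apply hqp a).trans h1⟩

section Injective

variable [IsNoetherianRing R]

theorem injective_hom {P E : Type u} [AddCommGroup P] [Module R P] [Module.Projective R P] [Module.Finite R P]
    [AddCommGroup E] [Module R E] [Module.Injective R E] : Module.Injective R (P →ₗ[R] E) := by
  obtain ⟨n, π, hπ⟩ := Module.Finite.exists_fin' R P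
  obtain ⟨s, hs⟩ := Module.projective_lifting_property π LinearMap.id hπ
  let e : ((Fin n → R) →ₗ[R] E) ≃ₗ[R] (Fin n → E) := (LinearMap.lsum R (fun _ => R) R).symm.trans
    (LinearEquiv.piCongrRight fun _ => LinearMap.ringLmapEquivSelf R R E)
  have : Module.Injective R (Fin n → E) := ⟨fun A B _ _ _ _ f hf g => by
    choose h hh using fun i => Module.Injective.out (R := R) f hf ((LinearMap.proj i).comp g)
    exact ⟨LinearMap.pi h, fun a => funext fun i => hh i a⟩⟩
  refine ⟨fun A B _ _ _ _ f hf g => ?_⟩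
  obtain ⟨h, hh⟩ := Module.Injective.out (R := R) f hf (e.toLinearMap ∘ₗ LinearMap.lcomp R E π ∘ₗ g)
  refine ⟨LinearMap.lcomp R E s ∘ₗ e.symm.toLinearMap ∘ₗ h, fun a => ?_⟩
  simp only [LinearMap.comp_apply, LinearEquiv.coe_coe, hh, e.symm_apply_apply]
  exact LinearMap.ext fun x => congrArg (g a) (LinearMap.congr_fun hs x)

variable (hC : ∀ n, Module.Projective R (C.X n) ∧ Module.Finite R (C.X n))
  (hK : ∀ n, Module.Injective R (K.X n))

include hC hK in
theorem injective_homCx (n : ℤ) : Module.Injective R ((homCx C K).X n) := by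
  refine ⟨fun A B _ _ _ _ f hf g => ?_⟩
  have : ∀ T : Triplet n, ∃ h : B →ₗ[R] (C.X T.p ⟶ K.X T.q), ∀ a, h (f a) = (g a : Cochain C K n) T := fun T => by
    have := (hC T.p).1
    have := (hC T.p).2
    have := hK T.q
    have := injective_hom (R := R) (P := C.X T.p) (E := K.X T.q)
    obtain ⟨h, hh⟩ := Module.Injective.out (R := R) f hf
      ((ModuleCat.homLinearEquiv (S := R)).toLinearMap ∘ₗ (LinearMap.proj T : Cochain C K n →ₗ[R] _) ∘ₗ g)
    refine ⟨(ModuleCat.homLinearEquiv (S := R)).symm.toLinearMap ∘ₗ h, fun a => ?_⟩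
    rw [LinearMap.comp_apply, hh]
    exact (ModuleCat.homLinearEquiv (S := R)).symm_apply_apply _
  choose h hh using this
  exact ⟨LinearMap.pi h, fun a => funext fun T => hh T a⟩

include hC hK in
theorem divModTors_homCx (I : Ideal R) (a : R) (n : ℤ) :
    LocH.DivModTors a ↥(DRing.torsionSub I ((homCx C K).X n)) := by
  have := injective_homCx hC hK n
  exact LocH.divModTors_torsionSub (R' := R) I a

end Injective

variable (C)

/-- `Hom(C, R)` as a complex. -/
noncomputable abbrev dualTot : CochainComplex (ModuleCat.{u} R) ℤ := homCx C (single0 (ModuleCat.of R R))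

/-- Local cohomology of a module through the dual of a complex resolving it. -/
theorem nonempty_H_equiv [IsNoetherianRing R] [C.IsKProjective]
    (hC : ∀ n, Module.Projective R (C.X n) ∧ Module.Finite R (C.X n))
    (M : ModuleCat.{u} R) (ε : dualTot C ⟶ single0 M) (hε : QIso ε) (J : InjectiveResolution (ModuleCat.of R R))
    (fs : List R) (i : ℕ) :
    Nonempty (↑((gam (Ideal.span {x | x ∈ fs}) (homCx C J.cochainComplex)).homology (i : ℤ)) ≃ₗ[R]
      LocCoh.H (Ideal.span {x | x ∈ fs}) i M) := by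
  let ι : single0 (ModuleCat.of R R) ⟶ J.cochainComplex := J.ι'
  have : QuasiIso ι := inferInstanceAs (QuasiIso J.ι')
  have hJ : ∀ n, Module.Injective R (J.cochainComplex.X n) := fun n =>
    Module.injective_module_of_injective_object R _ (inj := inferInstanceAs (Injective (J.cochainComplex.X n)))
  have h1 := qIso_ecMap (qIso_postMap (C := C) (QIso.of_quasiIso ι)) fs
  have h2 := qIso_gammaHom (K := homCx C J.cochainComplex) (divModTors_homCx hC hJ) fs
  have h3 := qIso_ecMap hε fs
  obtain ⟨e⟩ := nonempty_extCechH_iso fs M i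
  let e' : ↑((EC fs (single0 M)).homology (i : ℤ)) ≃ₗ[R] LocCoh.H (Ideal.span {x | x ∈ fs}) i M := by
    have e2 : DerCA.extCechH fs M (i : ℤ) = (EC fs (single0 M)).homology (i : ℤ) := by
      show (DerCA.extCech M fs).homology (i : ℤ) = _
      rw [extCech_eq]
    exact ((eqToIso e2).symm ≪≫ e).toLinearEquiv
  exact ⟨(h2.equiv (i : ℤ)) ≪≫ₗ (h1.equiv (i : ℤ)).symm ≪≫ₗ (h3.equiv (i : ℤ)) ≪≫ₗ e'⟩

end Groth.Agent.CechX
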