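import Mathlib
import Groth.Prelude.Def_ega3
import Groth.Agent.CechX.ConeElt
import Groth.Agent.CechX.Homology

/-!
Mapping cones of multiplications commute; Koszul complexes of powers of a Koszul regular sequence.
-/

namespace Groth.Agent.CechX

universe u

open CategoryTheory CategoryTheory.Limits CochainComplex

variable {R : Type u} [CommRing R]

/-- The cone of multiplication by `a`. -/
noncomputable abbrev mcone (a : R) (K : CochainComplex (ModuleCat.{u} R) ℤ) :
    CochainComplex (ModuleCat.{u} R) ℤ :=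
  mappingCone (a • 𝟙 K)

variable {K L : CochainComplex (ModuleCat.{u} R) ℤ}

theorem mcone_comm (a : R) (φ : K ⟶ L) : (a • 𝟙 K) ≫ φ = φ ≫ (a • 𝟙 L) := by
  rw [Linear.smul_comp, Linear.comp_smul, Category.id_comp, Category.comp_id]

/-- Functoriality of `mcone`. -/
noncomputable def mconeMap (a : R) (φ : K ⟶ L) : mcone a K ⟶ mcone a L :=
  mappingCone.map (a • 𝟙 K) (a • 𝟙 L) φ φ (mcone_comm a φ)

/-- Functoriality of `mcone` on isomorphisms. -/
noncomputable def mconeIso (a : R) (e : K ≅ L) : mcone a K ≅ mcone a L where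
  hom := mconeMap a e.hom
  inv := mconeMap a e.inv
  hom_inv_id := by simp only [mconeMap, ← mappingCone.map_comp, e.hom_inv_id, mappingCone.map_id]
  inv_hom_id := by simp only [mconeMap, ← mappingCone.map_comp, e.inv_hom_id, mappingCone.map_id]

/-- The swap of two multiplications on elements. -/
noncomputable def swapF (g a : R) (K : CochainComplex (ModuleCat.{u} R) ℤ) (k : ℤ) :
    (mcone g (mcone a K)).X k ⟶ (mcone a (mcone g K)).X k :=
  ((mappingCone.fst (g • 𝟙 (mcone a K))).1.v k (k + 1) rfl ≫ (mappingCone.fst (a • 𝟙 K)).1.v (k + 1) (k + 1 + 1) rfl) ≫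
      (-(mappingCone.inl (g • 𝟙 K)).v (k + 1 + 1) (k + 1) (by lia) ≫
        (mappingCone.inl (a • 𝟙 (mcone g K))).v (k + 1) k (by lia)) +
    ((mappingCone.snd (g • 𝟙 (mcone a K))).v k k (add_zero k) ≫ (mappingCone.fst (a • 𝟙 K)).1.v k (k + 1) rfl) ≫
      ((mappingCone.inr (g • 𝟙 K)).f (k + 1) ≫ (mappingCone.inl (a • 𝟙 (mcone g K))).v (k + 1) k (by lia)) +
    ((mappingCone.fst (g • 𝟙 (mcone a K))).1.v k (k + 1) rfl ≫ (mappingCone.snd (a • 𝟙 K)).v (k + 1) (k + 1) (add_zero _)) ≫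
      ((mappingCone.inl (g • 𝟙 K)).v (k + 1) k (by lia) ≫ (mappingCone.inr (a • 𝟙 (mcone g K))).f k) +
    ((mappingCone.snd (g • 𝟙 (mcone a K))).v k k (add_zero k) ≫ (mappingCone.snd (a • 𝟙 K)).v k k (add_zero k)) ≫
      ((mappingCone.inr (g • 𝟙 K)).f k ≫ (mappingCone.inr (a • 𝟙 (mcone g K))).f k)

theorem swapF_apply (g a : R) {k l m : ℤ} (hkl : k + 1 = l) (hlm : l + 1 = m)
    (z : (mcone g (mcone a K)).X k) :
    swapF g a K k z = cmk (a • 𝟙 (mcone g K)) k l hkl
      (cmk (g • 𝟙 K) l m hlm (-c1 (a • 𝟙 K) l m hlm (c1 (g • 𝟙 (mcone a K)) k l hkl z))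
        (c1 (a • 𝟙 K) k l hkl (c2 (g • 𝟙 (mcone a K)) k z)))
      (cmk (g • 𝟙 K) k l hkl (c2 (a • 𝟙 K) l (c1 (g • 𝟙 (mcone a K)) k l hkl z))
        (c2 (a • 𝟙 K) k (c2 (g • 𝟙 (mcone a K)) k z))) := by
  subst hkl hlm
  simp only [cmk, map_add, map_neg]
  simp only [swapF, ModuleCat.hom_add, ModuleCat.hom_comp, ModuleCat.hom_neg, LinearMap.add_apply,
    LinearMap.comp_apply, LinearMap.neg_apply]
  simp only [c1, c2]
  abel

theorem swapF_swapF (g a : R) (k : ℤ) : swapF g a K k ≫ swapF a g K k = 𝟙 _ := by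
  refine ModuleCat.hom_ext (LinearMap.ext fun z => ?_)
  show swapF a g K k (swapF g a K k z) = z
  rw [swapF_apply g a rfl rfl, swapF_apply a g rfl rfl]
  simp only [c1_cmk, c2_cmk, neg_neg]
  refine cone_ext rfl ?_ ?_
  · rw [c1_cmk]
    exact cmk_c _ _
  · rw [c2_cmk]
    exact cmk_c _ _

/-- Cones of multiplications commute. -/
noncomputable def swapIso (g a : R) (K : CochainComplex (ModuleCat.{u} R) ℤ) :
    mcone g (mcone a K) ≅ mcone a (mcone g K) :=
  HomologicalComplex.Hom.isoOfComponents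
    (fun k => ⟨swapF g a K k, swapF a g K k, swapF_swapF g a k, swapF_swapF a g k⟩) (by
      intro k l (hkl : k + 1 = l)
      refine ModuleCat.hom_ext (LinearMap.ext fun z => ?_)
      show (mcone a (mcone g K)).d k l (swapF g a K k z) = swapF g a K l ((mcone g (mcone a K)).d k l z)
      subst hkl
      rw [swapF_apply g a rfl rfl, swapF_apply g a rfl rfl]
      refine cone_ext rfl ?_ ?_ <;> refine cone_ext rfl ?_ ?_
      all_goals
        simp only [c1_cmk, c2_cmk, c1_d, c2_d rfl, map_neg, map_add, HomologicalComplex.smul_f_apply,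
          HomologicalComplex.id_f, ModuleCat.hom_smul, ModuleCat.hom_id, LinearMap.smul_apply,
          LinearMap.id_apply, map_smul, smul_neg, neg_neg, neg_add]
      all_goals abel)

/-- Iterated cones. -/
noncomputable def KC : List R → CochainComplex (ModuleCat.{u} R) ℤ → CochainComplex (ModuleCat.{u} R) ℤ
  | [], K => K
  | f :: fs, K => mcone f (KC fs K)

/-- A multiplication cone moves inside. -/
noncomputable def kcSwap (a : R) : (fs : List R) → (K : CochainComplex (ModuleCat.{u} R) ℤ) →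
    (mcone a (KC fs K) ≅ KC fs (mcone a K))
  | [], _ => Iso.refl _
  | f :: fs, K => swapIso a f (KC fs K) ≪≫ mconeIso f (kcSwap a fs K)

theorem koszulCx_eq (M : ModuleCat.{u} R) : ∀ fs : List R, CohIII.koszulCx M fs =
    KC fs ((HomologicalComplex.single (ModuleCat.{u} R) (ComplexShape.up ℤ) 0).obj M)
  | [] => rfl
  | f :: fs => congrArg (KC [f]) (koszulCx_eq M fs)

/-- Vanishing of homology outside degree `m`. -/
def Conc (m : ℤ) (K : CochainComplex (ModuleCat.{u} R) ℤ) : Prop :=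
  ∀ i, i ≠ m → IsZero (K.homology i)

theorem Conc.of_iso {m : ℤ} (h : Conc m K) (e : K ≅ L) : Conc m L := fun i hi =>
  (h i hi).of_iso ((HomologicalComplex.homologyFunctor _ _ i).mapIso e).symm

theorem conc_mcone_iff (a : R) (m : ℤ) : Conc m (mcone a K) ↔ ∀ k, k ≠ m →
    (∀ (l : ℤ), k + 1 = l → ∀ x : K.X l, K.d l (l + 1) x = 0 → (∃ y, K.d k l y = a • x) → ∃ y, K.d k l y = x) ∧
    (∀ (j : ℤ), j + 1 = k → ∀ x : K.X k, K.d k (k + 1) x = 0 → ∃ z, K.d k (k + 1) z = 0 ∧ ∃ y, K.d j k y = x - a • z) := by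
  refine forall₂_congr fun k hk => ?_
  rw [isZero_homology_iff k (k - 1) (sub_add_cancel k 1)]
  constructor
  · intro h
    refine ⟨fun l hl x hx ⟨y, hy⟩ => ?_, fun j hj x hx => ?_⟩
    · subst hl
      obtain ⟨w, hw⟩ := h (cmk (a • 𝟙 K) k (k + 1) rfl x (-y)) (cone_ext rfl
        (by rw [c1_d rfl rfl, c1_cmk, map_zero, hx, neg_zero])
        (by
          rw [c2_d rfl, c1_cmk, c2_cmk, map_zero, map_neg, hy]
          exact add_neg_cancel (a • x)))
      have := congrArg (c1 (a • 𝟙 K) k (k + 1) rfl) hw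
      rw [c1_cmk, c1_d (sub_add_cancel k 1) rfl] at this
      exact ⟨-(c1 (a • 𝟙 K) (k - 1) k (sub_add_cancel k 1) w), by rw [map_neg, this]⟩
    · obtain rfl : j = k - 1 := by lia
      obtain ⟨w, hw⟩ := h (cmk (a • 𝟙 K) k (k + 1) rfl 0 x) (cone_ext rfl
        (by rw [c1_d rfl rfl, c1_cmk, map_zero, map_zero, neg_zero])
        (by rw [c2_d rfl, c1_cmk, c2_cmk, map_zero, map_zero, hx, add_zero]))
      have h1 := congrArg (c1 (a • 𝟙 K) k (k + 1) rfl) hw
      rw [c1_cmk, c1_d (sub_add_cancel k 1) rfl, neg_eq_zero] at h1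
      have h2 := congrArg (c2 (a • 𝟙 K) k) hw
      rw [c2_cmk, c2_d (sub_add_cancel k 1)] at h2
      refine ⟨_, h1, c2 (a • 𝟙 K) (k - 1) w, ?_⟩
      exact eq_sub_of_add_eq' h2
  · rintro ⟨hi, hs⟩ z hz
    have h1 := congrArg (c1 (a • 𝟙 K) (k + 1) (k + 1 + 1) rfl) hz
    rw [c1_d rfl rfl, map_zero, neg_eq_zero] at h1
    have h2 := congrArg (c2 (a • 𝟙 K) (k + 1)) hz
    rw [c2_d rfl, map_zero] at h2
    obtain ⟨y, hy⟩ := hi (k + 1) rfl _ h1 ⟨-c2 (a • 𝟙 K) k z, by
      rw [map_neg]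
      exact (eq_neg_of_add_eq_zero_left h2).symm⟩
    have h3 : K.d k (k + 1) (c2 (a • 𝟙 K) k z + a • y) = 0 := by
      rw [map_add, map_smul, hy]
      exact (add_comm _ _).trans h2
    obtain ⟨u, hu, w, hw⟩ := hs (k - 1) (sub_add_cancel k 1) _ h3
    refine ⟨cmk (a • 𝟙 K) (k - 1) k (sub_add_cancel k 1) (u - y) w, cone_ext rfl ?_ ?_⟩
    · rw [c1_d (sub_add_cancel k 1) rfl, c1_cmk, map_sub, hu, zero_sub, neg_neg, hy]
    · rw [c2_d (sub_add_cancel k 1), c1_cmk, c2_cmk, hw]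
      show a • (u - y) + _ = _
      rw [smul_sub]
      abel

theorem Conc.mcone_pow {a : R} {m : ℤ} (h : Conc m (mcone a K)) : ∀ n : ℕ, Conc m (mcone (a ^ n) K) := by
  rw [conc_mcone_iff] at h
  intro n
  rw [conc_mcone_iff]
  induction n with
  | zero =>
    exact fun k _ => ⟨fun l _ x _ ⟨y, hy⟩ => ⟨y, hy.trans (by rw [pow_zero, one_smul])⟩,
      fun j _ x hx => ⟨x, hx, 0, by rw [map_zero, pow_zero, one_smul, sub_self]⟩⟩
  | succ n ih =>
    intro k hk
    refine ⟨fun l hl x hx hy => ?_, fun j hj x hx => ?_⟩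
    · rw [pow_succ', mul_smul] at hy
      obtain hy' := (h k hk).1 l hl _ (by rw [map_smul, hx, smul_zero]) hy
      exact (ih k hk).1 l hl x hx hy'
    · obtain ⟨z, hz, y, hy⟩ := (ih k hk).2 j hj x hx
      obtain ⟨z', hz', y', hy'⟩ := (h k hk).2 j hj z hz
      refine ⟨z', hz', y + a ^ n • y', ?_⟩
      rw [map_add, map_smul, hy, hy', smul_sub, smul_smul, ← pow_succ]
      abel

theorem conc_KC_pow (n : ℕ) : ∀ (fs : List R) (K : CochainComplex (ModuleCat.{u} R) ℤ) (m : ℤ),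
    Conc m (KC fs K) → Conc m (KC (fs.map (· ^ n)) K) := by
  intro fs
  induction fs with
  | nil => exact fun K m h => h
  | cons f fs ih =>
    intro K m h
    have h1 := (Conc.mcone_pow (K := KC fs K) h n).of_iso (kcSwap (f ^ n) fs K)
    exact (ih _ m h1).of_iso (kcSwap (f ^ n) _ K).symm

end Groth.Agent.CechX
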