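import Mathlib
import Groth.Prelude.Def_ega3
import Groth.Agent.CechX.KoszulPow
import Groth.Agent.CechX.Single

/-!
Basic properties of Koszul complexes: degree range, top cohomology, homotopies and regular sequences.
-/

namespace Groth.Agent.CechX

universe u

open CategoryTheory CategoryTheory.Limits CochainComplex

variable {R : Type u} [CommRing R] (M : ModuleCat.{u} R)

theorem koszulCx_eq_zero : ∀ (fs : List R) (p : ℤ), 0 < p → ∀ x : (CohIII.koszulCx M fs).X p, x = 0
  | [], p, hp, x => single0_eq_zero M p (Or.inr hp) x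
  | f :: fs, p, hp, x => cone_ext (φ := f • 𝟙 (CohIII.koszulCx M fs)) rfl
      ((koszulCx_eq_zero fs (p + 1) (by lia) _).trans (koszulCx_eq_zero fs (p + 1) (by lia) _).symm)
      ((koszulCx_eq_zero fs p hp _).trans (koszulCx_eq_zero fs p hp _).symm)

theorem smul_id_f_apply (a : R) (K : CochainComplex (ModuleCat.{u} R) ℤ) (p : ℤ) (x : K.X p) :
    (a • 𝟙 K : K ⟶ K).f p x = a • x := by
  simp

/-- The degree zero term, with the boundaries inside. -/
theorem exists_equiv_zero : ∀ fs : List R, ∃ e : ↑((CohIII.koszulCx M fs).X 0) ≃ₗ[R] ↑M,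
    ∀ x, (∃ y, (CohIII.koszulCx M fs).d (-1) 0 y = x) ↔ e x ∈ (Ideal.ofList fs • (⊤ : Submodule R M))
  | [] => by
    suffices H : ∃ e : ↑((single0 M).X 0) ≃ₗ[R] ↑M, ∀ x, (∃ y, (single0 M).d (-1) 0 y = x) ↔
        e x ∈ (Ideal.ofList ([] : List R) • (⊤ : Submodule R M)) from H
    refine ⟨(HomologicalComplex.singleObjXSelf (ComplexShape.up ℤ) 0 M).toLinearEquiv, fun x => ?_⟩
    rw [Ideal.ofList_nil, Submodule.bot_smul, Submodule.mem_bot, LinearEquiv.map_eq_zero_iff]
    constructor
    · rintro ⟨y, rfl⟩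
      rw [single0_eq_zero M (-1) (Or.inl (by lia)) y, map_zero]
    · rintro rfl
      exact ⟨0, map_zero _⟩
  | f :: fs => by
    obtain ⟨e, he⟩ := exists_equiv_zero fs
    let φ := f • 𝟙 (CohIII.koszulCx M fs)
    suffices H : ∃ e : ↑((mappingCone φ).X 0) ≃ₗ[R] ↑M, ∀ x, (∃ y, (mappingCone φ).d (-1) 0 y = x) ↔
        e x ∈ (Ideal.ofList (f :: fs) • (⊤ : Submodule R M)) from H
    let c : ↑((mappingCone φ).X 0) ≃ₗ[R] ↑((CohIII.koszulCx M fs).X 0) :=
      LinearEquiv.ofBijective (c2 φ 0)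
        ⟨fun z w h => cone_ext (zero_add 1)
          ((koszulCx_eq_zero M fs 1 one_pos _).trans (koszulCx_eq_zero M fs 1 one_pos _).symm) h,
        fun y => ⟨cmk φ 0 1 (zero_add 1) 0 y, c2_cmk _ _ _⟩⟩
    refine ⟨c.trans e, fun x => ?_⟩
    rw [Ideal.ofList_cons, Submodule.sup_smul, Submodule.ideal_span_singleton_smul]
    constructor
    · rintro ⟨y, rfl⟩
      show e (c2 φ 0 ((mappingCone φ).d (-1) 0 y)) ∈ _
      rw [c2_d (neg_add_cancel (1 : ℤ)), smul_id_f_apply, map_add, map_smul]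
      exact Submodule.add_mem_sup (Submodule.smul_mem_pointwise_smul _ f ⊤ trivial) ((he _).1 ⟨_, rfl⟩)
    · intro h
      obtain ⟨u, hu, v, hv, huv⟩ := Submodule.mem_sup.1 h
      obtain ⟨m, -, rfl⟩ := (Submodule.mem_smul_pointwise_iff_exists _ _ _).1 hu
      obtain ⟨b, hb⟩ := (he (e.symm v)).2 (by rw [LinearEquiv.apply_symm_apply]; exact hv)
      refine ⟨cmk φ (-1) 0 (neg_add_cancel 1) (e.symm m) b, c.injective (e.injective ?_)⟩
      show e (c2 φ 0 _) = (c.trans e) x
      rw [c2_d (neg_add_cancel (1 : ℤ)), c1_cmk, c2_cmk, smul_id_f_apply, hb, map_add, map_smul,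
        LinearEquiv.apply_symm_apply, LinearEquiv.apply_symm_apply, huv]

theorem nonempty_top_equiv (fs : List R) : Nonempty
    (↑((CohIII.koszulCx M fs).homology 0) ≃ₗ[R] (↑M ⧸ (Ideal.ofList fs • (⊤ : Submodule R M)))) := by
  obtain ⟨e, he⟩ := exists_equiv_zero M fs
  let K := CohIII.koszulCx M fs
  let c : ↑(K.X 0) →ₗ[R] LinearMap.ker (K.d 0 (0 + 1)).hom :=
    LinearMap.codRestrict _ LinearMap.id fun x => koszulCx_eq_zero M fs _ (by lia) _
  let g : ↑M →ₗ[R] ↑(K.homology 0) := (hcls K 0) ∘ₗ c ∘ₗ e.symm.toLinearMap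
  have hg : Function.Surjective g := fun y => by
    obtain ⟨x, rfl⟩ := hcls_surjective 0 y
    exact ⟨e x.1, congrArg (hcls K 0) (Subtype.ext (e.symm_apply_apply x.1))⟩
  have hk : LinearMap.ker g = Ideal.ofList fs • (⊤ : Submodule R M) := by
    ext m
    refine ((hcls_eq_zero_iff 0 (-1) (neg_add_cancel 1) _).trans (he _)).trans ?_
    show e (e.symm m) ∈ _ ↔ _
    rw [LinearEquiv.apply_symm_apply]
  exact ⟨(LinearMap.quotKerEquivOfSurjective g hg).symm.trans (Submodule.quotEquivOfEq _ _ hk)⟩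

/-- Multiplication by `a` is null-homotopic. -/
def NullHtpy (a : R) (K : CochainComplex (ModuleCat.{u} R) ℤ) : Prop :=
  ∃ s : ∀ p q : ℤ, q + 1 = p → (↑(K.X p) →ₗ[R] ↑(K.X q)),
    ∀ (o p q : ℤ) (hop : o + 1 = p) (hpq : p + 1 = q) (x : K.X p),
      K.d o p (s p o hop x) + s q p hpq (K.d p q x) = a • x

theorem NullHtpy.homotopy {a : R} {K : CochainComplex (ModuleCat.{u} R) ℤ} (h : NullHtpy a K) :
    Nonempty (Homotopy (a • 𝟙 K) 0) := by
  obtain ⟨s, hs⟩ := h
  refine ⟨(Homotopy.ofEq ?_).trans (Homotopy.nullHomotopy' (C := K) (D := K) fun i j hij => ModuleCat.ofHom (s i j hij))⟩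
  ext p x
  rw [Homotopy.nullHomotopicMap'_f (show (ComplexShape.up ℤ).Rel (p - 1) p from sub_add_cancel p 1)
    (show (ComplexShape.up ℤ).Rel p (p + 1) from rfl)]
  refine (smul_id_f_apply a K p x).trans ?_
  refine (hs (p - 1) p (p + 1) (sub_add_cancel p 1) rfl x).symm.trans ?_
  rw [add_comm]
  rfl

theorem nullHtpy_head (f : R) (K : CochainComplex (ModuleCat.{u} R) ℤ) :
    NullHtpy f (mappingCone (f • 𝟙 K)) := by
  refine ⟨fun p q hqp => {
    toFun := fun z => cmk (f • 𝟙 K) q p hqp (c2 (f • 𝟙 K) p z) 0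
    map_add' := fun z w => cone_ext hqp (by simp only [map_add, c1_cmk]) (by simp only [map_add, c2_cmk, add_zero])
    map_smul' := fun r z => cone_ext hqp (by simp only [map_smul, c1_cmk, RingHom.id_apply]) (by simp only [map_smul, c2_cmk, smul_zero, RingHom.id_apply]) },
    fun o p q hop hpq z => cone_ext hpq ?_ ?_⟩
  · simp only [LinearMap.coe_mk, AddHom.coe_mk]
    rw [map_add, map_smul, c1_d hop hpq, c1_cmk, c1_cmk, c2_d hpq, smul_id_f_apply]
    abel
  · simp only [LinearMap.coe_mk, AddHom.coe_mk]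
    rw [map_add, map_smul, c2_d hop, c1_cmk, c2_cmk, c2_cmk, map_zero, smul_id_f_apply, add_zero, add_zero]

theorem NullHtpy.cone {a : R} {K : CochainComplex (ModuleCat.{u} R) ℤ} (h : NullHtpy a K) (f : R) :
    NullHtpy a (mappingCone (f • 𝟙 K)) := by
  obtain ⟨s, hs⟩ := h
  refine ⟨fun p q hqp => {
    toFun := fun z => cmk (f • 𝟙 K) q p hqp (-s (p + 1) p rfl (c1 (f • 𝟙 K) p (p + 1) rfl z)) (s p q hqp (c2 (f • 𝟙 K) p z))
    map_add' := fun z w => cone_ext hqp (by simp only [map_add, c1_cmk, neg_add]) (by simp only [map_add, c2_cmk])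
    map_smul' := fun r z => cone_ext hqp (by simp only [map_smul, c1_cmk, RingHom.id_apply, smul_neg]) (by simp only [map_smul, c2_cmk, RingHom.id_apply]) },
    fun o p q hop hpq z => ?_⟩
  subst hpq
  refine cone_ext rfl ?_ ?_
  · simp only [LinearMap.coe_mk, AddHom.coe_mk]
    rw [map_add, map_smul, c1_d hop rfl, c1_cmk, c1_cmk, c1_d rfl rfl, map_neg, map_neg, neg_neg, neg_neg]
    exact hs p (p + 1) (p + 1 + 1) rfl rfl _
  · simp only [LinearMap.coe_mk, AddHom.coe_mk]
    rw [map_add, map_smul, c2_d hop, c1_cmk, c2_cmk, c2_cmk, c2_d rfl, smul_id_f_apply, smul_id_f_apply,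
      map_add, map_smul, smul_neg, ← hs o p (p + 1) hop rfl (c2 (f • 𝟙 K) p z)]
    abel

theorem nullHtpy_of_mem_span {fs : List R} {a : R} (ha : a ∈ Ideal.span {x | x ∈ fs}) :
    NullHtpy a (CohIII.koszulCx M fs) := by
  induction ha using Submodule.span_induction with
  | mem x hx =>
    induction fs with
    | nil => exact absurd hx List.not_mem_nil
    | cons f fs ih =>
      rcases List.mem_cons.1 hx with rfl | h
      · exact nullHtpy_head _ _
      · exact (ih h).cone f
  | zero => exact ⟨fun _ _ _ => 0, fun _ _ _ _ _ _ => by simp⟩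
  | add x y _ _ hx hy =>
    obtain ⟨s, hs⟩ := hx
    obtain ⟨t, ht⟩ := hy
    refine ⟨fun p q h => s p q h + t p q h, fun o p q hop hpq z => ?_⟩
    rw [add_smul, ← hs o p q hop hpq z, ← ht o p q hop hpq z]
    simp only [LinearMap.add_apply, map_add]
    abel
  | smul r x _ hx =>
    obtain ⟨s, hs⟩ := hx
    refine ⟨fun p q h => r • s p q h, fun o p q hop hpq z => ?_⟩
    rw [smul_eq_mul, mul_smul, ← hs o p q hop hpq z, smul_add]
    simp only [LinearMap.smul_apply, map_smul]

theorem isZero_homology_of_nullHtpy_one {K : CochainComplex (ModuleCat.{u} R) ℤ} (h : NullHtpy 1 K) (p : ℤ) :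
    IsZero (K.homology p) := by
  obtain ⟨s, hs⟩ := h
  refine (isZero_homology_iff p (p - 1) (sub_add_cancel p 1)).2 fun x hx => ⟨s p (p - 1) (sub_add_cancel p 1) x, ?_⟩
  have := hs (p - 1) p (p + 1) (sub_add_cancel p 1) rfl x
  rwa [hx, map_zero, add_zero, one_smul] at this

theorem KC_append (fs gs : List R) (K : CochainComplex (ModuleCat.{u} R) ℤ) : KC (fs ++ gs) K = KC fs (KC gs K) := by
  induction fs with
  | nil => rfl
  | cons f fs ih => exact congrArg (KC [f]) ih

/-- Weakly regular sequences have concentrated Koszul complexes. -/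
theorem conc_koszulCx_of_isWeaklyRegular : ∀ fs : List R, RingTheory.Sequence.IsWeaklyRegular M fs →
    Conc 0 (CohIII.koszulCx M fs) := by
  intro fs
  induction fs using List.reverseRecOn with
  | nil =>
    intro _ i hi
    exact (isZero_homology_iff i (i - 1) (sub_add_cancel i 1)).2 fun x _ => ⟨0, (map_zero _).trans (single0_eq_zero M i (by lia) x).symm⟩
  | append_singleton fs g ih =>
    intro h
    rw [RingTheory.Sequence.isWeaklyRegular_append_iff'] at h
    have hc := ih h.1
    have hg : IsSMulRegular (↑M ⧸ (Ideal.ofList fs • (⊤ : Submodule R M))) g :=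
      ((RingTheory.Sequence.isWeaklyRegular_cons_iff _ _ _).1 h.2).1
    obtain ⟨e, he⟩ := exists_equiv_zero M fs
    have hcone : Conc 0 (mcone g (CohIII.koszulCx M fs)) := by
      rw [conc_mcone_iff]
      refine fun k hk => ⟨fun l hl x hx hy => ?_, fun j hj x hx => ?_⟩
      · by_cases hl0 : l = 0
        · subst hl0
          obtain rfl : k = -1 := by lia
          have h1 := (he _).1 hy
          rw [map_smul] at h1
          refine (he x).2 ((Submodule.Quotient.mk_eq_zero _).1 (hg ?_))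
          show g • Submodule.Quotient.mk (e x) = g • (0 : _)
          rw [smul_zero, ← Submodule.Quotient.mk_smul, Submodule.Quotient.mk_eq_zero]
          exact h1
        · exact (isZero_homology_iff l k hl).1 (hc l hl0) x hx
      · obtain ⟨y, hy⟩ := (isZero_homology_iff k j hj).1 (hc k hk) x hx
        exact ⟨0, map_zero _, y, by rw [smul_zero, sub_zero, hy]⟩
    rw [koszulCx_eq] at hcone
    rw [koszulCx_eq, KC_append]
    exact hcone.of_iso (kcSwap g fs _)

end Groth.Agent.CechX
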