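import Mathlib
import Groth.Agent.CechX.KoszulBasic

/-!
Koszul complexes and regular sequences in the ideal generated by the list.
-/

namespace Groth.Agent.CechX

universe u

open CategoryTheory CategoryTheory.Limits CochainComplex

variable {R : Type u} [CommRing R] {M N : ModuleCat.{u} R}

/-- Functoriality of the Koszul complex in the module. -/
noncomputable def kmap (g : M ⟶ N) : ∀ fs : List R, CohIII.koszulCx M fs ⟶ CohIII.koszulCx N fs
  | [] => (HomologicalComplex.single (ModuleCat.{u} R) (ComplexShape.up ℤ) 0).map g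
  | f :: fs => mappingCone.map _ _ (kmap g fs) (kmap g fs)
      (by simp only [Linear.smul_comp, Linear.comp_smul, Category.id_comp, Category.comp_id])

theorem kmap_f_comm (g : M ⟶ N) (fs : List R) (p q : ℤ) (z : (CohIII.koszulCx M fs).X p) :
    (CohIII.koszulCx N fs).d p q ((kmap g fs).f p z) = (kmap g fs).f q ((CohIII.koszulCx M fs).d p q z) :=
  congrArg (fun φ => φ.hom z) ((kmap g fs).comm p q)

theorem kmap_surjective (g : M ⟶ N) (hg : Function.Surjective g.hom) : ∀ (fs : List R) (p : ℤ),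
    Function.Surjective ((kmap g fs).f p).hom
  | [], p => by
    rcases eq_or_ne p 0 with rfl | hp
    · exact (ModuleCat.epi_iff_surjective _).1 (by
        have : Epi g := (ModuleCat.epi_iff_surjective g).2 hg
        show Epi (((HomologicalComplex.single (ModuleCat.{u} R) (ComplexShape.up ℤ) 0).map g).f 0)
        rw [HomologicalComplex.single_map_f_self]
        infer_instance)
    · exact fun y => ⟨0, (map_zero _).trans (single0_eq_zero N p (by lia) y).symm⟩
  | f :: fs, p => fun y => by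
    obtain ⟨a, ha⟩ := kmap_surjective g hg fs (p + 1) (c1 (f • 𝟙 (CohIII.koszulCx N fs)) p (p + 1) rfl y)
    obtain ⟨b, hb⟩ := kmap_surjective g hg fs p (c2 (f • 𝟙 (CohIII.koszulCx N fs)) p y)
    exact ⟨cmk (f • 𝟙 (CohIII.koszulCx M fs)) p (p + 1) rfl a b, cone_ext rfl
      ((c1_map (φ := f • 𝟙 (CohIII.koszulCx M fs)) (kmap g fs) (kmap g fs) _ rfl _).trans (by rw [c1_cmk]; exact ha))
      ((c2_map (φ := f • 𝟙 (CohIII.koszulCx M fs)) (kmap g fs) (kmap g fs) _ p _).trans (by rw [c2_cmk]; exact hb))⟩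

theorem kmap_eq_zero_iff (g : M ⟶ N) (x : R) (hg : ∀ m, g.hom m = 0 ↔ ∃ u, x • u = m) :
    ∀ (fs : List R) (p : ℤ) (z : (CohIII.koszulCx M fs).X p),
    (kmap g fs).f p z = 0 ↔ ∃ u, x • u = z
  | [], p, z => by
    suffices H : ∀ z : (single0 M).X p,
        ((HomologicalComplex.single (ModuleCat.{u} R) (ComplexShape.up ℤ) 0).map g).f p z = 0 ↔ ∃ u, x • u = z from H z
    intro z
    rcases eq_or_ne p 0 with rfl | hp
    · let eM := (HomologicalComplex.singleObjXSelf (ComplexShape.up ℤ) 0 M).toLinearEquiv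
      let eN := (HomologicalComplex.singleObjXSelf (ComplexShape.up ℤ) 0 N).toLinearEquiv
      have h : eN (((HomologicalComplex.single (ModuleCat.{u} R) (ComplexShape.up ℤ) 0).map g).f 0 z) = g.hom (eM z) := by
        rw [HomologicalComplex.single_map_f_self]
        exact eN.apply_symm_apply _
      rw [← LinearEquiv.map_eq_zero_iff eN, h, hg]
      exact ⟨fun ⟨u, hu⟩ => ⟨eM.symm u, eM.injective (by rw [map_smul, eM.apply_symm_apply, hu])⟩,
        fun ⟨u, hu⟩ => ⟨eM u, by rw [← map_smul, hu]⟩⟩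
    · exact ⟨fun _ => ⟨0, (single0_eq_zero M p (by lia) _).trans (single0_eq_zero M p (by lia) _).symm⟩,
        fun _ => single0_eq_zero N p (by lia) _⟩
  | f :: fs, p, z => by
    suffices H : ∀ z : (mappingCone (f • 𝟙 (CohIII.koszulCx M fs))).X p,
        (mappingCone.map (f • 𝟙 (CohIII.koszulCx M fs)) (f • 𝟙 (CohIII.koszulCx N fs)) (kmap g fs) (kmap g fs)
          (by simp only [Linear.smul_comp, Linear.comp_smul, Category.id_comp, Category.comp_id])).f p z = 0 ↔
          ∃ u, x • u = z from H z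
    intro z
    constructor
    · intro h
      have h1 := congrArg (c1 (f • 𝟙 (CohIII.koszulCx N fs)) p (p + 1) rfl) h
      have h2 := congrArg (c2 (f • 𝟙 (CohIII.koszulCx N fs)) p) h
      rw [c1_map, map_zero] at h1
      rw [c2_map, map_zero] at h2
      obtain ⟨a, ha⟩ := (kmap_eq_zero_iff g x hg fs (p + 1) _).1 h1
      obtain ⟨b, hb⟩ := (kmap_eq_zero_iff g x hg fs p _).1 h2
      exact ⟨cmk _ p (p + 1) rfl a b, cone_ext rfl (by rw [map_smul, c1_cmk, ha]) (by rw [map_smul, c2_cmk, hb])⟩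
    · rintro ⟨u, rfl⟩
      refine cone_ext rfl ?_ ?_
      · rw [c1_map, map_zero]
        exact (kmap_eq_zero_iff g x hg fs (p + 1) _).2 ⟨_, (map_smul _ _ _).symm⟩
      · rw [c2_map, map_zero]
        exact (kmap_eq_zero_iff g x hg fs p _).2 ⟨_, (map_smul _ _ _).symm⟩

theorem koszulCx_isSMulRegular {x : R} (hx : IsSMulRegular M x) : ∀ (fs : List R) (p : ℤ),
    IsSMulRegular ↑((CohIII.koszulCx M fs).X p) x
  | [], p => by
    intro a b hab
    rcases eq_or_ne p 0 with rfl | hp
    · refine (HomologicalComplex.singleObjXSelf (ComplexShape.up ℤ) 0 M).toLinearEquiv.injective (hx ?_)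
      refine (map_smul (HomologicalComplex.singleObjXSelf (ComplexShape.up ℤ) 0 M).toLinearEquiv x a).symm.trans ?_
      exact (congrArg _ hab).trans (map_smul (HomologicalComplex.singleObjXSelf (ComplexShape.up ℤ) 0 M).toLinearEquiv x b)
    · exact (single0_eq_zero M p (by lia) a).trans (single0_eq_zero M p (by lia) b).symm
  | f :: fs, p => fun a b hab => cone_ext (φ := f • 𝟙 (CohIII.koszulCx M fs)) rfl
      (koszulCx_isSMulRegular hx fs (p + 1) (by
        show x • c1 (f • 𝟙 (CohIII.koszulCx M fs)) p (p + 1) rfl a = x • c1 (f • 𝟙 (CohIII.koszulCx M fs)) p (p + 1) rfl b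
        exact (map_smul _ x _).symm.trans ((congrArg _ hab).trans (map_smul _ x _))))
      (koszulCx_isSMulRegular hx fs p (by
        show x • c2 (f • 𝟙 (CohIII.koszulCx M fs)) p a = x • c2 (f • 𝟙 (CohIII.koszulCx M fs)) p b
        exact (map_smul _ x _).symm.trans ((congrArg _ hab).trans (map_smul _ x _))))

theorem koszulCx_eq_zero_of_lt (M : ModuleCat.{u} R) : ∀ (fs : List R) (p : ℤ), p < -(fs.length : ℤ) →
    ∀ z : (CohIII.koszulCx M fs).X p, z = 0
  | [], p, hp, z => single0_eq_zero M p (by simp at hp; lia) z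
  | f :: fs, p, hp, z => cone_ext (φ := f • 𝟙 (CohIII.koszulCx M fs)) rfl
      ((koszulCx_eq_zero_of_lt M fs _ (by simp at hp; lia) _).trans (koszulCx_eq_zero_of_lt M fs _ (by simp at hp; lia) _).symm)
      ((koszulCx_eq_zero_of_lt M fs _ (by simp at hp; lia) _).trans (koszulCx_eq_zero_of_lt M fs _ (by simp at hp; lia) _).symm)

theorem exists_bottom_map (M : ModuleCat.{u} R) : ∀ fs : List R, ∃ ι : ↑M →ₗ[R] ↑((CohIII.koszulCx M fs).X (-(fs.length : ℤ))),
    Function.Injective ι ∧ ∀ m, (∀ f ∈ fs, f • m = 0) →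
      ∀ q : ℤ, -(fs.length : ℤ) + 1 = q → (CohIII.koszulCx M fs).d (-(fs.length : ℤ)) q (ι m) = 0
  | [] => ⟨(HomologicalComplex.singleObjXSelf (ComplexShape.up ℤ) 0 M).toLinearEquiv.symm.toLinearMap,
      (HomologicalComplex.singleObjXSelf (ComplexShape.up ℤ) 0 M).toLinearEquiv.symm.injective,
      fun m _ q hq => single0_eq_zero M q (by simp at hq; lia) _⟩
  | f :: fs => by
    obtain ⟨ι, hι, hd⟩ := exists_bottom_map M fs
    have hn : -((f :: fs).length : ℤ) + 1 = -(fs.length : ℤ) := by simp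
    suffices H : ∃ ι' : ↑M →ₗ[R] ↑((mappingCone (f • 𝟙 (CohIII.koszulCx M fs))).X (-((f :: fs).length : ℤ))),
        Function.Injective ι' ∧ ∀ m, (∀ g ∈ f :: fs, g • m = 0) → ∀ q : ℤ, -((f :: fs).length : ℤ) + 1 = q →
          (mappingCone (f • 𝟙 (CohIII.koszulCx M fs))).d (-((f :: fs).length : ℤ)) q (ι' m) = 0 from H
    refine ⟨{
      toFun := fun m => cmk _ _ (-(fs.length : ℤ)) hn (ι m) 0
      map_add' := fun a b => cone_ext hn (by simp only [map_add, c1_cmk]) (by simp only [map_add, c2_cmk, add_zero])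
      map_smul' := fun r a => cone_ext hn (by simp only [map_smul, c1_cmk, RingHom.id_apply]) (by simp only [map_smul, c2_cmk, smul_zero, RingHom.id_apply]) }, ?_, ?_⟩
    · intro a b hab
      have := congrArg (c1 (f • 𝟙 (CohIII.koszulCx M fs)) _ _ hn) hab
      simp only [LinearMap.coe_mk, AddHom.coe_mk, c1_cmk] at this
      exact hι this
    · intro m hm q hq
      obtain rfl : q = -(fs.length : ℤ) := by lia
      simp only [LinearMap.coe_mk, AddHom.coe_mk]
      refine cone_ext (rfl : -(fs.length : ℤ) + 1 = _) ?_ ?_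
      · rw [c1_d hn rfl, c1_cmk, map_zero, hd m (fun g hg => hm g (List.mem_cons_of_mem _ hg)) _ rfl, neg_zero]
      · rw [c2_d hn, c1_cmk, c2_cmk, map_zero, map_zero, smul_id_f_apply, ← map_smul, hm f List.mem_cons_self, map_zero, add_zero]

/-- A regular sequence in the ideal kills the low cohomology, and the next one survives if the quotient has
a nonzero element killed by the ideal. -/
theorem koszul_of_isWeaklyRegular (fs : List R) : ∀ (rs : List R) (M : ModuleCat.{u} R),
    RingTheory.Sequence.IsWeaklyRegular M rs → (∀ x ∈ rs, x ∈ Ideal.span {a | a ∈ fs}) →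
    (∀ i : ℤ, i < (rs.length : ℤ) - fs.length → IsZero ((CohIII.koszulCx M fs).homology i)) ∧
    ((∃ m : ↑M ⧸ (Ideal.ofList rs • (⊤ : Submodule R M)), m ≠ 0 ∧ ∀ f ∈ fs, f • m = 0) →
      ¬ IsZero ((CohIII.koszulCx M fs).homology ((rs.length : ℤ) - fs.length))) := by
  intro rs
  induction rs with
  | nil =>
    intro M _ _
    refine ⟨fun i hi => (isZero_homology_iff i (i - 1) (sub_add_cancel i 1)).2 fun z _ =>
      ⟨0, (map_zero _).trans (koszulCx_eq_zero_of_lt M fs i (by simp at hi; lia) z).symm⟩, ?_⟩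
    rintro ⟨m, hm, hfm⟩ h
    obtain ⟨m, rfl⟩ := Submodule.Quotient.mk_surjective _ m
    have hbot : (Ideal.ofList ([] : List R) • (⊤ : Submodule R M)) = ⊥ := by rw [Ideal.ofList_nil, Submodule.bot_smul]
    have hz : ∀ a : M, (Submodule.Quotient.mk a : ↑M ⧸ (Ideal.ofList ([] : List R) • (⊤ : Submodule R M))) = 0 ↔ a = 0 :=
      fun a => by rw [Submodule.Quotient.mk_eq_zero, hbot, Submodule.mem_bot]
    obtain ⟨ι, hι, hd⟩ := exists_bottom_map M fs
    rw [show (([] : List R).length : ℤ) - fs.length = -(fs.length : ℤ) by simp,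
      isZero_homology_iff _ (-(fs.length : ℤ) - 1) (sub_add_cancel _ 1)] at h
    obtain ⟨y, hy⟩ := h (ι m) (hd m (fun f hf => (hz _).1 ((Submodule.Quotient.mk_smul _ f m).trans (hfm f hf))) _ rfl)
    rw [koszulCx_eq_zero_of_lt M fs _ (by lia) y, map_zero, ← map_zero ι] at hy
    exact hm ((hz _).2 (hι hy).symm)
  | cons x rs ih =>
    intro M hreg hmem
    rw [RingTheory.Sequence.isWeaklyRegular_cons_iff] at hreg
    obtain ⟨hx, hrs⟩ := hreg
    let N := ModuleCat.of R (QuotSMulTop x M)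
    let g : M ⟶ N := ModuleCat.ofHom (Submodule.mkQ _)
    have hg : ∀ m, g.hom m = 0 ↔ ∃ u, x • u = m := fun m => by
      refine (Submodule.Quotient.mk_eq_zero _).trans ((Submodule.mem_smul_pointwise_iff_exists _ _ _).trans ?_)
      simp
    have hs : Function.Surjective g.hom := Submodule.mkQ_surjective _
    obtain ⟨ih1, ih2⟩ := ih N hrs fun y hy => hmem y (List.mem_cons_of_mem _ hy)
    obtain ⟨s, hsn⟩ := nullHtpy_of_mem_span M (hmem x List.mem_cons_self)
    have low : ∀ i : ℤ, i < ((x :: rs).length : ℤ) - fs.length → IsZero ((CohIII.koszulCx M fs).homology i) := by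
      intro i hi
      refine (isZero_homology_iff i (i - 1) (sub_add_cancel i 1)).2 fun z hz => ?_
      have hy : (CohIII.koszulCx M fs).d (i - 1) i (s i (i - 1) (sub_add_cancel i 1) z) = x • z := by
        have := hsn (i - 1) i (i + 1) (sub_add_cancel i 1) rfl z
        rwa [hz, map_zero, add_zero] at this
      obtain ⟨w, hw⟩ := (isZero_homology_iff (i - 1) (i - 1 - 1) (sub_add_cancel _ 1)).1
        (ih1 (i - 1) (by simp at hi; lia)) ((kmap g fs).f (i - 1) (s i (i - 1) (sub_add_cancel i 1) z)) (by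
          rw [sub_add_cancel i 1, kmap_f_comm, hy, (kmap_eq_zero_iff g x hg fs i _).2 ⟨z, rfl⟩])
      obtain ⟨w, rfl⟩ := kmap_surjective g hs fs _ w
      rw [kmap_f_comm, ← sub_eq_zero, ← map_sub] at hw
      obtain ⟨u, hu⟩ := (kmap_eq_zero_iff g x hg fs _ _).1 hw
      refine ⟨-u, koszulCx_isSMulRegular hx fs i ?_⟩
      show x • (CohIII.koszulCx M fs).d (i - 1) i (-u) = x • z
      rw [← map_smul, smul_neg, hu, neg_sub, map_sub, hy]
      have hdd : (CohIII.koszulCx M fs).d (i - 1) i ((CohIII.koszulCx M fs).d (i - 1 - 1) (i - 1) w) = 0 :=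
        congrArg (fun φ => φ.hom w) ((CohIII.koszulCx M fs).d_comp_d (i - 1 - 1) (i - 1) i)
      rw [hdd, sub_zero]
    refine ⟨low, ?_⟩
    rintro ⟨m, hm, hfm⟩ h
    let e := Submodule.quotOfListConsSMulTopEquivQuotSMulTopInner M x rs
    have hn := ih2 ⟨e m, fun h0 => hm (e.injective (h0.trans e.map_zero.symm)),
      fun f hf => by rw [← map_smul, hfm f hf, map_zero]⟩
    have hlen : ((x :: rs).length : ℤ) - fs.length = (rs.length : ℤ) - fs.length + 1 := by simp; ring
    set j : ℤ := (rs.length : ℤ) - fs.length with hj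
    rw [hlen] at h
    refine hn ((isZero_homology_iff j (j - 1) (sub_add_cancel j 1)).2 fun y hy => ?_)
    obtain ⟨y, rfl⟩ := kmap_surjective g hs fs _ y
    rw [kmap_f_comm] at hy
    obtain ⟨z, hz⟩ := (kmap_eq_zero_iff g x hg fs _ _).1 hy
    have hz0 : (CohIII.koszulCx M fs).d (j + 1) (j + 1 + 1) z = 0 := by
      refine koszulCx_isSMulRegular hx fs _ ?_
      show x • (CohIII.koszulCx M fs).d (j + 1) (j + 1 + 1) z = x • (0 : (CohIII.koszulCx M fs).X (j + 1 + 1))
      rw [smul_zero, ← map_smul, hz]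
      exact congrArg (fun φ => φ.hom y) ((CohIII.koszulCx M fs).d_comp_d j (j + 1) (j + 1 + 1))
    obtain ⟨u, hu⟩ := (isZero_homology_iff (j + 1) j rfl).1 h z hz0
    obtain ⟨w, hw⟩ := (isZero_homology_iff j (j - 1) (sub_add_cancel j 1)).1 (low j (by simp [hj])) (y - x • u)
      (by rw [map_sub, map_smul, hu, hz, sub_self])
    refine ⟨(kmap g fs).f (j - 1) w, ?_⟩
    rw [kmap_f_comm, hw, map_sub, (kmap_eq_zero_iff g x hg fs j _).2 ⟨u, rfl⟩, sub_zero]

end Groth.Agent.CechX
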