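import Mathlib
import Groth.Agent.CechX.Koszul
import Groth.Agent.CechX.KoszulBasic

/-!
Top limit Koszul cohomology, and the polynomial ring.
-/

namespace Groth.Agent.CechX

universe u

open CategoryTheory CategoryTheory.Limits CochainComplex MvPolynomial

section

variable {R : Type u} [CommRing R] (M : ModuleCat.{u} R)

/-- The identification of `M` with the degree zero term. -/
noncomputable def topInj : ∀ gs : List R, ↑M →ₗ[R] ↑((CohIII.koszulCx M gs).X 0)
  | [] => (HomologicalComplex.singleObjXSelf (ComplexShape.up ℤ) 0 M).inv.hom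
  | g :: gs =>
    { toFun := fun m => cmk (g • 𝟙 (CohIII.koszulCx M gs)) 0 1 (zero_add 1) 0 (topInj gs m)
      map_add' := fun a b => cone_ext (φ := g • 𝟙 (CohIII.koszulCx M gs)) (zero_add 1)
        ((koszulCx_eq_zero M gs 1 one_pos _).trans (koszulCx_eq_zero M gs 1 one_pos _).symm)
        ((c2_cmk _ _ _).trans ((map_add _ _ _).trans ((congrArg₂ (· + ·) (c2_cmk _ _ _).symm (c2_cmk _ _ _).symm).trans (map_add _ _ _).symm)))
      map_smul' := fun r a => cone_ext (φ := g • 𝟙 (CohIII.koszulCx M gs)) (zero_add 1)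
        ((koszulCx_eq_zero M gs 1 one_pos _).trans (koszulCx_eq_zero M gs 1 one_pos _).symm)
        ((c2_cmk _ _ _).trans ((map_smul _ _ _).trans ((congrArg (r • ·) (c2_cmk _ _ _).symm).trans (map_smul _ _ _).symm))) }

theorem topInj_bijective : ∀ gs : List R, Function.Bijective (topInj M gs)
  | [] => (HomologicalComplex.singleObjXSelf (ComplexShape.up ℤ) 0 M).toLinearEquiv.symm.bijective
  | g :: gs => by
    refine ⟨fun a b h => (topInj_bijective gs).1 ?_, fun z => ?_⟩
    · have := congrArg (c2 (g • 𝟙 (CohIII.koszulCx M gs)) 0) h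
      exact (c2_cmk (zero_add 1) _ _).symm.trans (this.trans (c2_cmk (zero_add 1) _ _))
    · obtain ⟨m, hm⟩ := (topInj_bijective gs).2 (c2 (g • 𝟙 (CohIII.koszulCx M gs)) 0 z)
      exact ⟨m, cone_ext (φ := g • 𝟙 (CohIII.koszulCx M gs)) (zero_add 1)
        ((koszulCx_eq_zero M gs 1 one_pos _).trans (koszulCx_eq_zero M gs 1 one_pos _).symm)
        ((c2_cmk (zero_add 1) _ _).trans hm)⟩

theorem topInj_mem_iff (gs : List R) (m : M) :
    (∃ y, (CohIII.koszulCx M gs).d (-1) 0 y = topInj M gs m) ↔ m ∈ (Ideal.ofList gs • (⊤ : Submodule R M)) := by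
  obtain ⟨e, he⟩ := exists_equiv_zero M gs
  rw [he]
  let u : ↑M ≃ₗ[R] ↑M := (LinearEquiv.ofBijective _ (topInj_bijective M gs)).trans e
  show u m ∈ _ ↔ _
  have hu : (Ideal.ofList gs • (⊤ : Submodule R M)).map u.toLinearMap = Ideal.ofList gs • (⊤ : Submodule R M) := by
    rw [Submodule.map_smul'', Submodule.map_top, LinearEquiv.range]
  constructor
  · intro h
    rw [← hu] at h
    obtain ⟨a, ha, hau⟩ := h
    exact u.injective hau ▸ ha
  · exact fun h => hu ▸ Submodule.mem_map_of_mem h

theorem trans_topInj : ∀ (fs : List R) {n m : ℕ} (h : n ≤ m) (x : M),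
    (CohIII.koszulTrans M n m h fs).f 0 (topInj M (fs.map (· ^ n)) x) =
      topInj M (fs.map (· ^ m)) (fs.prod ^ (m - n) • x)
  | [], n, m, h, x => by
    rw [List.prod_nil, one_pow, one_smul]
    rfl
  | f :: fs, n, m, h, x => by
    suffices H : (CohIII.koszulTrans M n m h (f :: fs)).f 0
        (cmk (f ^ n • 𝟙 (kz M fs n)) 0 1 (zero_add 1) 0 (topInj M (fs.map (· ^ n)) x)) =
      cmk (f ^ m • 𝟙 (kz M fs m)) 0 1 (zero_add 1) 0 (topInj M (fs.map (· ^ m)) ((f :: fs).prod ^ (m - n) • x)) from H
    rw [trans_cons M f fs h (zero_add 1), c1_cmk, c2_cmk, map_zero, trans_topInj fs h x, ← map_smul, smul_smul,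
      List.prod_cons, mul_pow]

/-- The top classes. -/
theorem exists_topFamily (fs : List R) (k : ℤ) (hk : k = 0) :
    ∃ Φ : ∀ n : ℕ, ↑M →ₗ[R] ↑((kz M fs n).homology k), (∀ n, Function.Surjective (Φ n)) ∧
      (∀ n x, Φ n x = 0 ↔ x ∈ (Ideal.ofList (fs.map (· ^ n)) • (⊤ : Submodule R M))) ∧
      ∀ n m (h : n ≤ m) x, HomologicalComplex.homologyMap (CohIII.koszulTrans M n m h fs) k (Φ n x) =
        Φ m (fs.prod ^ (m - n) • x) := by
  subst hk
  refine ⟨fun n => (hcls (kz M fs n) 0).comp
    ((topInj M _).codRestrict _ fun x => koszulCx_eq_zero M _ _ (by lia) _), fun n c => ?_, fun n x => ?_,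
    fun n m h x => ?_⟩
  · obtain ⟨z, rfl⟩ := hcls_surjective 0 c
    obtain ⟨x, hx⟩ := (topInj_bijective M _).2 z.1
    exact ⟨x, congrArg (hcls (kz M fs n) 0) (Subtype.ext hx)⟩
  · exact (hcls_eq_zero_iff 0 (-1) (neg_add_cancel 1) _).trans (topInj_mem_iff M _ x)
  · refine (map_hcls _ 0 _).trans (congrArg _ (Subtype.ext ?_))
    exact trans_topInj M fs h x

theorem trans_refl : ∀ (fs : List R) (n : ℕ) (k : ℤ) (z : (kz M fs n).X k),
    (CohIII.koszulTrans M n n le_rfl fs).f k z = z
  | [], _, _, _ => rfl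
  | f :: fs, n, k, z => by
    suffices H : ∀ z : (mappingCone (f ^ n • 𝟙 (kz M fs n))).X k,
        (CohIII.koszulTrans M n n le_rfl (f :: fs)).f k z = z from H z
    intro z
    rw [trans_cons M f fs le_rfl rfl, trans_refl fs, trans_refl fs, Nat.sub_self, pow_zero, one_smul, cmk_c]

theorem directedSystem (fs : List R) (p : ℕ) : DirectedSystem (fun n => ↑(CohIII.koszulHPow fs M p n))
    fun n m h => (HomologicalComplex.homologyMap (CohIII.koszulTrans M n m h fs) ((p : ℤ) - fs.length)).hom where
  map_self n c := by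
    obtain ⟨x, rfl⟩ := hcls_surjective _ c
    exact (map_hcls _ _ x).trans (congrArg _ (Subtype.ext (trans_refl M fs n _ x.1)))
  map_map k j i hij hjk c := by
    obtain ⟨x, rfl⟩ := hcls_surjective _ c
    refine (congrArg _ (map_hcls _ _ x)).trans ((map_hcls _ _ _).trans (Eq.trans ?_ (map_hcls _ _ x).symm))
    exact congrArg _ (Subtype.ext (trans_trans M fs _ _ _ _ _ _ x.1))

theorem subsingleton_koszulHLim_of_isZero (fs : List R) (p : ℕ)
    (h : ∀ n, IsZero (CohIII.koszulHPow fs M p n)) : Subsingleton (CohIII.koszulHLim fs M p) :=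
  subsingleton_of_forall_eq 0 fun z => by
    obtain ⟨n, x, rfl⟩ := Module.DirectLimit.exists_of z
    rw [(ModuleCat.subsingleton_of_isZero (h n)).elim x 0]
    exact map_zero _

end

section Poly

variable {A : Type u} [CommRing A] {σ : Type}

theorem mem_span_X_pow_iff (S : Set σ) (n : ℕ) (p : MvPolynomial σ A) :
    p ∈ Ideal.span ((fun j => (X j : MvPolynomial σ A) ^ n) '' S) ↔
      ∀ s, p.coeff s ≠ 0 → ∃ j ∈ S, n ≤ s j := by
  classical
  have : ((fun j => (X j : MvPolynomial σ A) ^ n) '' S) =
      (fun s => monomial s (1 : A)) '' ((fun j => Finsupp.single j n) '' S) := by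
    rw [Set.image_image]
    exact Set.image_congr fun j _ => X_pow_eq_monomial
  rw [this, mem_ideal_span_monomial_image]
  simp only [Set.exists_mem_image, Finsupp.single_le_iff, mem_support_iff]

theorem isWeaklyRegular_X (r : ℕ) :
    RingTheory.Sequence.IsWeaklyRegular (MvPolynomial (Fin r) A)
      (List.ofFn fun j : Fin r => (X j : MvPolynomial (Fin r) A)) := by
  refine ⟨fun i hi => ?_⟩
  rw [List.length_ofFn] at hi
  have hS : Ideal.ofList ((List.ofFn fun j : Fin r => (X j : MvPolynomial (Fin r) A)).take i) • (⊤ : Submodule (MvPolynomial (Fin r) A) (MvPolynomial (Fin r) A)) =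
      Ideal.span ((fun j => (X j : MvPolynomial (Fin r) A) ^ 1) '' {j | (j : ℕ) < i}) := by
    rw [smul_eq_mul, Ideal.mul_top]
    refine congrArg Ideal.span (Set.ext fun x => ?_)
    simp only [Set.mem_setOf_eq, List.mem_take_iff_getElem, Set.mem_image, pow_one]
    constructor
    · rintro ⟨j, hj, rfl⟩
      exact ⟨⟨j, by simp at hj; omega⟩, by simp at hj; simp; omega, by simp⟩
    · rintro ⟨j, hj, rfl⟩
      exact ⟨j, by simp; omega, by simp⟩
  intro a b hab
  obtain ⟨a, rfl⟩ := Submodule.Quotient.mk_surjective _ a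
  obtain ⟨b, rfl⟩ := Submodule.Quotient.mk_surjective _ b
  rw [← sub_eq_zero, ← Submodule.Quotient.mk_sub, Submodule.Quotient.mk_eq_zero]
  have hab' : X (⟨i, hi⟩ : Fin r) * (a - b) ∈ Ideal.span ((fun j => (X j : MvPolynomial (Fin r) A) ^ 1) '' {j | (j : ℕ) < i}) := by
    have h0 := sub_eq_zero.2 hab
    simp only [List.getElem_ofFn] at h0
    rw [← smul_sub, ← Submodule.Quotient.mk_sub, ← Submodule.Quotient.mk_smul, Submodule.Quotient.mk_eq_zero, hS] at h0
    exact h0
  rw [hS, mem_span_X_pow_iff]
  rw [mem_span_X_pow_iff] at hab'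
  intro s hs
  obtain ⟨j, hj, hle⟩ := hab' (Finsupp.single ⟨i, hi⟩ 1 + s) (by rwa [coeff_X_mul])
  refine ⟨j, hj, ?_⟩
  have hne : (⟨i, hi⟩ : Fin r) ≠ j := fun h => by
    have h' : (j : ℕ) < i := hj
    rw [← h] at h'
    exact lt_irrefl i h'
  rwa [Finsupp.add_apply, Finsupp.single_eq_of_ne hne.symm, zero_add] at hle

theorem free_top_koszulHLim (r : ℕ) :
    Module.Free A (RestrictScalars A (MvPolynomial (Fin r) A)
      (CohIII.koszulHLim (List.ofFn (fun j : Fin r => (X j : MvPolynomial (Fin r) A)))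
        (ModuleCat.of (MvPolynomial (Fin r) A) (MvPolynomial (Fin r) A)) r)) := by
  classical
  let fs := List.ofFn (fun j : Fin r => (X j : MvPolynomial (Fin r) A))
  let M := ModuleCat.of (MvPolynomial (Fin r) A) (MvPolynomial (Fin r) A)
  obtain ⟨Φ, hsurj, hker, hcomp⟩ := exists_topFamily M fs ((r : ℤ) - fs.length) (by simp [fs])
  have hker' : ∀ n (p : MvPolynomial (Fin r) A), Φ n p = 0 ↔ ∀ s, p.coeff s ≠ 0 → ∃ j, n ≤ s j := by
    intro n p
    have : Ideal.ofList (fs.map (· ^ n)) • (⊤ : Submodule (MvPolynomial (Fin r) A) (MvPolynomial (Fin r) A)) =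
        Ideal.span ((fun j => (X j : MvPolynomial (Fin r) A) ^ n) '' Set.univ) := by
      rw [smul_eq_mul, Ideal.mul_top]
      refine congrArg Ideal.span (Set.ext fun x => ?_)
      simp [fs, List.mem_ofFn]
    refine (hker n p).trans ?_
    erw [this, mem_span_X_pow_iff]
    simp
  let L := CohIII.koszulHLim fs M r
  let ψ : ∀ n, MvPolynomial (Fin r) A →ₗ[MvPolynomial (Fin r) A] L := fun n =>
    ((Module.DirectLimit.of _ ℕ _ _ n).comp (Φ n) : MvPolynomial (Fin r) A →ₗ[MvPolynomial (Fin r) A] L)
  let e0 := RestrictScalars.addEquiv A (MvPolynomial (Fin r) A) L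
  let of : ∀ n, MvPolynomial (Fin r) A →ₗ[A] RestrictScalars A (MvPolynomial (Fin r) A) L := fun n =>
    { toFun := fun p => e0.symm (ψ n p)
      map_add' := fun p q => (congrArg e0.symm (map_add (ψ n) p q)).trans (map_add e0.symm _ _)
      map_smul' := fun c p => by
        rw [RingHom.id_apply, Algebra.smul_def, ← smul_eq_mul, map_smul]
        rfl }
  have := directedSystem M fs r
  have hprod : ∀ d : ℕ, fs.prod ^ d = monomial (Finsupp.equivFunOnFinite.symm fun _ : Fin r => d) (1 : A) := by
    intro d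
    rw [List.prod_ofFn, ← Finset.prod_pow]
    simp [monomial_eq, Finsupp.prod_fintype]
  have hof : ∀ n m (h : n ≤ m) p, of n p = of m (fs.prod ^ (m - n) * p) := by
    intro n m h p
    refine congrArg e0.symm ?_
    exact (Module.DirectLimit.of_f (hij := h)).symm.trans (congrArg _ (hcomp n m h p))
  let dual : ℕ → (Fin r →₀ ℕ) → (Fin r →₀ ℕ) := fun n e => Finsupp.equivFunOnFinite.symm fun j => n - 1 - e j
  let v : (Fin r →₀ ℕ) → RestrictScalars A (MvPolynomial (Fin r) A) L := fun e =>
    of (e.sum (fun _ a => a) + 1) (monomial (dual (e.sum (fun _ a => a) + 1) e) 1)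
  have hle : ∀ (e : Fin r →₀ ℕ) j, e j ≤ e.sum (fun _ a => a) := fun e j => by
    rw [Finsupp.sum_fintype _ _ (fun _ => rfl)]
    exact Finset.single_le_sum (f := fun i => e i) (fun i _ => Nat.zero_le _) (Finset.mem_univ j)
  have hv : ∀ n e, (∀ j, e j < n) → of n (monomial (dual n e) 1) = v e := by
    intro n e hn
    rcases le_total n (e.sum (fun _ a => a) + 1) with h | h
    · rw [hof n _ h, hprod, monomial_mul, one_mul]
      refine congrArg (fun s => of _ (monomial s 1)) (Finsupp.ext fun j => ?_)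
      have := hn j
      simp [dual]
      omega
    · show _ = of _ _
      rw [hof _ n h, hprod, monomial_mul, one_mul]
      refine congrArg (fun s => of _ (monomial s 1)) (Finsupp.ext fun j => ?_)
      have := hle e j
      simp [dual]
      omega
  let G : ((Fin r →₀ ℕ) →₀ A) →ₗ[A] RestrictScalars A (MvPolynomial (Fin r) A) L := Finsupp.linearCombination A v
  refine Module.Free.of_equiv (LinearEquiv.ofBijective G ⟨?_, ?_⟩)
  · refine (injective_iff_map_eq_zero G).2 fun c hc => ?_
    obtain ⟨n, hn⟩ : ∃ n : ℕ, ∀ e ∈ c.support, ∀ j, e j < n :=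
      ⟨c.support.sup (fun e => e.sum (fun _ a => a)) + 1, fun e he j =>
        Nat.lt_succ_of_le ((hle e j).trans (Finset.le_sup (f := fun e : Fin r →₀ ℕ => e.sum (fun _ a => a)) he))⟩
    let p : MvPolynomial (Fin r) A := ∑ e ∈ c.support, monomial (dual n e) (c e)
    have hp : of n p = 0 := by
      rw [← hc, Finsupp.linearCombination_apply, Finsupp.sum, map_sum]
      refine Finset.sum_congr rfl fun e he => ?_
      rw [← hv n e (hn e he), ← map_smul, smul_monomial, smul_eq_mul, mul_one]
    obtain ⟨m, hm, hm0⟩ := Module.DirectLimit.of.zero_exact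
      ((RestrictScalars.addEquiv A (MvPolynomial (Fin r) A) L).symm.map_eq_zero_iff.1 hp)
    replace hm0 := (hker' _ _).1 ((hcomp n m hm p).symm.trans hm0)
    refine Finsupp.ext fun e => ?_
    by_contra hce
    have he : e ∈ c.support := Finsupp.mem_support_iff.2 hce
    have hco : p.coeff (dual n e) = c e := by
      rw [coeff_sum, Finset.sum_eq_single e]
      · simp
      · intro e' he' hne
        rw [coeff_monomial, if_neg]
        refine fun hd => hne (Finsupp.ext fun j => ?_)
        have h1 : dual n e' j = dual n e j := congrArg (fun s : Fin r →₀ ℕ => s j) hd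
        have := hn e he j
        have := hn e' he' j
        simp [dual] at h1
        omega
      · exact fun h => absurd he h
    obtain ⟨j, hj⟩ := hm0 (Finsupp.equivFunOnFinite.symm (fun _ => m - n) + dual n e) (by
      rw [hprod]
      show coeff _ (monomial _ (1 : A) * p) ≠ 0
      rw [coeff_monomial_mul, one_mul, hco]
      exact hce)
    have := hn e he j
    simp [dual] at hj
    omega
  · intro y
    obtain ⟨n, x, hx⟩ := Module.DirectLimit.exists_of ((RestrictScalars.addEquiv A (MvPolynomial (Fin r) A) L) y)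
    obtain ⟨p, rfl⟩ := hsurj n x
    have hy : of n p = y := (congrArg _ hx).trans (AddEquiv.symm_apply_apply _ _)
    rw [← hy, ← LinearMap.mem_range]
    have key : ∀ s a, of n (monomial s a) ∈ LinearMap.range G := by
      intro s a
      rw [show (monomial s a : MvPolynomial (Fin r) A) = a • monomial s 1 by rw [smul_monomial, smul_eq_mul, mul_one],
        map_smul]
      refine Submodule.smul_mem _ a ?_
      by_cases hs : ∀ j, s j < n
      · refine ⟨Finsupp.single (dual n s) 1, ?_⟩
        rw [Finsupp.linearCombination_single, one_smul, ← hv n (dual n s) fun j => by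
          have := hs j
          simp [dual]
          omega]
        refine congrArg (fun t => of n (monomial t 1)) (Finsupp.ext fun j => ?_)
        have := hs j
        simp [dual]
        omega
      · push Not at hs
        obtain ⟨j, hj⟩ := hs
        have h0 : Φ n (monomial s (1 : A)) = 0 := (hker' _ _).2 fun t ht => by
          rw [coeff_monomial] at ht
          obtain rfl : s = t := by
            by_contra hst
            exact ht (if_neg hst)
          exact ⟨j, hj⟩
        refine ⟨0, ?_⟩
        rw [map_zero]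
        refine (map_zero e0.symm).symm.trans (congrArg e0.symm ?_)
        exact ((congrArg (Module.DirectLimit.of (MvPolynomial (Fin r) A) ℕ (fun n => ↑(CohIII.koszulHPow fs M r n)) (fun n m h => (HomologicalComplex.homologyMap (CohIII.koszulTrans M n m h fs) ((r : ℤ) - fs.length)).hom) n) h0).trans (map_zero _)).symm
    rw [p.as_sum, map_sum]
    exact Submodule.sum_mem _ fun s _ => key s _

end Poly

end Groth.Agent.CechX
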