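import Mathlib
import Groth.Agent.CechX.LocCoh
import Groth.Agent.CechX.Single

/-!
Flat base change for the extended Čech complex and for local cohomology.
-/

namespace Groth.Agent.CechX

universe u

open CategoryTheory CategoryTheory.Limits CochainComplex TensorProduct

variable {R : Type u} [CommRing R] {R' : Type u} [CommRing R'] [Algebra R R']

variable {K L : CochainComplex (ModuleCat.{u} R) ℤ} {K' L' : CochainComplex (ModuleCat.{u} R') ℤ}

variable (R') in
/-- Base change of a linear map. -/
noncomputable abbrev bc {X Y : Type u} [AddCommGroup X] [Module R X] [AddCommGroup Y] [Module R Y]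
    (g : X →ₗ[R] Y) : R' ⊗[R] X →ₗ[R'] R' ⊗[R] Y :=
  g.baseChange R'

theorem bc_comp_apply {X Y Z : Type u} [AddCommGroup X] [Module R X] [AddCommGroup Y] [Module R Y]
    [AddCommGroup Z] [Module R Z] (g : X →ₗ[R] Y) (h : Y →ₗ[R] Z) (x : R' ⊗[R] X) :
    bc R' h (bc R' g x) = bc R' (h ∘ₗ g) x := by
  rw [bc, bc, bc, LinearMap.baseChange_comp, LinearMap.comp_apply]

/-- `K'` is the termwise base change of `K`. -/
structure BCEq (K : CochainComplex (ModuleCat.{u} R) ℤ) (K' : CochainComplex (ModuleCat.{u} R') ℤ) where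
  /-- the comparison -/
  e : ∀ p : ℤ, (R' ⊗[R] ↑(K.X p)) ≃ₗ[R'] ↑(K'.X p)
  comm : ∀ (p q : ℤ), p + 1 = q → ∀ x, e q (bc R' (K.d p q).hom x) = K'.d p q (e p x)

/-- The component of the base change of a mapping cocone. -/
noncomputable def BCEq.coconeE (eK : BCEq K K') (eL : BCEq L L') (φ : K ⟶ L) (φ' : K' ⟶ L') (p : ℤ) :
    (R' ⊗[R] ↑((mappingCocone φ).X p)) →ₗ[R'] ↑((mappingCocone φ').X p) :=
  ((mappingCocone.inl φ').v p p (add_zero p)).hom.comp ((eK.e p).toLinearMap.comp (bc R' (pr1 φ p))) +
    ((mappingCocone.inr φ').1.v (p - 1) p (sub_add_cancel p 1)).hom.comp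
      ((eL.e (p - 1)).toLinearMap.comp (bc R' (pr2 φ (p - 1) p (sub_add_cancel p 1))))

theorem BCEq.coconeE_apply (eK : BCEq K K') (eL : BCEq L L') (φ : K ⟶ L) (φ' : K' ⟶ L') {q p : ℤ}
    (h : q + 1 = p) (x : R' ⊗[R] ↑((mappingCocone φ).X p)) :
    eK.coconeE eL φ φ' p x = Groth.Agent.CechX.mk φ' q p h (eK.e p (bc R' (pr1 φ p) x)) (eL.e q (bc R' (pr2 φ q p h) x)) := by
  obtain rfl : q = p - 1 := by lia
  rfl

/-- Base change commutes with mapping cocones. -/
noncomputable def BCEq.cocone (eK : BCEq K K') (eL : BCEq L L') {φ : K ⟶ L} {φ' : K' ⟶ L'}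
    (w : ∀ p x, eL.e p (bc R' (φ.f p).hom x) = φ'.f p (eK.e p x)) :
    BCEq (mappingCocone φ) (mappingCocone φ') where
  e p := LinearEquiv.ofLinearMap (eK.coconeE eL φ φ' p)
    ((bc R' ((mappingCocone.inl φ).v p p (add_zero p)).hom).comp ((eK.e p).symm.toLinearMap.comp (pr1 φ' p)) +
      (bc R' ((mappingCocone.inr φ).1.v (p - 1) p (sub_add_cancel p 1)).hom).comp
        ((eL.e (p - 1)).symm.toLinearMap.comp (pr2 φ' (p - 1) p (sub_add_cancel p 1))))
    (LinearMap.ext fun z => by
      have h11 : pr1 φ p ∘ₗ ((mappingCocone.inl φ).v p p (add_zero p)).hom = LinearMap.id :=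
        congrArg ModuleCat.Hom.hom (mappingCocone.inl_v_fst_f φ p)
      have h12 : pr1 φ p ∘ₗ ((mappingCocone.inr φ).1.v (p - 1) p (sub_add_cancel p 1)).hom = 0 :=
        congrArg ModuleCat.Hom.hom (mappingCocone.inr_v_fst_f φ (p - 1) p (sub_add_cancel p 1))
      have h21 : pr2 φ (p - 1) p (sub_add_cancel p 1) ∘ₗ ((mappingCocone.inl φ).v p p (add_zero p)).hom = 0 :=
        congrArg ModuleCat.Hom.hom (mappingCocone.inl_v_snd_v φ p (p - 1) (by lia))
      have h22 : pr2 φ (p - 1) p (sub_add_cancel p 1) ∘ₗ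
          ((mappingCocone.inr φ).1.v (p - 1) p (sub_add_cancel p 1)).hom = LinearMap.id :=
        congrArg ModuleCat.Hom.hom (mappingCocone.inr_v_snd_v φ (p - 1) p (sub_add_cancel p 1))
      rw [LinearMap.comp_apply, coconeE_apply eK eL φ φ' (sub_add_cancel p 1), LinearMap.add_apply,
        map_add, map_add]
      simp only [map_add, LinearMap.comp_apply, bc_comp_apply, h11, h12, h21, h22]
      simp only [bc, LinearMap.baseChange_id, LinearMap.baseChange_zero, LinearMap.zero_apply,
        LinearMap.id_apply, LinearEquiv.coe_coe, LinearEquiv.apply_symm_apply, map_zero, add_zero, zero_add]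
      exact mk_pr _ z)
    (LinearMap.ext fun x => by
      have hid : ((mappingCocone.inl φ).v p p (add_zero p)).hom ∘ₗ pr1 φ p +
          ((mappingCocone.inr φ).1.v (p - 1) p (sub_add_cancel p 1)).hom ∘ₗ
            pr2 φ (p - 1) p (sub_add_cancel p 1) = LinearMap.id :=
        LinearMap.ext fun z => congrArg (fun f => f.hom z) (mappingCocone.id_X φ p (p - 1) (by lia))
      rw [LinearMap.comp_apply, coconeE_apply eK eL φ φ' (sub_add_cancel p 1), LinearMap.add_apply,
        LinearMap.comp_apply, LinearMap.comp_apply, LinearMap.comp_apply, LinearMap.comp_apply, pr1_mk, pr2_mk]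
      simp only [LinearEquiv.coe_coe, LinearEquiv.symm_apply_apply, bc_comp_apply]
      rw [← LinearMap.add_apply]
      simp only [bc]
      rw [← LinearMap.baseChange_add, hid, LinearMap.baseChange_id])
  comm p q hpq x := by
    show eK.coconeE eL φ φ' q _ = (mappingCocone φ').d p q (eK.coconeE eL φ φ' p x)
    rw [coconeE_apply eK eL φ φ' hpq, coconeE_apply eK eL φ φ' (sub_add_cancel p 1), d_mk _ hpq]
    have h1 : pr1 φ q ∘ₗ ((mappingCocone φ).d p q).hom = (K.d p q).hom ∘ₗ pr1 φ p :=
      LinearMap.ext fun z => pr1_d p q z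
    have h2 : pr2 φ p q hpq ∘ₗ ((mappingCocone φ).d p q).hom =
        -((φ.f p).hom ∘ₗ pr1 φ p) - (L.d (p - 1) p).hom ∘ₗ pr2 φ (p - 1) p (sub_add_cancel p 1) :=
      LinearMap.ext fun z => pr2_d (sub_add_cancel p 1) hpq z
    rw [bc_comp_apply, bc_comp_apply, h1, h2]
    simp only [bc, LinearMap.baseChange_sub, LinearMap.baseChange_neg, LinearMap.baseChange_comp,
      LinearMap.sub_apply, LinearMap.neg_apply, LinearMap.comp_apply, map_sub, map_neg]
    rw [eK.comm p q hpq, eL.comm (p - 1) p (sub_add_cancel p 1), w]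

section Loc

variable (S : Submonoid R) (S' : Submonoid R') (hS : ∀ s : S, algebraMap R R' (s : R) ∈ S')
  (hS' : ∀ s' : S', ∃ s : S, algebraMap R R' (s : R) = (s' : R'))

variable {X : Type u} [AddCommGroup X] [Module R X] {X' : Type u} [AddCommGroup X'] [Module R' X']

include hS in
theorem exists_locFwd (e : (R' ⊗[R] X) ≃ₗ[R'] X') :
    ∃ Λ : R' ⊗[R] LocalizedModule S X →ₗ[R'] LocalizedModule S' X',
      ∀ x, Λ (1 ⊗ₜ[R] LocalizedModule.mkLinearMap S X x) = LocalizedModule.mkLinearMap S' X' (e (1 ⊗ₜ[R] x)) := by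
  letI : Module R (LocalizedModule S' X') := Module.compHom _ (algebraMap R R')
  haveI : IsScalarTower R R' (LocalizedModule S' X') := IsScalarTower.of_algebraMap_smul fun _ _ => rfl
  let g : X →ₗ[R] LocalizedModule S' X' :=
    (((LocalizedModule.mkLinearMap S' X').comp e.toLinearMap).restrictScalars R).comp (TensorProduct.mk R R' X 1)
  have hu : ∀ s : S, IsUnit ((algebraMap R (Module.End R (LocalizedModule S' X'))) s) := fun s => by
    rw [Module.End.isUnit_iff]
    have := (Module.End.isUnit_iff _).1 (IsLocalizedModule.map_units (LocalizedModule.mkLinearMap S' X') ⟨_, hS s⟩)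
    exact this
  refine ⟨(IsLocalizedModule.lift S (LocalizedModule.mkLinearMap S X) g hu).liftBaseChange R', fun x => ?_⟩
  rw [LinearMap.liftBaseChange_tmul, one_smul, IsLocalizedModule.lift_apply]
  rfl

include hS' in
theorem exists_locBwd (e : (R' ⊗[R] X) ≃ₗ[R'] X') :
    ∃ Λ : LocalizedModule S' X' →ₗ[R'] R' ⊗[R] LocalizedModule S X,
      ∀ y, Λ (LocalizedModule.mkLinearMap S' X' y) = bc R' (LocalizedModule.mkLinearMap S X) (e.symm y) := by
  have hu : ∀ s' : S', IsUnit ((algebraMap R' (Module.End R' (R' ⊗[R] LocalizedModule S X))) s') := fun s' => by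
    obtain ⟨s, hs⟩ := hS' s'
    obtain ⟨⟨u, v, huv, hvu⟩, hu⟩ := IsLocalizedModule.map_units (LocalizedModule.mkLinearMap S X) s
    refine ⟨⟨bc R' u, bc R' v, ?_, ?_⟩, ?_⟩
    · show (bc R' u).comp (bc R' v) = LinearMap.id
      rw [bc, bc, ← LinearMap.baseChange_comp, show u.comp v = LinearMap.id from huv, LinearMap.baseChange_id]
    · show (bc R' v).comp (bc R' u) = LinearMap.id
      rw [bc, bc, ← LinearMap.baseChange_comp, show v.comp u = LinearMap.id from hvu, LinearMap.baseChange_id]
    · refine LinearMap.ext fun z => ?_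
      rw [Module.algebraMap_end_apply, ← hs, algebraMap_smul]
      show bc R' u z = _
      rw [show u = (algebraMap R (Module.End R (LocalizedModule S X))) (s : R) from hu]
      induction z using TensorProduct.induction_on with
      | zero => simp
      | tmul a m => simp [bc, TensorProduct.tmul_smul]
      | add a b ha hb => rw [map_add, ha, hb, smul_add]
  exact ⟨IsLocalizedModule.lift S' (LocalizedModule.mkLinearMap S' X')
    ((bc R' (LocalizedModule.mkLinearMap S X)).comp e.symm.toLinearMap) hu,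
    fun y => IsLocalizedModule.lift_apply _ _ _ hu y⟩

/-- Localisation commutes with base change. -/
noncomputable def locE (e : (R' ⊗[R] X) ≃ₗ[R'] X') :
    (R' ⊗[R] LocalizedModule S X) ≃ₗ[R'] LocalizedModule S' X' :=
  LinearEquiv.ofLinearMap (exists_locFwd S S' hS e).choose (exists_locBwd S S' hS' e).choose
    (by
      obtain hΛ := (exists_locFwd S S' hS e).choose_spec
      obtain hΓ := (exists_locBwd S S' hS' e).choose_spec
      refine IsLocalizedModule.ext S' (LocalizedModule.mkLinearMap S' X')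
        (IsLocalizedModule.map_units (LocalizedModule.mkLinearMap S' X')) (LinearMap.ext fun y => ?_)
      rw [LinearMap.comp_apply, LinearMap.comp_apply, hΓ, LinearMap.comp_apply, LinearMap.id_apply]
      conv_rhs => rw [← e.apply_symm_apply y]
      induction e.symm y using TensorProduct.induction_on with
      | zero => simp
      | tmul a m =>
        rw [show a ⊗ₜ[R] m = a • ((1 : R') ⊗ₜ[R] m) by rw [TensorProduct.smul_tmul', smul_eq_mul, mul_one]]
        simp only [map_smul, bc, LinearMap.baseChange_tmul, hΛ]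
      | add a b ha hb => simp only [map_add, ha, hb])
    (by
      obtain hΛ := (exists_locFwd S S' hS e).choose_spec
      obtain hΓ := (exists_locBwd S S' hS' e).choose_spec
      refine TensorProduct.AlgebraTensorModule.curry_injective (LinearMap.ext_ring ?_)
      refine IsLocalizedModule.ext S (LocalizedModule.mkLinearMap S X) (fun s => ?_) (LinearMap.ext fun x => ?_)
      · obtain ⟨⟨u, v, huv, hvu⟩, hu⟩ := IsLocalizedModule.map_units (LocalizedModule.mkLinearMap S X) s
        rw [Module.End.isUnit_iff]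
        have hlt : ∀ z : R' ⊗[R] LocalizedModule S X, u.lTensor R' z = (s : R) • z := fun z => by
          rw [show u = (algebraMap R (Module.End R (LocalizedModule S X))) (s : R) from hu]
          induction z using TensorProduct.induction_on with
          | zero => simp
          | tmul a m => simp [TensorProduct.tmul_smul]
          | add a b ha hb => rw [map_add, ha, hb, smul_add]
        refine Function.bijective_iff_has_inverse.2 ⟨v.lTensor R', fun z => ?_, fun z => ?_⟩
        · show v.lTensor R' ((s : R) • z) = z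
          rw [← hlt, ← LinearMap.comp_apply, ← LinearMap.lTensor_comp, show v.comp u = LinearMap.id from hvu,
            LinearMap.lTensor_id, LinearMap.id_apply]
        · show (s : R) • v.lTensor R' z = z
          rw [← hlt, ← LinearMap.comp_apply, ← LinearMap.lTensor_comp, show u.comp v = LinearMap.id from huv,
            LinearMap.lTensor_id, LinearMap.id_apply]
      · show (exists_locBwd S S' hS' e).choose ((exists_locFwd S S' hS e).choose
          (1 ⊗ₜ[R] LocalizedModule.mkLinearMap S X x)) = 1 ⊗ₜ[R] LocalizedModule.mkLinearMap S X x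
        rw [hΛ, hΓ, e.symm_apply_apply, LinearMap.baseChange_tmul])

theorem locE_mk (e : (R' ⊗[R] X) ≃ₗ[R'] X') (x : X) :
    locE S S' hS hS' e (1 ⊗ₜ[R] LocalizedModule.mkLinearMap S X x) =
      LocalizedModule.mkLinearMap S' X' (e (1 ⊗ₜ[R] x)) :=
  (exists_locFwd S S' hS e).choose_spec x

end Loc

theorem powers_map (f : R) (s : Submonoid.powers f) :
    algebraMap R R' (s : R) ∈ Submonoid.powers (algebraMap R R' f) := by
  obtain ⟨n, hn⟩ := s.2
  exact ⟨n, by simp only [← hn, map_pow]⟩

theorem exists_powers_map (f : R) (s' : Submonoid.powers (algebraMap R R' f)) :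
    ∃ s : Submonoid.powers f, algebraMap R R' (s : R) = (s' : R') := by
  obtain ⟨n, hn⟩ := s'.2
  exact ⟨⟨f ^ n, n, rfl⟩, by rw [← hn]; exact map_pow _ _ _⟩

/-- Base change commutes with termwise localisation. -/
noncomputable def BCEq.locCx (eK : BCEq K K') (f : R) :
    BCEq ((DerCA.locCx (Submonoid.powers f)).obj K) ((DerCA.locCx (Submonoid.powers (algebraMap R R' f))).obj K') where
  e p := locE (Submonoid.powers f) (Submonoid.powers (algebraMap R R' f)) (powers_map f) (exists_powers_map f) (eK.e p)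
  comm p q hpq x := by
    let eE : ∀ r : ℤ, (R' ⊗[R] ↑(((DerCA.locCx (Submonoid.powers f)).obj K).X r)) ≃ₗ[R']
        ↑(((DerCA.locCx (Submonoid.powers (algebraMap R R' f))).obj K').X r) := fun r =>
      locE (Submonoid.powers f) (Submonoid.powers (algebraMap R R' f)) (powers_map f) (exists_powers_map f) (eK.e r)
    let F := (eE q).toLinearMap.comp (bc R' (((DerCA.locCx (Submonoid.powers f)).obj K).d p q).hom)
    let G := ((((DerCA.locCx (Submonoid.powers (algebraMap R R' f))).obj K').d p q).hom).comp (eE p).toLinearMap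
    show F x = G x
    induction x using TensorProduct.induction_on with
    | zero => exact (map_zero F).trans (map_zero G).symm
    | add a b ha hb => exact (map_add F a b).trans ((congrArg₂ (· + ·) ha hb).trans (map_add G a b).symm)
    | tmul a z =>
    rw [show a ⊗ₜ[R] z = a • ((1 : R') ⊗ₜ[R] z) by rw [TensorProduct.smul_tmul', smul_eq_mul, mul_one],
      map_smul, map_smul]
    refine congrArg (a • ·) ?_
    let S := Submonoid.powers f
    let S' := Submonoid.powers (algebraMap R R' f)
    obtain ⟨m, s, rfl⟩ := exists_frac S p z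
    show locE S S' (powers_map f) (exists_powers_map f) (eK.e q)
        (1 ⊗ₜ[R] (((DerCA.locCx S).obj K).d p q (frac S p m s))) =
      ((DerCA.locCx S').obj K').d p q (locE S S' (powers_map f) (exists_powers_map f) (eK.e p) (1 ⊗ₜ[R] frac S p m s))
    rw [d_frac]
    refine IsLocalizedModule.smul_injective (LocalizedModule.mkLinearMap S' (K'.X q))
      (⟨_, powers_map f s⟩ : S') ?_
    have key : ∀ (r : ℤ) (y : K.X r), algebraMap R R' (s : R) •
        (locE S S' (powers_map f) (exists_powers_map f) (eK.e r) (1 ⊗ₜ[R] (LocalizedModule.mk y s : LocalizedModule S (K.X r)))) =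
        LocalizedModule.mkLinearMap S' (K'.X r) (eK.e r (1 ⊗ₜ[R] y)) := fun r y => by
      rw [← map_smul, TensorProduct.smul_tmul', smul_eq_mul, mul_one, Algebra.algebraMap_eq_smul_one,
        TensorProduct.smul_tmul, show (s : R) • (LocalizedModule.mk y s : LocalizedModule S (K.X r)) =
          LocalizedModule.mkLinearMap S (K.X r) y from
            (LocalizedModule.smul'_mk (s : R) y s).trans (LocalizedModule.mk_cancel s y)]
      exact locE_mk S S' (powers_map f) (exists_powers_map f) (eK.e r) y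
    refine (key q (K.d p q m)).trans ?_
    refine Eq.trans ?_ (map_smul (((DerCA.locCx S').obj K').d p q).hom (algebraMap R R' (s : R))
      (locE S S' (powers_map f) (exists_powers_map f) (eK.e p) (1 ⊗ₜ[R] frac S p m s)))
    refine Eq.trans ?_ (congrArg (((DerCA.locCx S').obj K').d p q).hom (key p m)).symm
    refine Eq.trans ?_ (locFunctor_map_mk S' (K'.d p q) (eK.e p (1 ⊗ₜ[R] m)) 1).symm
    show LocalizedModule.mk (eK.e q (1 ⊗ₜ[R] K.d p q m)) (1 : S') = _
    rw [← eK.comm p q hpq]
    rfl

theorem BCEq.locCx_unit (eK : BCEq K K') (f : R) (p : ℤ) (x : R' ⊗[R] ↑(K.X p)) :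
    (eK.locCx f).e p (bc R' ((DerCA.locCxUnit (Submonoid.powers f) K).f p).hom x) =
      (DerCA.locCxUnit (Submonoid.powers (algebraMap R R' f)) K').f p (eK.e p x) := by
  induction x using TensorProduct.induction_on with
  | zero => simp
  | tmul a m =>
    rw [show a ⊗ₜ[R] m = a • ((1 : R') ⊗ₜ[R] m) by rw [TensorProduct.smul_tmul', smul_eq_mul, mul_one]]
    simp only [map_smul, bc, LinearMap.baseChange_tmul]
    exact congrArg (a • ·) (locE_mk _ _ (powers_map f) (exists_powers_map f) (eK.e p) m)
  | add a b ha hb => simp only [map_add, ha, hb]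

/-- The base change of the extended Čech complex. -/
noncomputable def BCEq.ec (eK : BCEq K K') : (fs : List R) → BCEq (EC fs K) (EC (fs.map (algebraMap R R')) K')
  | [] => eK
  | f :: fs => (eK.ec fs).cocone ((eK.ec fs).locCx f) ((eK.ec fs).locCx_unit f)

theorem subsingleton_tensor {X : Type u} [AddCommGroup X] [Module R X] (h : ∀ x : X, x = 0) :
    Subsingleton (R' ⊗[R] X) := by
  refine subsingleton_of_forall_eq 0 fun z => ?_
  induction z using TensorProduct.induction_on with
  | zero => rfl
  | tmul a m => rw [h m, TensorProduct.tmul_zero]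
  | add a b ha hb => rw [ha, hb, add_zero]

theorem nonempty_single_bcEq (M : ModuleCat.{u} R) :
    Nonempty (BCEq (single0 M) (single0 (ModuleCat.of R' (R' ⊗[R] M)))) := by
  have h0 : ∀ p : ℤ, p ≠ 0 → Subsingleton (R' ⊗[R] ↑((single0 M).X p)) := fun p hp =>
    subsingleton_tensor fun x => (ModuleCat.subsingleton_of_isZero
      (HomologicalComplex.isZero_single_obj_X (ComplexShape.up ℤ) 0 M p hp)).elim _ _
  have he : ∀ p : ℤ, Nonempty ((R' ⊗[R] ↑((single0 M).X p)) ≃ₗ[R']
      ↑((single0 (ModuleCat.of R' (R' ⊗[R] M))).X p)) := fun p => by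
    by_cases hp : p = 0
    · subst hp
      exact ⟨((HomologicalComplex.singleObjXSelf (ComplexShape.up ℤ) 0 M).toLinearEquiv.baseChange R R') ≪≫ₗ
        (HomologicalComplex.singleObjXSelf (ComplexShape.up ℤ) 0 (ModuleCat.of R' (R' ⊗[R] M))).toLinearEquiv.symm⟩
    · haveI := h0 p hp
      haveI := ModuleCat.subsingleton_of_isZero
        (HomologicalComplex.isZero_single_obj_X (ComplexShape.up ℤ) 0 (ModuleCat.of R' (R' ⊗[R] M)) p hp)
      exact ⟨LinearEquiv.ofSubsingleton _ _⟩
  let e := fun p => (he p).some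
  refine ⟨⟨e, fun p q hpq x => ?_⟩⟩
  have hd : (single0 M).d p q = 0 := HomologicalComplex.single_obj_d ..
  have hd' : (single0 (ModuleCat.of R' (R' ⊗[R] M))).d p q = 0 := HomologicalComplex.single_obj_d ..
  rw [hd, hd']
  simp [bc]

/-- Flat base change in cohomology. -/
theorem BCEq.nonempty_homology_equiv [Module.Flat R R'] (eK : BCEq K K') (p : ℤ) :
    Nonempty ((R' ⊗[R] ↑(K.homology p)) ≃ₗ[R'] ↑(K'.homology p)) := by
  let Z := LinearMap.ker (K.d p (p + 1)).hom
  let T₀ : R' ⊗[R] Z →ₗ[R'] ↑(K'.X p) := (eK.e p).toLinearMap.comp (bc R' Z.subtype)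
  have hex := Module.Flat.lTensor_exact R' (LinearMap.exact_subtype_ker_map (K.d p (p + 1)).hom)
  have hT₀ : ∀ z, T₀ z ∈ LinearMap.ker (K'.d p (p + 1)).hom := fun z => by
    show K'.d p (p + 1) (eK.e p _) = 0
    rw [← eK.comm p (p + 1) rfl, bc_comp_apply, LinearMap.comp_ker_subtype]
    simp [bc]
  let T : R' ⊗[R] Z →ₗ[R'] LinearMap.ker (K'.d p (p + 1)).hom := T₀.codRestrict _ hT₀
  have hT : Function.Bijective T := by
    refine ⟨fun z w h => ?_, fun y => ?_⟩
    · have h1 := (eK.e p).injective (congrArg Subtype.val h)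
      exact Module.Flat.lTensor_preserves_injective_linearMap Z.subtype Z.injective_subtype h1
    · have hy : bc R' (K.d p (p + 1)).hom ((eK.e p).symm y.1) = 0 := (eK.e (p + 1)).injective (by
        rw [eK.comm p (p + 1) rfl, (eK.e p).apply_symm_apply, map_zero]
        exact y.2)
      obtain ⟨z, hz⟩ := (hex _).1 hy
      exact ⟨z, Subtype.ext (((congrArg (eK.e p) hz)).trans ((eK.e p).apply_symm_apply _))⟩
  let U : R' ⊗[R] Z →ₗ[R'] ↑(K'.homology p) := (hcls K' p).comp T
  have hU : Function.Surjective U := (hcls_surjective p).comp hT.2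
  have hD : Function.Exact ((K.d (p - 1) p).hom.codRestrict Z fun y => by
      show K.d p (p + 1) (K.d (p - 1) p y) = 0
      rw [← ConcreteCategory.comp_apply, HomologicalComplex.d_comp_d]
      rfl) (hcls K p) := fun x => by
    rw [hcls_eq_zero_iff p (p - 1) (sub_add_cancel p 1)]
    exact ⟨fun ⟨y, hy⟩ => ⟨y, Subtype.ext hy⟩, fun ⟨y, hy⟩ => ⟨y, congrArg Subtype.val hy⟩⟩
  have hDex := lTensor_exact R' hD (hcls_surjective p)
  have hker : LinearMap.ker (bc R' (hcls K p)) = LinearMap.ker U := by
    ext z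
    rw [LinearMap.mem_ker, LinearMap.mem_ker]
    refine (hDex z).trans ?_
    show _ ↔ hcls K' p (T z) = 0
    rw [hcls_eq_zero_iff p (p - 1) (sub_add_cancel p 1)]
    constructor
    · rintro ⟨y, rfl⟩
      refine ⟨eK.e (p - 1) y, ?_⟩
      rw [← eK.comm (p - 1) p (sub_add_cancel p 1)]
      show _ = eK.e p (bc R' Z.subtype (bc R' _ y))
      rw [bc_comp_apply]
      rfl
    · rintro ⟨y', hy'⟩
      obtain ⟨y, rfl⟩ := (eK.e (p - 1)).surjective y'
      refine ⟨y, hT.1 (Subtype.ext ?_)⟩
      rw [← hy', ← eK.comm (p - 1) p (sub_add_cancel p 1)]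
      show eK.e p (bc R' Z.subtype (bc R' _ y)) = _
      rw [bc_comp_apply]
      rfl
  have hsur : Function.Surjective (bc R' (hcls K p)) := LinearMap.lTensor_surjective R' (hcls_surjective p)
  exact ⟨(LinearMap.quotKerEquivOfSurjective _ hsur).symm ≪≫ₗ Submodule.quotEquivOfEq _ _ hker ≪≫ₗ
    LinearMap.quotKerEquivOfSurjective _ hU⟩

theorem nonempty_H_baseChange [IsNoetherianRing R] [IsNoetherianRing R'] [Module.Flat R R'] (I : Ideal R)
    (M : ModuleCat.{u} R) (i : ℕ) :
    Nonempty ((R' ⊗[R] ↑((localCohomology I i).obj M)) ≃ₗ[R']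
      ↑((localCohomology (I.map (algebraMap R R')) i).obj (ModuleCat.of R' (R' ⊗[R] M)))) := by
  obtain ⟨G, hG⟩ := IsNoetherian.noetherian I
  let fs := G.toList
  have hI : I = Ideal.span {x | x ∈ fs} := by
    rw [← hG]
    congr 1
    ext x
    simp [fs]
  have hI' : I.map (algebraMap R R') = Ideal.span {x | x ∈ fs.map (algebraMap R R')} := by
    rw [hI, Ideal.map_span]
    congr 1
    ext x
    simp
  rw [hI', hI]
  obtain ⟨e₁⟩ := nonempty_extCechH_iso fs M i
  obtain ⟨e₂⟩ := nonempty_extCechH_iso (fs.map (algebraMap R R')) (ModuleCat.of R' (R' ⊗[R] M)) i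
  obtain ⟨b⟩ := nonempty_single_bcEq (R' := R') M
  obtain ⟨e₃⟩ := (b.ec fs).nonempty_homology_equiv (i : ℤ)
  have h1 : Nonempty (↑((EC fs (single0 M)).homology (i : ℤ)) ≃ₗ[R]
      ↑((localCohomology (Ideal.span {x | x ∈ fs}) i).obj M)) := by
    have e := Nonempty.intro e₁
    change Nonempty ((DerCA.extCech M fs).homology (i : ℤ) ≅ _) at e
    rw [extCech_eq] at e
    exact e.map Iso.toLinearEquiv
  have h2 : Nonempty (↑((EC (fs.map (algebraMap R R')) (single0 (ModuleCat.of R' (R' ⊗[R] M)))).homology (i : ℤ)) ≃ₗ[R']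
      ↑((localCohomology (Ideal.span {x | x ∈ fs.map (algebraMap R R')}) i).obj (ModuleCat.of R' (R' ⊗[R] M)))) := by
    have e := Nonempty.intro e₂
    change Nonempty ((DerCA.extCech _ (fs.map (algebraMap R R'))).homology (i : ℤ) ≅ _) at e
    rw [extCech_eq] at e
    exact e.map Iso.toLinearEquiv
  obtain ⟨f₁⟩ := h1
  obtain ⟨f₂⟩ := h2
  exact ⟨f₁.symm.baseChange R R' ≪≫ₗ e₃ ≪≫ₗ f₂⟩

end Groth.Agent.CechX
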