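import Groth.Agent.CechX.Koszul
import Groth.Agent.CechX.KoszulBasic
import Groth.Agent.CechX.Homology

/-!
The colimit of the top Koszul cohomology of powers as fractions.
-/

set_option maxHeartbeats 1000000

namespace Groth.Agent.CechX

universe u

open CategoryTheory CategoryTheory.Limits CochainComplex

variable {A : Type u} [CommRing A]

section Val

variable (M : ModuleCat.{u} A)

/-- the coefficient in degree zero of the Koszul complex of powers -/
noncomputable def topVal : (fs : List A) → (n : ℕ) → (↑((kz M fs n).X 0) →ₗ[A] ↑M)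
  | [], _ => (HomologicalComplex.singleObjXSelf (ComplexShape.up ℤ) 0 M).hom.hom
  | f :: fs, n => (topVal fs n).comp (c2 (f ^ n • 𝟙 (kz M fs n)) 0)

theorem topVal_cons (f : A) (fs : List A) (n : ℕ) (z : (mappingCone (f ^ n • 𝟙 (kz M fs n))).X 0) :
    topVal M (f :: fs) n z = topVal M fs n (c2 (f ^ n • 𝟙 (kz M fs n)) 0 z) := rfl

theorem topVal_bijective : ∀ (fs : List A) (n : ℕ), Function.Bijective (topVal M fs n)
  | [], _ => (HomologicalComplex.singleObjXSelf (ComplexShape.up ℤ) 0 M).toLinearEquiv.bijective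
  | f :: fs, n => by
    have h : Function.Bijective (c2 (f ^ n • 𝟙 (kz M fs n)) 0) :=
      ⟨fun z w h => cone_ext (zero_add 1)
          ((koszulCx_eq_zero M _ 1 one_pos _).trans (koszulCx_eq_zero M _ 1 one_pos _).symm) h,
        fun y => ⟨cmk _ 0 1 (zero_add 1) 0 y, c2_cmk _ _ _⟩⟩
    exact (topVal_bijective fs n).comp h

theorem topVal_boundary : ∀ (fs : List A) (n : ℕ) (x : (kz M fs n).X 0),
    (∃ y, (kz M fs n).d (-1) 0 y = x) ↔
      topVal M fs n x ∈ (Ideal.ofList (fs.map (· ^ n)) • (⊤ : Submodule A M)) := by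
  intro fs
  induction fs with
  | nil =>
    intro n (x : (single0 M).X 0)
    rw [List.map_nil, Ideal.ofList_nil, Submodule.bot_smul, Submodule.mem_bot]
    constructor
    · rintro ⟨y, rfl⟩
      exact (congrArg (topVal M [] n) ((congrArg _ (single0_eq_zero M (-1) (Or.inl (by lia)) y)).trans
        (map_zero _))).trans (map_zero _)
    · intro hx
      have : x = 0 := (topVal_bijective M [] n).1 (hx.trans (map_zero _).symm)
      subst this
      exact ⟨0, map_zero _⟩
  | cons f fs ih =>
    intro n (x : (mappingCone (f ^ n • 𝟙 (kz M fs n))).X 0)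
    rw [List.map_cons, Ideal.ofList_cons, Submodule.sup_smul, Submodule.ideal_span_singleton_smul, topVal_cons]
    constructor
    · rintro ⟨y, rfl⟩
      change topVal M fs n (c2 _ 0 ((mappingCone (f ^ n • 𝟙 (kz M fs n))).d (-1) 0 y)) ∈ _
      erw [c2_d (neg_add_cancel (1 : ℤ))]
      rw [map_add, smul_id_f_apply, map_smul]
      exact Submodule.add_mem_sup (Submodule.smul_mem_pointwise_smul _ (f ^ n) ⊤ trivial) ((ih n _).1 ⟨_, rfl⟩)
    · intro h
      obtain ⟨u, hu, v, hv, huv⟩ := Submodule.mem_sup.1 h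
      obtain ⟨m, -, rfl⟩ := (Submodule.mem_smul_pointwise_iff_exists _ _ _).1 hu
      obtain ⟨a, ha⟩ := (topVal_bijective M fs n).2 m
      obtain ⟨v', hv'⟩ := (topVal_bijective M fs n).2 v
      obtain ⟨b, hb⟩ := (ih n v').2 (hv'.symm ▸ hv)
      refine ⟨cmk _ (-1) 0 (neg_add_cancel 1) a b, (topVal_bijective M (f :: fs) n).1 ?_⟩
      change topVal M fs n (c2 _ 0 ((mappingCone (f ^ n • 𝟙 (kz M fs n))).d (-1) 0 _)) = topVal M fs n (c2 _ 0 x)
      rw [c2_d (neg_add_cancel (1 : ℤ)), c1_cmk, c2_cmk, smul_id_f_apply, hb, map_add, map_smul, ha, hv', huv]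

theorem topVal_trans : ∀ (fs : List A) (n m : ℕ) (h : n ≤ m) (z : (kz M fs n).X 0),
    topVal M fs m ((CohIII.koszulTrans M n m h fs).f 0 z) = fs.prod ^ (m - n) • topVal M fs n z := by
  intro fs
  induction fs with
  | nil =>
    intro n m h z
    rw [List.prod_nil, one_pow, one_smul]
    rfl
  | cons f fs ih =>
    intro n m h (z : (mappingCone (f ^ n • 𝟙 (kz M fs n))).X 0)
    erw [trans_cons M f fs h (zero_add 1), topVal_cons, c2_cmk]
    rw [map_smul, ih, smul_smul, List.prod_cons, mul_pow, topVal_cons]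

end Val

variable {L : Type u} [CommRing L] [Algebra A L]

/-- fractions with one denominator missing -/
def topN (fs : List A) [IsLocalization.Away fs.prod L] : Submodule A L :=
  Submodule.span A {y : L | ∃ g ∈ fs, ∃ n : ℕ, y = algebraMap A L (g ^ n) * IsLocalization.Away.invSelf fs.prod ^ n}

theorem algebraMap_mul_invSelf_pow (t : A) [IsLocalization.Away t L] (a : A) {n m : ℕ} (h : n ≤ m) :
    algebraMap A L (t ^ (m - n) * a) * IsLocalization.Away.invSelf t ^ m =
      algebraMap A L a * IsLocalization.Away.invSelf t ^ n := by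
  obtain ⟨j, rfl⟩ := Nat.exists_eq_add_of_le h
  rw [Nat.add_sub_cancel_left, map_mul, map_pow, pow_add]
  have h1 : algebraMap A L t ^ j * IsLocalization.Away.invSelf t ^ j = 1 := by
    rw [← mul_pow, IsLocalization.Away.mul_invSelf, one_pow]
  linear_combination (algebraMap A L a * IsLocalization.Away.invSelf (S := L) t ^ n) * h1

/-- **top Koszul colimit as fractions** -/
theorem nonempty_koszulHLim_top_equiv (fs : List A) [IsLocalization.Away fs.prod L] :
    Nonempty (CohIII.koszulHLim fs (ModuleCat.of A A) fs.length ≃ₗ[A] (L ⧸ topN (L := L) fs)) := by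
  classical
  let M := ModuleCat.of A A
  let t := fs.prod
  set k : ℤ := (fs.length : ℤ) - fs.length with hk
  have hk0 : k = 0 := by omega
  -- fractions
  let φ : ℕ → (A →ₗ[A] (L ⧸ topN (L := L) fs)) := fun n =>
    (topN (L := L) fs).mkQ.comp
      { toFun := fun a => algebraMap A L a * IsLocalization.Away.invSelf t ^ n
        map_add' := fun a b => by rw [map_add, add_mul]
        map_smul' := fun r a => by rw [smul_eq_mul, map_mul, Algebra.smul_def, RingHom.id_apply, mul_assoc] }
  have hφ : ∀ {n m : ℕ} (h : n ≤ m) (a : A), φ m (t ^ (m - n) • a) = φ n a := fun h a => by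
    exact congrArg Submodule.Quotient.mk (algebraMap_mul_invSelf_pow (L := L) t a h)
  have hmem : ∀ (n : ℕ) (a : A), a ∈ Ideal.ofList (fs.map (· ^ n)) • (⊤ : Submodule A A) → φ n a = 0 := by
    intro n a ha
    rw [smul_eq_mul, Ideal.mul_top] at ha
    refine (Submodule.span_le (p := LinearMap.ker (φ n))).2 ?_ ha
    intro y hy
    obtain ⟨g, hg, rfl⟩ := List.mem_map.1 hy
    exact (Submodule.Quotient.mk_eq_zero _).2 (Submodule.subset_span ⟨g, hg, n, rfl⟩)
  have htop : ∀ y : L, y ∈ topN (L := L) fs → ∃ (m : ℕ) (a : A),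
      a ∈ Ideal.ofList (fs.map (· ^ m)) ∧ y = algebraMap A L a * IsLocalization.Away.invSelf t ^ m := by
    have hup : ∀ {n m : ℕ} (_ : n ≤ m) (a : A), a ∈ Ideal.ofList (fs.map (· ^ n)) →
        t ^ (m - n) * a ∈ Ideal.ofList (fs.map (· ^ m)) := fun {n m} h a ha => by
      refine (Submodule.span_le (p := Submodule.comap (LinearMap.mulLeft A (t ^ (m - n))) (Ideal.ofList (fs.map (· ^ m))))).2 ?_ ha
      intro y hy
      obtain ⟨g, hg, rfl⟩ := List.mem_map.1 hy
      obtain ⟨c, hc⟩ := List.dvd_prod hg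
      change t ^ (m - n) * g ^ n ∈ Ideal.ofList (fs.map (· ^ m))
      rw [show t = g * c from hc, mul_pow, mul_assoc, mul_comm (c ^ (m - n)), ← mul_assoc, ← pow_add,
        Nat.sub_add_cancel h]
      exact Ideal.mul_mem_right _ _ (Ideal.subset_span (List.mem_map.2 ⟨g, hg, rfl⟩))
    intro y hy
    induction hy using Submodule.span_induction with
    | mem y hy =>
      obtain ⟨g, hg, n, rfl⟩ := hy
      exact ⟨n, g ^ n, Ideal.subset_span (List.mem_map.2 ⟨g, hg, rfl⟩), rfl⟩
    | zero => exact ⟨0, 0, zero_mem _, by simp⟩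
    | add y z _ _ hy hz =>
      obtain ⟨n, a, ha, rfl⟩ := hy
      obtain ⟨m, b, hb, rfl⟩ := hz
      refine ⟨max n m, _, add_mem (hup (le_max_left n m) a ha) (hup (le_max_right n m) b hb), ?_⟩
      rw [map_add, add_mul, algebraMap_mul_invSelf_pow (L := L) t a (le_max_left n m),
        algebraMap_mul_invSelf_pow (L := L) t b (le_max_right n m)]
    | smul r y _ hy =>
      obtain ⟨n, a, ha, rfl⟩ := hy
      exact ⟨n, r * a, Ideal.mul_mem_left _ r ha, by rw [Algebra.smul_def, map_mul, mul_assoc]⟩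
  -- the comparison
  let v : ∀ n, ↑((kz M fs n).X k) →ₗ[A] A := fun n =>
    (topVal M fs n).comp ((kz M fs n).XIsoOfEq hk0).hom.hom
  have hv : ∀ n, Function.Bijective (v n) := fun n =>
    (topVal_bijective M fs n).comp ((kz M fs n).XIsoOfEq hk0).toLinearEquiv.bijective
  have hvb : ∀ n (x : (kz M fs n).X k), (∃ y, (kz M fs n).d (k - 1) k y = x) ↔
      v n x ∈ (Ideal.ofList (fs.map (· ^ n)) • (⊤ : Submodule A A)) := by
    have key : ∀ j : ℤ, ∀ hj : j = 0, ∀ n (x : (kz M fs n).X j), (∃ y, (kz M fs n).d (j - 1) j y = x) ↔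
        topVal M fs n (((kz M fs n).XIsoOfEq hj).hom x) ∈ (Ideal.ofList (fs.map (· ^ n)) • (⊤ : Submodule A A)) := by
      rintro j rfl n x
      rw [HomologicalComplex.XIsoOfEq_rfl]
      exact topVal_boundary M fs n x
    exact fun n x => key k hk0 n x
  have hvt : ∀ {n m : ℕ} (h : n ≤ m) (z : (kz M fs n).X k),
      v m ((CohIII.koszulTrans M n m h fs).f k z) = t ^ (m - n) • v n z := by
    have key : ∀ j : ℤ, ∀ hj : j = 0, ∀ {n m : ℕ} (h : n ≤ m) (z : (kz M fs n).X j),
        topVal M fs m (((kz M fs m).XIsoOfEq hj).hom ((CohIII.koszulTrans M n m h fs).f j z)) =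
          t ^ (m - n) • topVal M fs n (((kz M fs n).XIsoOfEq hj).hom z) := by
      rintro j rfl n m h z
      rw [HomologicalComplex.XIsoOfEq_rfl, HomologicalComplex.XIsoOfEq_rfl]
      exact topVal_trans M fs n m h z
    exact fun {n m} h z => key k hk0 h z
  have hcyc : ∀ n (x : (kz M fs n).X k), (kz M fs n).d k (k + 1) x = 0 :=
    fun n x => koszulCx_eq_zero M _ _ (by omega) _
  let T : ∀ n, LinearMap.ker ((kz M fs n).d k (k + 1)).hom →ₗ[A] (L ⧸ topN (L := L) fs) := fun n =>
    (φ n).comp ((v n).comp (Submodule.subtype _))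
  have hT : ∀ n, LinearMap.ker (hcls (kz M fs n) k) ≤ LinearMap.ker (T n) := fun n x hx =>
    hmem n _ ((hvb n _).1 ((hcls_eq_zero_iff k (k - 1) (sub_add_cancel k 1) x).1 hx))
  let G : ∀ n, ↑((CohIII.koszulHPow fs M fs.length n)) →ₗ[A] (L ⧸ topN (L := L) fs) := fun n =>
    ((LinearMap.ker (hcls (kz M fs n) k)).liftQ (T n) (hT n)).comp
      (LinearMap.quotKerEquivOfSurjective _ (hcls_surjective k)).symm.toLinearMap
  have hG : ∀ n x, G n (hcls (kz M fs n) k x) = T n x := fun n x => by
    show Submodule.liftQ _ (T n) (hT n) ((LinearMap.quotKerEquivOfSurjective _ (hcls_surjective k)).symm (hcls (kz M fs n) k x)) = _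
    rw [LinearMap.quotKerEquivOfSurjective_symm_apply _ (hcls_surjective k)]
    rfl
  let F : CohIII.koszulHLim fs M fs.length →ₗ[A] (L ⧸ topN (L := L) fs) :=
    Module.DirectLimit.lift A ℕ _ _ G fun n m hnm c => by
      obtain ⟨x, rfl⟩ := hcls_surjective k c
      show G m (HomologicalComplex.homologyMap (CohIII.koszulTrans M n m hnm fs) k (hcls (kz M fs n) k x)) = _
      rw [map_hcls, hG, hG]
      exact (congrArg (φ m) (hvt hnm x.1)).trans (hφ hnm _)
  refine ⟨LinearEquiv.ofBijective F ⟨(injective_iff_map_eq_zero F).2 fun c hc => ?_, fun e => ?_⟩⟩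
  · induction c using Module.DirectLimit.induction_on with
    | ih n c =>
      obtain ⟨x, rfl⟩ := hcls_surjective k c
      erw [Module.DirectLimit.lift_of, hG] at hc
      obtain ⟨m, a, ha, hae⟩ := htop _ ((Submodule.Quotient.mk_eq_zero _).1 hc)
      change algebraMap A L (v n x.1) * IsLocalization.Away.invSelf t ^ n = _ at hae
      rw [← algebraMap_mul_invSelf_pow (L := L) t (v n x.1) (le_max_left n m),
        ← algebraMap_mul_invSelf_pow (L := L) t a (le_max_right n m)] at hae
      have hu : IsUnit (IsLocalization.Away.invSelf (S := L) t ^ max n m) :=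
        (IsUnit.of_mul_eq_one _ ((mul_comm _ _).trans (IsLocalization.Away.mul_invSelf t))).pow _
      obtain ⟨⟨_, l, rfl⟩, hl⟩ := (IsLocalization.eq_iff_exists (Submonoid.powers t) L).1 (hu.mul_left_inj.1 hae)
      refine (Module.DirectLimit.of_f (hij := (le_max_left n m).trans (Nat.le_add_left _ l))).symm.trans ?_
      refine (congrArg (Module.DirectLimit.of A ℕ _ _ (l + max n m)) ?_).trans (map_zero _)
      show HomologicalComplex.homologyMap (CohIII.koszulTrans M n _ _ fs) k (hcls (kz M fs n) k x) = 0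
      rw [map_hcls, hcls_eq_zero_iff k (k - 1) (sub_add_cancel k 1), hvb, hvt, smul_eq_mul, Ideal.mul_top]
      have e1 : t ^ (l + max n m - n) * v n x.1 = t ^ (l + max n m - m) * a := by
        rw [show l + max n m - n = l + (max n m - n) by omega, show l + max n m - m = l + (max n m - m) by omega,
          pow_add, pow_add, mul_assoc, mul_assoc]
        exact hl
      rw [smul_eq_mul, e1]
      refine (Submodule.span_le (p := Submodule.comap (LinearMap.mulLeft A (t ^ (l + max n m - m)))
        (Ideal.ofList (fs.map (· ^ (l + max n m)))))).2 ?_ ha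
      intro y hy
      obtain ⟨g, hg, rfl⟩ := List.mem_map.1 hy
      obtain ⟨c, hc⟩ := List.dvd_prod hg
      change t ^ (l + max n m - m) * g ^ m ∈ Ideal.ofList (fs.map (· ^ (l + max n m)))
      rw [show t = g * c from hc, mul_pow, mul_assoc, mul_comm (c ^ (l + max n m - m)), ← mul_assoc, ← pow_add,
        Nat.sub_add_cancel (by omega)]
      exact Ideal.mul_mem_right _ _ (Ideal.subset_span (List.mem_map.2 ⟨g, hg, rfl⟩))
  · obtain ⟨y, rfl⟩ := Submodule.Quotient.mk_surjective _ e
    obtain ⟨⟨a, _, n, rfl⟩, hy⟩ := IsLocalization.surj (Submonoid.powers t) y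
    obtain ⟨x, hx⟩ := (hv n).2 a
    refine ⟨Module.DirectLimit.of A ℕ _ _ n (hcls (kz M fs n) k ⟨x, hcyc n x⟩), ?_⟩
    erw [Module.DirectLimit.lift_of, hG]
    change Submodule.Quotient.mk (algebraMap A L (v n x) * IsLocalization.Away.invSelf t ^ n) = _
    rw [hx, ← hy, map_pow, mul_assoc, ← mul_pow, IsLocalization.Away.mul_invSelf, one_pow, mul_one]

end Groth.Agent.CechX
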